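import Cfsg.Agent.Lib.SDBudget.EndCentQ

/-!
# The diagonal element in the centraliser of an involution (endgame of the SD / wreathed keystone)

* `exists_frame` : for a quasi-dihedral or wreathed Sylow 2-subgroup and a normal `SL(2, q)` of
  `C / O(C)`, an element `a` of `C` generating the diagonal part, and `2 ^ n ∥ q - 1` or `2 ^ n ∥ q + 1`.
-/

set_option autoImplicit false
set_option linter.unusedSectionVars false
set_option linter.style.haveILetI false

namespace Cfsg.Agent.SDBudget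

open Subgroup Cfsg.Agent.PSL2 Cfsg.Agent.QDWreath

universe u

variable {C : Type u} [Group C] [Finite C]

/-- The diagonal element. -/
theorem exists_frame (P : Sylow 2 C)
    (hP : Cfsg.IsQuasiDihedral (P : Subgroup C) ∨ Cfsg.IsWreathed (P : Subgroup C))
    {z : C} (hz : orderOf z = 2) (hzc : ∀ y, Commute z y)
    {F : Type} [Field F] [Fintype F] (hodd : Odd (Nat.card F))
    (N : Subgroup (C ⧸ Cfsg.oddCore C)) [N.Normal] (e : N ≃* SL2 F) :
    ∃ (Q : Sylow 2 (C ⧸ Cfsg.oddCore C)) (n m : ℕ) (a : C),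
      QGroup.Amb Q (QuotientGroup.mk' (Cfsg.oddCore C) z) ∧
        DiagElem e hodd Q n (QuotientGroup.mk' (Cfsg.oddCore C) a) ∧ a ^ 2 ^ n = 1 ∧ a ∈ P ∧ 1 ≤ n ∧ Odd m ∧
          (Nat.card F - 1 = 2 ^ n * m ∨ Nat.card F + 1 = 2 ^ n * m) ∧
          (n = 1 ↔ Cfsg.IsQuasiDihedral (P : Subgroup C)) := by
  classical
  haveI := Fact.mk Nat.prime_two
  let π : C →* C ⧸ Cfsg.oddCore C := QuotientGroup.mk' (Cfsg.oddCore C)
  have hπs : Function.Surjective π := QuotientGroup.mk'_surjective _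
  have hcop : (Nat.card π.ker).Coprime 2 := by
    rw [show π.ker = Cfsg.oddCore C from QuotientGroup.ker_mk' _]; exact Cores.coprime_card_pPrimeCore 2
  set Q : Sylow 2 (C ⧸ Cfsg.oddCore C) := P.mapSurjective hπs with hQ
  let g : (P : Subgroup C) →* (Q : Subgroup (C ⧸ Cfsg.oddCore C)) :=
    (π.comp (P : Subgroup C).subtype).codRestrict _ fun x => by
      rw [hQ, Sylow.coe_mapSurjective]; exact mem_map_of_mem π x.2
  have hg : Function.Bijective g := by
    refine ⟨(injective_iff_map_eq_one g).2 fun x hx => ?_, fun y => ?_⟩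
    · obtain ⟨i, hi⟩ := IsPGroup.iff_orderOf.1 P.2 x
      have h2 := Subgroup.orderOf_dvd_natCard _ (MonoidHom.mem_ker.2 (congrArg Subtype.val hx) : (x : C) ∈ π.ker)
      rw [Subgroup.orderOf_coe, hi] at h2
      exact orderOf_eq_one_iff.1 (hi.trans (Nat.eq_one_of_dvd_coprimes (hcop.pow_right i) h2 dvd_rfl))
    · obtain ⟨w, hw, hwy⟩ := (show (y : C ⧸ Cfsg.oddCore C) ∈ (P : Subgroup C).map π by
        rw [← Sylow.coe_mapSurjective hπs]; exact y.2)
      exact ⟨⟨w, hw⟩, Subtype.ext hwy⟩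
  let E := MulEquiv.ofBijective g hg
  have hE : ∀ y, π ((E.symm y : (P : Subgroup C)) : C) = y := fun y => congrArg Subtype.val (E.apply_symm_apply y)
  have hA : QGroup.Amb Q (π z) := by
    refine ⟨hP.imp (QGroup.isQuasiDihedral_congr E) (QGroup.isWreathed_congr E), Cores.pPrimeCore_quotient_self 2,
      ?_, mem_center_iff.2 fun y => ?_⟩
    · refine orderOf_eq_prime ?_ fun h1 => ?_
      · rw [← map_pow, orderOf_dvd_iff_pow_eq_one.1 (dvd_of_eq hz), map_one]
      · have h2 := Subgroup.orderOf_dvd_natCard _ (MonoidHom.mem_ker.2 h1)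
        rw [hz] at h2
        exact absurd (Nat.eq_one_of_dvd_coprimes hcop h2 dvd_rfl) (by norm_num)
    · obtain ⟨y, rfl⟩ := hπs y
      rw [← map_mul, ← map_mul]
      exact congrArg π (hzc y).eq.symm
  have hlift : ∀ (n : ℕ) (w : (Q : Subgroup (C ⧸ Cfsg.oddCore C))),
      DiagElem e hodd Q n (w : C ⧸ Cfsg.oddCore C) →
      DiagElem e hodd Q n (π ((E.symm w : (P : Subgroup C)) : C)) ∧ ((E.symm w : (P : Subgroup C)) : C) ^ 2 ^ n = 1 :=
    fun n w hD => ⟨(hE w).symm ▸ hD, by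
      have h : w ^ 2 ^ n = 1 := Subtype.ext hD.pow_eq
      rw [← Subgroup.coe_pow, ← map_pow, h, map_one, Subgroup.coe_one]⟩
  have h2q := Nat.odd_iff.1 hodd
  by_cases hq : Cfsg.IsQuasiDihedral (Q : Subgroup (C ⧸ Cfsg.oddCore C))
  · have hPq := QGroup.isQuasiDihedral_congr E.symm hq
    obtain ⟨k, ⟨d⟩⟩ := nonempty_qdData hq
    have hy : orderOf ((d.y : (Q : Subgroup (C ⧸ Cfsg.oddCore C))) : C ⧸ Cfsg.oddCore C) = 2 := by
      rw [Subgroup.orderOf_coe]; exact d.order_y
    have hyz : (d.y : C ⧸ Cfsg.oddCore C) ≠ π z := fun h => by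
      have hc : d.y * d.x = d.x * d.y := Subtype.ext (by
        rw [Subgroup.coe_mul, Subgroup.coe_mul, h]; exact (mem_center_iff.1 hA.zc _).symm)
      have h1 := d.conj_x
      rw [hc, mul_inv_cancel_right, ← d.a_one'] at h1
      exact d.rexp_ne_one (d.a_injective h1).symm
    obtain ⟨h1, h2⟩ := hlift 1 d.y (exists_diagElem_qd e hodd hA hq d.y.2 hy hyz)
    rcases (show Nat.card F % 4 = 1 ∨ Nat.card F % 4 = 3 by omega) with h4 | h4
    · exact ⟨Q, 1, (Nat.card F + 1) / 2, _, hA, h1, h2, (E.symm d.y).2, le_rfl,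
        Nat.odd_iff.2 (by omega), Or.inr (by omega), iff_of_true rfl hPq⟩
    · exact ⟨Q, 1, (Nat.card F - 1) / 2, _, hA, h1, h2, (E.symm d.y).2, le_rfl,
        Nat.odd_iff.2 (by omega), Or.inl (by omega), iff_of_true rfl hPq⟩
  · obtain ⟨n, ⟨d⟩⟩ := nonempty_wrData (hA.qw.resolve_left hq)
    obtain ⟨h1, h2⟩ := hlift n (d.a 1 0) (exists_diagElem_wr e hodd hA d)
    obtain ⟨X, _, _, δ, hL⟩ := QGroup.exists_wline e hA hodd d
    obtain ⟨o, ho, hqo⟩ := hL.q_two
    have hn := d.hn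
    have hq1 := hL.one_lt
    have hqn : (Nat.card F : ℤ) - δ ≥ 0 := by rcases hL.sign with h | h <;> omega
    have ho0 : 0 ≤ o := by
      by_contra hneg
      rw [hqo] at hqn
      exact absurd hqn (not_le.2 (mul_neg_of_pos_of_neg (by positivity) (not_le.1 hneg)))
    obtain ⟨m, rfl⟩ := Int.eq_ofNat_of_zero_le ho0
    refine ⟨Q, n, m, _, hA, h1, h2, (E.symm (d.a 1 0)).2, le_trans one_le_two hn, by exact_mod_cast ho, ?_,
      iff_of_false (by omega) fun h => hq (QGroup.isQuasiDihedral_congr E h)⟩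
    rcases hL.sign with rfl | rfl
    · left
      have : ((Nat.card F - 1 : ℕ) : ℤ) = ((2 ^ n * m : ℕ) : ℤ) := by
        rw [Nat.cast_sub hq1.le]; push_cast at hqo ⊢; linear_combination hqo
      exact_mod_cast this
    · right
      have : ((Nat.card F + 1 : ℕ) : ℤ) = ((2 ^ n * m : ℕ) : ℤ) := by
        push_cast at hqo ⊢; linear_combination hqo
      exact_mod_cast this

end Cfsg.Agent.SDBudget
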