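import Cfsg.Agent.Lib.SDBudget.EndMinus
import Cfsg.Agent.Lib.SDBudget.EndFrame
import Cfsg.Agent.Lib.LThreeRec.Basic
import Cfsg.Agent.Lib.U3Field.Field

/-!
# The end game: `C(z)` as the normaliser of an image of `GL^±(2, q)`

From a core central in the diagonal part, cyclic, of order dividing `(q - δ) / 2 ^ n`:

* `exists_plus`  : `GL(2, q) → G`, image normal in `C(z)`, `C(z)` acting through odd field automorphisms;
* `exists_minus` : the same for `U2 K q`, `|K| = q ^ 2`, in the form of `U3Field`.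
-/

set_option autoImplicit false
set_option linter.unusedSectionVars false
set_option linter.style.haveILetI false

namespace Cfsg.Agent.SDBudget

open Subgroup Cfsg.Agent.PSL2
open Cfsg.Agent.AutPSL (semi semiSL)

universe u v

variable {G : Type u} [Group G] [Finite G] {z : G} {F : Type} [Field F] [Fintype F]

theorem toGL_semiSL' (g : GL (Fin (0 + 2)) F) (σ : F ≃+* F) (s : SL2 F) :
    (Matrix.SpecialLinearGroup.toGL (semiSL g σ s) : GL (Fin 2) F) =
      g * Matrix.GeneralLinearGroup.map (σ : F →+* F) (Matrix.SpecialLinearGroup.toGL s) * g⁻¹ :=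
  Units.ext rfl

/-- The field part has odd values. -/
theorem odd_orderOf_fieldPart {C : Type*} [Group C] [Finite C]
    {N : Subgroup (C ⧸ Cfsg.oddCore C)} [N.Normal] {e : N ≃* SL2 F} {hodd : Odd (Nat.card F)}
    {Q : Sylow 2 (C ⧸ Cfsg.oddCore C)} {n : ℕ} {a : C ⧸ Cfsg.oddCore C} (hD : DiagElem e hodd Q n a)
    (x : C ⧸ Cfsg.oddCore C) : Odd (orderOf (fieldPart e hodd x)) := by
  haveI := Fact.mk Nat.prime_two
  have h1 : ¬ 2 ∣ (fieldPart e hodd).ker.index := fun h =>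
    Q.not_dvd_index (h.trans (index_dvd_of_le hD.sylow_le))
  rw [index_ker] at h1
  have h2 : orderOf (fieldPart e hodd x) ∣ Nat.card (fieldPart e hodd).range :=
    Subgroup.orderOf_dvd_natCard _ ⟨x, rfl⟩
  exact Nat.odd_iff.2 (Nat.two_dvd_ne_zero.1 fun h => h1 (h.trans h2))

variable (hodd : Odd (Nat.card F)) {N : Subgroup (↥(centralizer ({z} : Set G)) ⧸ Cfsg.oddCore ↥(centralizer ({z} : Set G)))} [hNn : N.Normal] (e : N ≃* SL2 F)
  (hcore : ∀ x ∈ Cfsg.oddCore ↥(centralizer ({z} : Set G)), ∀ y : ↥(centralizer ({z} : Set G)),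
    fieldPart e hodd (QuotientGroup.mk' (Cfsg.oddCore ↥(centralizer ({z} : Set G))) y) = 1 → Commute x y)
  (hcyc : IsCyclic (Cfsg.oddCore ↥(centralizer ({z} : Set G))))
  {Q : Sylow 2 (↥(centralizer ({z} : Set G)) ⧸ Cfsg.oddCore ↥(centralizer ({z} : Set G)))} {n m : ℕ} {a : ↥(centralizer ({z} : Set G))}
  (hA : QGroup.Amb Q (QuotientGroup.mk' (Cfsg.oddCore ↥(centralizer ({z} : Set G))) ⟨z, mem_centralizer_singleton_iff.2 rfl⟩))
  (hD : DiagElem e hodd Q n (QuotientGroup.mk' (Cfsg.oddCore ↥(centralizer ({z} : Set G))) a)) (ha : a ^ 2 ^ n = 1)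
  (hn : 1 ≤ n) (hz : orderOf z = 2) (hm : Odd m) (hdvd : Nat.card (Cfsg.oddCore ↥(centralizer ({z} : Set G))) ∣ m)

include hcore hcyc hA hD ha hn hz hm hdvd

/-- **Sign `+`.** -/
theorem exists_plus (hq : Nat.card F - 1 = 2 ^ n * m) :
    ∃ (p : GL (Fin 2) F →* G) (χ : ↥(centralizer ({z} : Set G)) →* (F ≃+* F)),
      p LThreeRec.gt = z ∧ p.ker ≤ center (GL (Fin 2) F) ∧ Odd (Nat.card p.ker) ∧ p.range ≤ centralizer ({z} : Set G) ∧
      (∀ c : ↥(centralizer ({z} : Set G)), χ c = 1 ↔ (c : G) ∈ p.range) ∧ (∀ c : ↥(centralizer ({z} : Set G)), Odd (orderOf (χ c))) ∧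
      ∀ c : ↥(centralizer ({z} : Set G)), ∃ g : GL (Fin 2) F, ∀ h : GL (Fin 2) F, (h : Matrix (Fin 2) (Fin 2) F).det = 1 →
        (c : G) * p h * (c : G)⁻¹ = p (g * Matrix.GeneralLinearGroup.map ((χ c : F ≃+* F) : F →+* F) h * g⁻¹) := by
  classical
  let π : ↥(centralizer ({z} : Set G)) →* ↥(centralizer ({z} : Set G)) ⧸ Cfsg.oddCore ↥(centralizer ({z} : Set G)) := QuotientGroup.mk' (Cfsg.oddCore ↥(centralizer ({z} : Set G)))
  have hπker : π.ker = Cfsg.oddCore ↥(centralizer ({z} : Set G)) := QuotientGroup.ker_mk' _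
  have hkodd : Odd (Nat.card π.ker) := by
    rw [hπker]
    exact Nat.odd_iff.2 (Nat.two_dvd_ne_zero.1 fun h => Nat.prime_two.not_dvd_one
      ((Cores.coprime_card_pPrimeCore (G := ↥(centralizer ({z} : Set G))) 2) ▸ Nat.dvd_gcd h dvd_rfl))
  have hz2 : (⟨z, mem_centralizer_singleton_iff.2 rfl⟩ : ↥(centralizer ({z} : Set G))) * ⟨z, mem_centralizer_singleton_iff.2 rfl⟩ = 1 :=
    Subtype.ext (show z * z = 1 by rw [← pow_two]; exact orderOf_dvd_iff_pow_eq_one.1 (dvd_of_eq hz))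
  obtain ⟨p, hpr, hpk, hpo, hpz, hact⟩ := exists_pi_plus e hodd π (QuotientGroup.mk'_surjective _) hkodd
    (fun x hx y hy => hcore x (hπker ▸ hx) y hy) (by rw [hπker]; exact hcyc) hA
    (fun y => Subtype.ext (mem_centralizer_singleton_iff.1 y.2).symm) hz2 hn hD ha hq hm (by rw [hπker]; exact hdvd)
  set χ : ↥(centralizer ({z} : Set G)) →* (F ≃+* F) := (fieldPart e hodd).comp π
  set p' : GL (Fin 2) F →* G := (centralizer ({z} : Set G)).subtype.comp p
  have hk : p'.ker = p.ker := by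
    ext g
    rw [MonoidHom.mem_ker, MonoidHom.mem_ker]
    exact OneMemClass.coe_eq_one
  refine ⟨p', χ, ?_, hk ▸ hpk, hk ▸ hpo, ?_, fun c => ?_, fun c => odd_orderOf_fieldPart hD _, fun c => ?_⟩
  · show ((p LThreeRec.gt : ↥(centralizer ({z} : Set G))) : G) = z
    have hgt : (LThreeRec.gt : GL (Fin 2) F) = Matrix.SpecialLinearGroup.toGL (-1) :=
      LThreeRec.ext2 (by simp) (by simp) (by simp) (by simp)
    rw [hgt, hpz]
  · rintro _ ⟨g, rfl⟩; exact (p g).2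
  · constructor
    · intro hc
      obtain ⟨g, hg⟩ := (show c ∈ p.range by rw [hpr]; exact hc)
      exact ⟨g, congrArg Subtype.val hg⟩
    · rintro ⟨g, hg⟩
      have h1 : c ∈ p.range := ⟨g, Subtype.ext hg⟩
      rw [hpr] at h1
      exact h1
  · obtain ⟨g, hg⟩ := hact c
    refine ⟨g, fun h hh => ?_⟩
    have e1 : Matrix.SpecialLinearGroup.toGL (⟨h.1, hh⟩ : SL2 F) = h := Units.ext rfl
    have := congrArg Subtype.val (hg ⟨h.1, hh⟩)
    refine (Eq.trans ?_ this).trans ?_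
    · show _ = (c : G) * ((p (Matrix.SpecialLinearGroup.toGL ⟨h.1, hh⟩) : ↥(centralizer ({z} : Set G))) : G) * (c : G)⁻¹
      rw [e1]; rfl
    · refine congrArg p' ((toGL_semiSL' g _ _).trans ?_)
      rw [e1]; rfl

section Minus

open Cfsg.Agent.U3Recog Cfsg.Agent.Unitary

variable {K : Type v} [Field K] [Fintype K] {q : ℕ} (hK : Fintype.card K = q ^ 2)
  (ι : F ≃+* fixedField hK) {δ : K} (hδ0 : δ ≠ 0) (hδ : δ ^ q = -δ)

/-- **Sign `-`**, on the image of `SL(2, q)`. -/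
theorem exists_minus_aux (h2 : (2 : K) ≠ 0) (hq : q + 1 = 2 ^ n * m) :
    ∃ (p : U2 K q →* G) (χ : ↥(centralizer ({z} : Set G)) →* (F ≃+* F)),
      p (negOne hK) = z ∧ (∀ g ∈ p.ker, e01 g = 0 ∧ e10 g = 0 ∧ e00 g = e11 g) ∧ Odd (Nat.card p.ker) ∧
      p.range ≤ centralizer ({z} : Set G) ∧ (∀ c : ↥(centralizer ({z} : Set G)), χ c = 1 ↔ (c : G) ∈ p.range) ∧ (∀ c : ↥(centralizer ({z} : Set G)), Odd (orderOf (χ c))) ∧
      ∀ c : ↥(centralizer ({z} : Set G)), ∃ g : GL (Fin (0 + 2)) F, ∀ x : SL2 F,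
        (c : G) * p (slK hK ι hδ0 hδ x) * (c : G)⁻¹ = p (slK hK ι hδ0 hδ (semiSL g (χ c) x)) := by
  classical
  let π : ↥(centralizer ({z} : Set G)) →* ↥(centralizer ({z} : Set G)) ⧸ Cfsg.oddCore ↥(centralizer ({z} : Set G)) := QuotientGroup.mk' (Cfsg.oddCore ↥(centralizer ({z} : Set G)))
  have hπker : π.ker = Cfsg.oddCore ↥(centralizer ({z} : Set G)) := QuotientGroup.ker_mk' _
  have hkodd : Odd (Nat.card π.ker) := by
    rw [hπker]
    exact Nat.odd_iff.2 (Nat.two_dvd_ne_zero.1 fun h => Nat.prime_two.not_dvd_one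
      ((Cores.coprime_card_pPrimeCore (G := ↥(centralizer ({z} : Set G))) 2) ▸ Nat.dvd_gcd h dvd_rfl))
  have hz2 : (⟨z, mem_centralizer_singleton_iff.2 rfl⟩ : ↥(centralizer ({z} : Set G))) * ⟨z, mem_centralizer_singleton_iff.2 rfl⟩ = 1 :=
    Subtype.ext (show z * z = 1 by rw [← pow_two]; exact orderOf_dvd_iff_pow_eq_one.1 (dvd_of_eq hz))
  obtain ⟨p, hpr, hpk, hpo, hpz, hact⟩ := exists_pi_minus e hodd π (QuotientGroup.mk'_surjective _) hkodd
    (fun x hx y hy => hcore x (hπker ▸ hx) y hy) (by rw [hπker]; exact hcyc) hA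
    (fun y => Subtype.ext (mem_centralizer_singleton_iff.1 y.2).symm) hz2 hn hD ha hK h2 ι hδ0 hδ hq hm
    (by rw [hπker]; exact hdvd)
  set χ : ↥(centralizer ({z} : Set G)) →* (F ≃+* F) := (fieldPart e hodd).comp π
  set p' : U2 K q →* G := (centralizer ({z} : Set G)).subtype.comp p
  have hk : p'.ker = p.ker := by
    ext g
    rw [MonoidHom.mem_ker, MonoidHom.mem_ker]
    exact OneMemClass.coe_eq_one
  refine ⟨p', χ, ?_, hk ▸ hpk, hk ▸ hpo, ?_, fun c => ?_, fun c => odd_orderOf_fieldPart hD _, fun c => ?_⟩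
  · exact congrArg Subtype.val hpz
  · rintro _ ⟨g, rfl⟩; exact (p g).2
  · constructor
    · intro hc
      obtain ⟨g, hg⟩ := (show c ∈ p.range by rw [hpr]; exact hc)
      exact ⟨g, congrArg Subtype.val hg⟩
    · rintro ⟨g, hg⟩
      have h1 : c ∈ p.range := ⟨g, Subtype.ext hg⟩
      rw [hpr] at h1
      exact h1
  · obtain ⟨g, hg⟩ := hact c
    exact ⟨g, fun x => congrArg Subtype.val (hg x)⟩

end Minus

end Cfsg.Agent.SDBudget
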