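import Cfsg.Agent.Lib.QGroup.SLCover

/-!
# A stem extension of `SL(2, q)` with small kernel is trivial (endgame of the SD / wreathed keystone)

The kernel has order dividing 3 for `q = 9` and 1 otherwise; so it is trivial if its order divides
`q - 1` or `q + 1`.
-/

set_option autoImplicit false

namespace Cfsg.Agent.SDBudget

open Subgroup Matrix

universe v

/-- A stem extension of `SL(2, q)`, `q` odd, whose kernel has order dividing `q - 1` or `q + 1`. -/
theorem stem_ker_eq_bot {F : Type} [Field F] [Fintype F] (hodd : Odd (Fintype.card F))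
    {Γ : Type v} [Group Γ] [Finite Γ] (σ : Γ →* SpecialLinearGroup (Fin 2) F)
    (hσ : Cfsg.IsStemExtension σ)
    (hd : Nat.card σ.ker ∣ Fintype.card F - 1 ∨ Nat.card σ.ker ∣ Fintype.card F + 1) : σ.ker = ⊥ := by
  classical
  let e : Shrink.{0} Γ ≃* Γ := Shrink.mulEquiv
  haveI : Finite (Shrink.{0} Γ) := Finite.of_equiv _ e.symm.toEquiv
  set τ : Shrink.{0} Γ →* SpecialLinearGroup (Fin 2) F := σ.comp e.toMonoidHom with hτ
  have hker : τ.ker = σ.ker.comap e.toMonoidHom := by rw [hτ, MonoidHom.comap_ker]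
  have hst : Cfsg.IsStemExtension τ := by
    refine ⟨hσ.1.comp e.surjective, fun x hx => ?_, fun x hx => ?_⟩
    · rw [hker] at hx
      refine mem_center_iff.2 fun y => e.injective ?_
      rw [map_mul, map_mul]
      exact mem_center_iff.1 (hσ.2.1 hx) _
    · rw [hker] at hx
      have h := mem_map_of_mem e.symm.toMonoidHom (hσ.2.2 hx)
      rw [map_commutator_eq, MonoidHom.range_eq_top.2 e.symm.surjective] at h
      rw [commutator_def]
      simpa using h
  have h3 : Nat.card τ.ker = Nat.card σ.ker := by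
    rw [hker]
    exact Nat.card_congr (e.toEquiv.subtypeEquiv fun a => Iff.rfl)
  obtain ⟨n, hn, π, hπ⟩ : ∃ n, (n = 1 ∨ (Fintype.card F = 9 ∧ n = 3)) ∧
      ∃ π : Multiplicative (ZMod n) →* τ.ker, Function.Surjective π := by
    by_cases h9 : Fintype.card F = 9
    · exact ⟨3, Or.inr ⟨h9, rfl⟩, (Cfsg.Agent.S2118.result h9).2 _ τ hst⟩
    · exact ⟨1, Or.inl rfl,
        (Cfsg.Agent.S2117.result (fun h4 => by rw [h4] at hodd; revert hodd; decide) h9).2 _ τ hst⟩
  have h1 : Nat.card σ.ker ∣ n := by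
    have h := card_range_dvd π
    rw [MonoidHom.range_eq_top.2 hπ, card_top, h3] at h
    rcases hn with rfl | ⟨-, rfl⟩ <;> simpa using h
  refine eq_bot_of_card_eq _ ?_
  rcases hn with rfl | ⟨h9, rfl⟩
  · exact Nat.dvd_one.1 h1
  · rw [h9] at hd
    rcases (Nat.dvd_prime Nat.prime_three).1 h1 with h | h
    · exact h
    · rw [h] at hd; norm_num at hd

end Cfsg.Agent.SDBudget
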