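import Cfsg.Agent.Lib.SDBudget.EndCentQ
import Cfsg.Agent.Lib.SDBudget.EndStem

/-!
# The shape of the diagonal part of `C(z)` when `O(C(z))` is central in it (endgame)

`C` maps onto `H = C / O` with `O` of odd order, cyclic, centralised by the preimage of `SL(2, q)` and
by the lift `a` of the diagonal element, `|O|` dividing `q - 1` or `q + 1`.

* `exists_lift` : `SL(2, q)` lifts to a normal subgroup of `C` meeting `O` trivially;
* `exists_shape` : the preimage of the diagonal part has the shape `(SL(2, q) ⋊ ⟨a⟩) × O`.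
-/

set_option autoImplicit false
set_option linter.unusedSectionVars false
set_option linter.style.haveILetI false

namespace Cfsg.Agent.SDBudget

open Subgroup Cfsg.Agent.PSL2
open Cfsg.Agent.AutPSL (semi semiSL)
open scoped commutatorElement

universe u w

variable {C : Type w} [Group C] [Finite C] {H : Type u} [Group H] [Finite H] {F : Type} [Field F] [Fintype F]
  {N : Subgroup H} [hNn : N.Normal] (e : N ≃* SL2 F) (hodd : Odd (Nat.card F))
  (π : C →* H) (hπ : Function.Surjective π) (hker : Odd (Nat.card π.ker))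
  (hd : Nat.card π.ker ∣ Nat.card F - 1 ∨ Nat.card π.ker ∣ Nat.card F + 1)
  (hLO : ∀ x, π x ∈ N → ∀ o ∈ π.ker, Commute x o)

include e hodd hπ hker hd hLO

/-- `SL(2, q)` lifts to a normal subgroup meeting the kernel trivially. -/
theorem exists_lift : ∃ L : Subgroup C, L.Normal ∧ (∀ x ∈ L, π x = 1 → x = 1) ∧ L.map π = N := by
  classical
  haveI : (N.comap π).Normal := inferInstance
  rcases lt_or_ge (Fintype.card F) 4 with h4 | h4
  · refine ⟨N.comap π, inferInstance, fun x _ hx => ?_, map_comap_eq_self_of_surjective hπ N⟩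
    have h3 : Nat.card F = 3 := by
      rw [Nat.card_eq_fintype_card] at hodd ⊢
      have := Fintype.one_lt_card (α := F)
      obtain ⟨k, hk⟩ := hodd
      omega
    have h1 : Nat.card π.ker = 1 := by
      rw [h3] at hd
      rcases hd with h | h
      · rcases (Nat.dvd_prime Nat.prime_two).1 h with h | h
        · exact h
        · rw [h] at hker; exact absurd hker (by decide)
      · exact Nat.Coprime.eq_one_of_dvd (Nat.Coprime.pow_right 2 (Nat.coprime_two_right.2 hker)) h
    exact (Subgroup.eq_bot_iff_forall _).1 (Subgroup.eq_bot_of_card_eq _ h1) x hx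
  set L1 := N.comap π
  have hcm : ∀ x ∈ L1, ∀ o ∈ π.ker, Commute x o := fun x hx => hLO x hx
  have hsl : commutator (SL2 F) = ⊤ := Law.commutator_sl2_eq_top h4
  have hNN : ⁅N, N⁆ = N := by
    have h1 : ⁅(⊤ : Subgroup N), (⊤ : Subgroup N)⁆ = (⊤ : Subgroup N) := by
      have := congrArg (Subgroup.map e.symm.toMonoidHom) hsl
      rwa [_root_.commutator_def, map_commutator, map_top_of_surjective _ e.symm.surjective] at this
    have h2 := congrArg (Subgroup.map N.subtype) h1
    rwa [map_commutator, ← MonoidHom.range_eq_map, range_subtype] at h2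
  set L : Subgroup C := ⁅L1, L1⁆ with hL
  have hLmap : L.map π = N := by rw [hL, map_commutator, map_comap_eq_self_of_surjective hπ N, hNN]
  haveI hLn : L.Normal := commutator_normal L1 L1
  refine ⟨L, hLn, ?_, hLmap⟩
  have hLle : L ≤ L1 := commutator_le_self _
  have hLp : L ≤ ⁅L, L⁆ := by
    conv_lhs => rw [hL]
    refine commutator_le.2 fun x hx y hy => ?_
    have hdec : ∀ x ∈ L1, ∃ g ∈ L, ∃ k ∈ π.ker, x = g * k := fun x hx => by
      obtain ⟨g, hg, hgx⟩ := (show π x ∈ L.map π by rw [hLmap]; exact hx)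
      exact ⟨g, hg, g⁻¹ * x, by rw [MonoidHom.mem_ker, map_mul, map_inv, hgx, inv_mul_cancel], by group⟩
    obtain ⟨g, hg, k, hk, rfl⟩ := hdec x hx
    obtain ⟨g', hg', k', hk', rfl⟩ := hdec y hy
    have c1 := hcm g (hLle hg)
    have c2 := hcm g' (hLle hg')
    have hkk : Commute k k' := hcm k (show π k ∈ N by rw [MonoidHom.mem_ker.1 hk]; exact one_mem _) k' hk'
    have e1 : ⁅g * k, g' * k'⁆ = ⁅g, g'⁆ := by
      rw [commutatorElement_def, commutatorElement_def]
      calc g * k * (g' * k') * (g * k)⁻¹ * (g' * k')⁻¹ = g * (k * g') * k' * k⁻¹ * g⁻¹ * k'⁻¹ * g'⁻¹ := by group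
        _ = g * g' * (k * k') * k⁻¹ * g⁻¹ * k'⁻¹ * g'⁻¹ := by rw [(c2 k hk).symm.eq]; group
        _ = g * g' * (k' * g⁻¹) * k'⁻¹ * g'⁻¹ := by rw [hkk.eq]; group
        _ = g * g' * g⁻¹ * g'⁻¹ := by rw [((c1 k' hk').inv_left).symm.eq]; group
    rw [e1]
    exact commutator_mem_commutator hg hg'
  let σ : L →* SL2 F := e.toMonoidHom.comp ((π.comp L.subtype).codRestrict N fun x => hLle x.2)
  have hσker : ∀ x : L, x ∈ σ.ker ↔ π (x : C) = 1 := fun x => by
    rw [MonoidHom.mem_ker]
    show e _ = 1 ↔ _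
    rw [MulEquiv.map_eq_one_iff, Subtype.ext_iff]
    rfl
  have hst : Cfsg.IsStemExtension σ := by
    refine ⟨fun y => ?_, fun x hx => mem_center_iff.2 fun w => Subtype.ext ?_, fun x _ => ?_⟩
    · obtain ⟨g, hg, hgy⟩ := (show (e.symm y : H) ∈ L.map π by rw [hLmap]; exact (e.symm y).2)
      refine ⟨⟨g, hg⟩, ?_⟩
      show e _ = y
      conv_rhs => rw [← e.apply_symm_apply y]
      exact congrArg e (Subtype.ext hgy)
    · exact (hcm _ (hLle w.2) _ ((hσker x).1 hx)).eq
    · have h2 : (x : C) ∈ (commutator L).map L.subtype := by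
        rw [_root_.commutator_def, map_commutator, ← MonoidHom.range_eq_map, range_subtype]
        exact hLp x.2
      obtain ⟨w, hw, hwx⟩ := h2
      rwa [← Subtype.ext hwx]
  have hbot := stem_ker_eq_bot (by rwa [Nat.card_eq_fintype_card] at hodd) σ hst (by
    have h1 : Nat.card σ.ker ∣ Nat.card π.ker := card_dvd_of_injective
      ((L.subtype.comp σ.ker.subtype).codRestrict π.ker fun x => (hσker x).1 x.2) fun x y h =>
        Subtype.ext (Subtype.ext (congrArg Subtype.val h :))
    rw [← Nat.card_eq_fintype_card]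
    exact hd.imp h1.trans h1.trans)
  intro x hx hx1
  exact congrArg Subtype.val ((Subgroup.eq_bot_iff_forall _).1 hbot ⟨x, hx⟩ ((hσker ⟨x, hx⟩).2 hx1))

variable {S : Sylow 2 H} {z : H} (hA : QGroup.Amb S z) {n : ℕ} {a : C}
  (hD : DiagElem e hodd S n (π a)) (ha : a ^ 2 ^ n = 1) (hcyc : IsCyclic π.ker)
  (hao : ∀ o ∈ π.ker, Commute a o)

include hA hD ha hcyc hao

/-- The preimage of the diagonal part has the shape. -/
theorem exists_shape : ∃ T : Shape ((fieldPart e hodd).ker.comap π) F n,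
    Nat.card T.Sig = Nat.card π.ker ∧ T.Sig = π.ker.subgroupOf _ ∧
      (∀ x, π ((T.e.symm x : (fieldPart e hodd).ker.comap π) : C) = (e.symm x : H)) ∧
      (T.N.map ((fieldPart e hodd).ker.comap π).subtype).Normal := by
  classical
  obtain ⟨L, hLn, hLinj, hLmap⟩ := exists_lift e hodd π hπ hker hd hLO
  set D := (fieldPart e hodd).ker
  set C0 := D.comap π
  have hkC : π.ker ≤ C0 := fun x hx => show π x ∈ D by rw [MonoidHom.mem_ker.1 hx]; exact one_mem _
  have hLC : L ≤ C0 := fun x hx => le_ker e hodd (hLmap ▸ mem_map_of_mem π hx)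
  have haC : a ∈ C0 := hD.diag
  -- the isomorphism `L ≅ N`
  let ψ : L.subgroupOf C0 →* N := ((π.comp C0.subtype).comp (L.subgroupOf C0).subtype).codRestrict N fun x =>
    hLmap ▸ mem_map_of_mem π (mem_subgroupOf.1 x.2)
  have hψ : Function.Bijective ψ := by
    refine ⟨(injective_iff_map_eq_one ψ).2 fun x hx => ?_, fun y => ?_⟩
    · exact Subtype.ext (Subtype.ext (hLinj _ (mem_subgroupOf.1 x.2) (congrArg Subtype.val hx)))
    · obtain ⟨g, hg, hgy⟩ := (show (y : H) ∈ L.map π by rw [hLmap]; exact y.2)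
      exact ⟨⟨⟨g, hLC hg⟩, mem_subgroupOf.2 hg⟩, Subtype.ext hgy⟩
  let eL : L.subgroupOf C0 ≃* SL2 F := (MulEquiv.ofBijective ψ hψ).trans e
  -- the decomposition of the diagonal part
  have hord : orderOf (π a) = 2 ^ n := Nat.dvd_antisymm (orderOf_dvd_of_pow_eq_one hD.pow_eq)
    (hD.faithful _ fun x _ => by rw [pow_orderOf_eq_one]; exact Commute.one_left x)
  have hdis : Disjoint N (zpowers (π a)) := disjoint_def.2 fun {x} hx hx' => by
    obtain ⟨k, rfl⟩ := mem_powers_iff_mem_zpowers.2 hx'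
    exact hD.disj k hx
  have hdec : ∀ y ∈ D, ∃ x ∈ N, ∃ k : ℕ, y = x * π a ^ k := by
    let j : N × zpowers (π a) → D := fun x => ⟨(x.1 : H) * (x.2 : H),
      mul_mem (le_ker e hodd x.1.2) (zpowers_le.2 hD.diag x.2.2)⟩
    have hj : Function.Bijective j := (Nat.bijective_iff_injective_and_card j).2
      ⟨fun x y hxy => mul_injective_of_disjoint hdis (congrArg Subtype.val hxy), by
        rw [Nat.card_prod, Nat.card_congr e.toEquiv, Nat.card_zpowers, hord, hD.card_ker e hodd hA]⟩
    intro y hy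
    obtain ⟨⟨x, p⟩, hxp⟩ := hj.2 ⟨y, hy⟩
    obtain ⟨k, hk⟩ := mem_powers_iff_mem_zpowers.2 p.2
    exact ⟨x, x.2, k, (congrArg Subtype.val hxp).symm.trans (by simp only [j]; rw [← hk])⟩
  haveI := hcyc
  haveI : IsMulCommutative π.ker := IsCyclic.isMulCommutative
  have hcent : ∀ y ∈ C0, ∀ o ∈ π.ker, Commute y o := fun y hy o ho => by
    obtain ⟨x, hx, k, hxk⟩ := hdec _ hy
    obtain ⟨g, hg, hgx⟩ := (show x ∈ L.map π by rw [hLmap]; exact hx)
    have hrest : (g * a ^ k)⁻¹ * y ∈ π.ker := by
      rw [MonoidHom.mem_ker, map_mul, map_inv, map_mul, map_pow, hgx, ← hxk, inv_mul_cancel]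
    have h1 : Commute (g * a ^ k) o := (hLO g (hgx ▸ hx) o ho).mul_left ((hao o ho).pow_left k)
    have h2 : Commute ((g * a ^ k)⁻¹ * y) o :=
      congrArg Subtype.val (IsMulCommutative.is_comm.comm (⟨_, hrest⟩ : π.ker) ⟨o, ho⟩)
    have h3 := h1.mul_left h2
    rwa [mul_inv_cancel_left] at h3
  have hcard : Nat.card C0 = Nat.card (SL2 F) * 2 ^ n * Nat.card (π.ker.subgroupOf C0) := by
    let f : C0 →* D := π.subgroupComap D
    have hf : Function.Surjective f := fun y => by
      obtain ⟨x, hx⟩ := hπ y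
      exact ⟨⟨x, show π x ∈ D by rw [hx]; exact y.2⟩, Subtype.ext hx⟩
    have hk : f.ker = π.ker.subgroupOf C0 := by
      ext x
      rw [MonoidHom.mem_ker, mem_subgroupOf, MonoidHom.mem_ker, Subtype.ext_iff]
      rfl
    rw [← f.ker.card_mul_index, index_ker, MonoidHom.range_eq_top.2 hf, card_top, hD.card_ker e hodd hA, hk]
    ring
  obtain ⟨g, hg⟩ := (mem_ker_iff e hodd).1 hD.diag
  have hact : QGroup.rhoSL e (π a) = semiSL g (RingEquiv.refl F) :=
    QGroup.autQ_injective hodd (hg.trans (QGroup.autQ_semiSL g _).symm)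
  have hscard : Nat.card (π.ker.subgroupOf C0) = Nat.card π.ker :=
    Nat.card_congr (subgroupOfEquivOfLe hkC).toEquiv
  refine ⟨{ N := L.subgroupOf C0
            normal := hLn.subgroupOf C0
            e := eL
            a := ⟨a, haC⟩
            pow_eq := Subtype.ext ha
            Sig := π.ker.subgroupOf C0
            sig_le := fun x hx => mem_center_iff.2 fun y => Subtype.ext (hcent _ y.2 _ hx).eq
            sig_odd := by rw [hscard]; exact hker
            sig_cyclic := (subgroupOfEquivOfLe hkC).isCyclic.2 hcyc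
            card_eq := hcard
            g := g
            act := fun x => ?_
            faithful := fun k hk => ?_
            outer := fun h1 y hy hc => ?_ }, hscard, rfl, fun x => ?_, ?_⟩
  · show e (ψ _) = semiSL g (RingEquiv.refl F) (e (ψ x))
    rw [← hact, QGroup.rhoSL_apply]
    refine congrArg e (Subtype.ext ?_)
    show π ((a : C) * ((x : C0) : C) * a⁻¹) = π a * π ((x : C0) : C) * (π a)⁻¹
    rw [map_mul, map_mul, map_inv]
  · refine hD.faithful k fun x hx => ?_
    obtain ⟨g', hg', rfl⟩ := (show x ∈ L.map π by rw [hLmap]; exact hx)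
    rw [← map_pow]
    exact (congrArg Subtype.val (hk ⟨g', hLC hg'⟩ (mem_subgroupOf.2 hg')).eq : (a ^ k : C) * g' = g' * a ^ k) |>
      fun h => (show Commute (a ^ k) g' from h).map π
  · refine hD.outer h1 (π (y : C)) (hLmap ▸ mem_map_of_mem π (mem_subgroupOf.1 hy)) fun x hx => ?_
    obtain ⟨g', hg', rfl⟩ := (show x ∈ L.map π by rw [hLmap]; exact hx)
    rw [← map_mul]
    exact (show Commute ((y : C) * a) g' from
      congrArg Subtype.val (hc ⟨g', hLC hg'⟩ (mem_subgroupOf.2 hg')).eq).map π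
  · show (ψ ((MulEquiv.ofBijective ψ hψ).symm (e.symm x)) : H) = _
    exact congrArg Subtype.val ((MulEquiv.ofBijective ψ hψ).apply_symm_apply _)
  · show ((L.subgroupOf C0).map C0.subtype).Normal
    rw [map_subgroupOf_eq_of_le hLC]
    exact hLn

end Cfsg.Agent.SDBudget
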