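import Cfsg.Agent.Lib.SDBudget.EndModel
import Cfsg.Agent.Lib.QGroup.WLine

/-!
# The diagonal part of `C(z) / O(C(z))` (endgame of the SD / wreathed keystone)

* `fieldPart` : the field part `H →* (F ≃+* F)` of the action on `SL(2, q)`;
* `DiagElem` : an element of 2-power order generating the diagonal part modulo `SL(2, q)`;
* `exists_diagElem_wr`, `exists_diagElem_qd` : it exists in the wreathed and semidihedral case;
* `DiagElem.card_ker` : the kernel of `fieldPart` has order `|SL(2, q)| 2 ^ n`.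
-/

set_option autoImplicit false
set_option linter.unusedSectionVars false
set_option linter.style.haveILetI false

namespace Cfsg.Agent.SDBudget

open Subgroup Cfsg.Agent.PSL2 Cfsg.Agent.QDWreath
open Cfsg.Agent.AutPSL (semi semiSL semi_eq_semi semi_eq_one_iff semi_mul semi_one)
open Cfsg.Agent.SylowCyclicSuzuki (autQ)

universe u

variable {H : Type u} [Group H] [Finite H] {F : Type} [Field F] [Fintype F]
  {N : Subgroup H} [hNn : N.Normal] (e : N ≃* SL2 F) (hodd : Odd (Nat.card F))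

/-- The field part of `h`. -/
noncomputable def fieldAt (h : H) : F ≃+* F := (QGroup.exists_semiSL hodd (QGroup.rhoSL e h)).choose_spec.choose

theorem fieldAt_spec (h : H) : ∃ g, QGroup.rho e h = semi g (fieldAt e hodd h) :=
  ⟨_, (QGroup.exists_semiSL hodd (QGroup.rhoSL e h)).choose_spec.choose_spec.2⟩

theorem fieldAt_eq {h : H} {g : GL (Fin (0 + 2)) F} {σ : F ≃+* F} (hg : QGroup.rho e h = semi g σ) :
    fieldAt e hodd h = σ := by
  obtain ⟨g', hg'⟩ := fieldAt_spec e hodd h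
  exact (semi_eq_semi.1 (hg'.symm.trans hg)).1

/-- The field part of the action on `SL(2, q)`. -/
noncomputable def fieldPart : H →* (F ≃+* F) where
  toFun := fieldAt e hodd
  map_one' := fieldAt_eq e hodd ((map_one _).trans semi_one.symm)
  map_mul' a b := by
    obtain ⟨g, hg⟩ := fieldAt_spec e hodd a
    obtain ⟨k, hk⟩ := fieldAt_spec e hodd b
    exact fieldAt_eq e hodd (by rw [map_mul, hg, hk, semi_mul]; rfl)

theorem mem_ker_iff {h : H} :
    h ∈ (fieldPart e hodd).ker ↔ ∃ g, QGroup.rho e h = semi g (RingEquiv.refl F) := by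
  constructor
  · intro hh
    obtain ⟨g, hg⟩ := fieldAt_spec e hodd h
    exact ⟨g, by rw [hg, show fieldAt e hodd h = RingEquiv.refl F from hh]⟩
  · rintro ⟨g, hg⟩
    exact fieldAt_eq e hodd hg

theorem le_ker : N ≤ (fieldPart e hodd).ker := fun x hx =>
  (mem_ker_iff e hodd).2 ⟨_, (QGroup.rho_coe e ⟨x, hx⟩).trans (AutPSL.conj_eq_semi _)⟩

/-- An element generating the diagonal part modulo `SL(2, q)`. -/
structure DiagElem (S : Sylow 2 H) (n : ℕ) (a : H) : Prop where
  mem : a ∈ (S : Subgroup H)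
  pow_eq : a ^ 2 ^ n = 1
  diag : a ∈ (fieldPart e hodd).ker
  faithful : ∀ k : ℕ, (∀ x ∈ N, Commute (a ^ k) x) → 2 ^ n ∣ k
  outer : n = 1 → ∀ y ∈ N, ¬ ∀ x ∈ N, Commute (y * a) x
  disj : ∀ k : ℕ, a ^ k ∈ N → a ^ k = 1
  card_centre : Nat.card (center (S : Subgroup H)) = 2 ^ n
  sylow_le : (S : Subgroup H) ≤ (fieldPart e hodd).ker

variable {S : Sylow 2 H} {z : H} (hA : QGroup.Amb S z)
include hA

theorem exists_diagElem_wr {n : ℕ} (d : WrData (S : Subgroup H) n) :
    DiagElem e hodd S n (d.a 1 0 : H) := by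
  obtain ⟨hu, hnc⟩ := QGroup.trace_facts e hA hodd
  obtain ⟨ha, -⟩ := QGroup.wr_shape _ hu hnc d
  have hn := d.hn
  have hpow : ∀ k : ℕ, d.a 1 0 ^ k = d.a (k : ZMod (2 ^ n)) 0 := fun k => by
    induction k with
    | zero => rw [pow_zero, Nat.cast_zero, d.a_zero]
    | succ k ih => rw [pow_succ, ih, d.a_mul_a, Nat.cast_succ, add_zero]
  have hρ1 : ∀ w : (S : Subgroup H), QGroup.rho e (w : H) = 1 → ∃ i, w = d.a i i := fun w hw => by
    obtain ⟨c, hc, hcw⟩ := (QGroup.rho_eq_one e hA hodd _).1 hw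
    exact d.mem_center.1 (Subtype.ext hcw ▸ hc)
  have hb : ∀ i j, ∃ g, QGroup.rho e (d.b i j : H) = semi g (RingEquiv.refl F) := fun i j => by
    obtain ⟨g, hg, -⟩ := QGroup.wr_invol e hA hodd d (w := d.b i j) (fun hc => by
      obtain ⟨c, hc'⟩ := hρ1 _ hc
      exact d.a_ne_b _ _ _ _ hc'.symm) (by
      rw [← map_mul, ← Subgroup.coe_mul, d.b_mul_b, add_comm j i]
      exact (QGroup.rho_eq_one e hA hodd _).2 ⟨_, d.mem_center.2 ⟨i + j, rfl⟩, rfl⟩)
    exact ⟨g, hg⟩
  refine ⟨SetLike.coe_mem _, ?_, ?_, fun k hk => ?_, fun h1 => by omega, fun k hk => ?_, ?_, fun w hw => ?_⟩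
  · rw [← Subgroup.coe_pow, hpow, ZMod.natCast_self, d.a_zero, Subgroup.coe_one]
  · have h1 : (d.a 1 0 : H) = (d.b 1 0 : H) * (d.b 0 0 : H) := by
      rw [← Subgroup.coe_mul, d.b_mul_b, add_zero, add_zero]
    rw [h1]
    exact mul_mem ((mem_ker_iff e hodd).2 (hb 1 0)) ((mem_ker_iff e hodd).2 (hb 0 0))
  · have h1 : ((d.a 1 0 ^ k : (S : Subgroup H)) : H) ∈ centralizer (N : Set H) :=
      mem_centralizer_iff.2 fun x hx => (hk x hx).eq.symm
    obtain ⟨i, hi⟩ := d.mem_center.1 (QGroup.cent_inf e hA hodd h1)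
    rw [hpow, d.a_inj] at hi
    exact (ZMod.natCast_eq_zero_iff _ _).1 (hi.1.trans hi.2.symm)
  · have h1 : d.a 1 0 ^ k ∈ N.subgroupOf (S : Subgroup H) := mem_subgroupOf.2 hk
    rw [hpow, ha, add_zero] at h1
    rw [← Subgroup.coe_pow, hpow, h1, d.a_zero, Subgroup.coe_one]
  · rw [d.center_eq, ← Nat.card_congr (MonoidHom.ofInjective (f := d.diagHom) fun i j hij => ?_).toEquiv,
      Nat.card_congr Multiplicative.toAdd, Nat.card_zmod]
    have := d.a_inj.1 hij
    exact Multiplicative.toAdd.injective this.1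
  · rcases d.cases ⟨w, hw⟩ with ⟨i, j, hij⟩ | ⟨i, j, hij⟩
    · rw [show w = (d.b i j : H) * (d.b 0 0 : H) by
        rw [← Subgroup.coe_mul, d.b_mul_b, add_zero, add_zero]; exact congrArg Subtype.val hij]
      exact mul_mem ((mem_ker_iff e hodd).2 (hb i j)) ((mem_ker_iff e hodd).2 (hb 0 0))
    · rw [show w = (d.b i j : H) from congrArg Subtype.val hij]
      exact (mem_ker_iff e hodd).2 (hb i j)

theorem exists_diagElem_qd (hq : Cfsg.IsQuasiDihedral (S : Subgroup H)) {s : H} (hsS : s ∈ (S : Subgroup H))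
    (hs : orderOf s = 2) (hsz : s ≠ z) : DiagElem e hodd S 1 s := by
  obtain ⟨hu, hnc⟩ := QGroup.trace_facts e hA hodd
  set w : (S : Subgroup H) := ⟨s, hsS⟩
  have hw : orderOf w = 2 := by rw [← Subgroup.orderOf_coe]; exact hs
  have hwc := QGroup.notMem_center hA hw hsz
  obtain ⟨g, hg, -, hns, -⟩ := QGroup.rho_involution e hA hodd hw hsz
  have hsq : s * s = 1 := by rw [← pow_two, ← hs, pow_orderOf_eq_one]
  have hpow : ∀ k : ℕ, s ^ k = 1 ∨ (Odd k ∧ s ^ k = s) := fun k => by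
    rcases Nat.even_or_odd k with ⟨m, rfl⟩ | ⟨m, rfl⟩
    · exact Or.inl (by rw [← two_mul, pow_mul, pow_two, hsq, one_pow])
    · exact Or.inr ⟨odd_two_mul_add_one m, by rw [pow_succ, pow_mul, pow_two, hsq, one_pow, one_mul]⟩
  refine ⟨hsS, by rw [pow_one, pow_two, hsq], (mem_ker_iff e hodd).2 ⟨g, hg⟩, fun k hk => ?_, fun _ y hy hc => ?_,
    fun k hk => ?_, ?_, fun v hv => (mem_ker_iff e hodd).2 (QGroup.qd_diag e hA hodd hq hw hsz ⟨v, hv⟩)⟩
  · rw [pow_one]
    by_contra h2
    obtain ⟨m, rfl⟩ : Odd k := Nat.not_even_iff_odd.1 fun h => h2 h.two_dvd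
    rw [show s ^ (2 * m + 1) = s by rw [pow_succ, pow_mul, pow_two, hsq, one_pow, one_mul]] at hk
    exact hwc (QGroup.cent_inf e hA hodd (x := w) (mem_centralizer_iff.2 fun x hx => (hk x hx).eq.symm))
  · have h1 : QGroup.rho e (y * s) = 1 :=
      (QGroup.rho_eq_one_iff e hodd _).2 (mem_centralizer_iff.2 fun x hx => (hc x hx).eq.symm)
    rw [map_mul, mul_eq_one_iff_inv_eq, QGroup.rho_coe e ⟨y, hy⟩, ← map_inv] at h1
    exact hns hq ((QGroup.mem_range_conj_iff g).1 ⟨_, hg.symm.trans h1.symm⟩)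
  · rcases hpow k with h | ⟨-, h⟩
    · exact h
    · exfalso
      have := QGroup.qd_involution_notMem (N.subgroupOf (S : Subgroup H)) hu hnc hq hw hwc (one_mem _)
      rw [mul_one] at this
      exact this (mem_subgroupOf.2 (show s ∈ N by rwa [h] at hk))
  · obtain ⟨m, ⟨d⟩⟩ := nonempty_qdData hq
    rw [pow_one]
    exact d.card_center

/-- The order of the diagonal part. -/
theorem DiagElem.card_ker {n : ℕ} {a : H} (h : DiagElem e hodd S n a) :
    Nat.card (fieldPart e hodd).ker = Nat.card (SL2 F) * 2 ^ n := by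
  classical
  set D := (fieldPart e hodd).ker
  have hord : orderOf a = 2 ^ n := Nat.dvd_antisymm (orderOf_dvd_of_pow_eq_one h.pow_eq)
    (h.faithful _ fun x _ => by rw [pow_orderOf_eq_one]; exact Commute.one_left x)
  have hdis : Disjoint N (zpowers a) := disjoint_def.2 fun {x} hx hx' => by
    obtain ⟨k, rfl⟩ := mem_powers_iff_mem_zpowers.2 hx'
    exact h.disj k hx
  refine le_antisymm ?_ ?_
  · -- at most
    let f : D →* MulAut (PSL2 F) := (QGroup.rho e).comp D.subtype
    let p : GL (Fin (0 + 2)) F →* MulAut (PSL2 F) := MonoidHom.mk' (fun g => semi g (RingEquiv.refl F))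
      fun g k => (AutPSL.semi_refl_mul g k).symm
    have hle : f.range ≤ p.range := by
      rintro _ ⟨x, rfl⟩
      obtain ⟨g, hg⟩ := (mem_ker_iff e hodd).1 x.2
      exact ⟨g, hg.symm⟩
    have hp : p.ker = center (GL (Fin (0 + 2)) F) := by
      ext g
      rw [MonoidHom.mem_ker]
      exact (semi_eq_one_iff (g := g)).trans ⟨fun h => h.2, fun h => ⟨rfl, h⟩⟩
    have hk : Nat.card f.ker ≤ 2 ^ n := by
      rw [← h.card_centre]
      have hx : ∀ x : f.ker, ∃ c : center (S : Subgroup H), ((c : (S : Subgroup H)) : H) = ((x : D) : H) :=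
        fun x => by
          obtain ⟨c, hc, hcx⟩ := (QGroup.rho_eq_one e hA hodd _).1 (x.2 : QGroup.rho e ((x : D) : H) = 1)
          exact ⟨⟨c, hc⟩, hcx⟩
      choose c hc using hx
      exact Nat.card_le_card_of_injective c fun x y hxy =>
        Subtype.ext (Subtype.ext (by rw [← hc x, ← hc y, hxy]))
    have hr : Nat.card p.range = Nat.card (SL2 F) := by
      rw [← index_ker, hp]
      exact (index_eq_card _).trans (GLOrder.card_PGL (F := F) (ι := Fin 2))
    rw [← f.ker.card_mul_index, index_ker, mul_comm]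
    exact Nat.mul_le_mul ((Nat.le_of_dvd Nat.card_pos (card_dvd_of_le hle)).trans hr.le) hk
  · -- at least
    rw [← Nat.card_congr e.toEquiv, ← hord, ← Nat.card_zpowers, ← Nat.card_prod]
    refine Nat.card_le_card_of_injective (fun x => (⟨(x.1 : H) * (x.2 : H),
      mul_mem (le_ker e hodd x.1.2) (zpowers_le.2 h.diag x.2.2)⟩ : D)) fun x y hxy => ?_
    exact mul_injective_of_disjoint hdis (congrArg Subtype.val hxy)

end Cfsg.Agent.SDBudget
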