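import Cfsg.Agent.Lib.QGroup.PtLine
import Cfsg.Agent.Lib.SylowCyclicSuzuki.PGLFacts
import Cfsg.Agent.Lib.TwoByTwo.Classes
import Cfsg.Agent.Lib.AutPSL.GraphModels
import Mathlib.RingTheory.RootsOfUnity.PrimitiveRoots
import Mathlib.FieldTheory.IsAlgClosed.AlgebraicClosure

/-!
# Diagonal automorphisms of the same two-power order (endgame of the SD / wreathed keystone)

`exists_conj_pow`: if `g, g'` in `GL(2, q)` have the same order `2 ^ n` modulo scalars (both with
nonsquare determinant when `n = 1`), a conjugate of `g` is an odd power of `g'` modulo scalars.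
-/

set_option autoImplicit false
set_option linter.unusedSectionVars false

namespace Cfsg.Agent.SDBudget

open Matrix Subgroup

variable {F : Type} [Field F]

local notation "M2" => Matrix (Fin 2) (Fin 2)

theorem mem_center_iff_smul (g : GL (Fin 2) F) :
    g ∈ center (GL (Fin 2) F) ↔ ∃ c : F, (g : M2 F) = c • 1 := by
  rw [GeneralLinearGroup.center_eq_range_scalar]
  constructor
  · rintro ⟨c, rfl⟩
    exact ⟨c, by rw [GeneralLinearGroup.coe_scalar, Matrix.scalar_apply, ← smul_one_eq_diagonal]⟩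
  · rintro ⟨c, hc⟩
    have hc0 : c ≠ 0 := fun e => g.det_ne_zero (by rw [hc, e, zero_smul]; simp)
    refine ⟨Units.mk0 c hc0, Units.ext ?_⟩
    rw [GeneralLinearGroup.coe_scalar, Matrix.scalar_apply, ← smul_one_eq_diagonal, hc]
    rfl

/-- A noncentral element with central square has trace zero. -/
theorem trace_zero_of_sq [Finite F] {g : GL (Fin 2) F} (h2 : g * g ∈ center (GL (Fin 2) F))
    (h1 : g ∉ center (GL (Fin 2) F)) :
    (g : M2 F) * g = (-(g : M2 F).det) • 1 ∧ (g : M2 F).trace = 0 := by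
  obtain ⟨c, hc⟩ := (mem_center_iff_smul _).1 h2
  rw [Units.val_mul] at hc
  obtain ⟨ht, hd⟩ := QGroup.PtLine.det_of_sq_scalar hc fun d hd => h1 ((mem_center_iff_smul g).2 ⟨d, hd⟩)
  exact ⟨by rw [hd, neg_neg]; exact hc, by rw [Matrix.trace_fin_two, ht, add_neg_cancel]⟩

/-- Two noncentral involutions modulo scalars whose determinants differ by a square are conjugate
modulo scalars. -/
theorem invol_conj_center [Finite F] {g g' : GL (Fin 2) F} (h : g * g ∈ center (GL (Fin 2) F))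
    (h1 : g ∉ center (GL (Fin 2) F)) (h' : g' * g' ∈ center (GL (Fin 2) F))
    (h1' : g' ∉ center (GL (Fin 2) F)) (hd : IsSquare ((g : M2 F).det * (g' : M2 F).det)) :
    ∃ k : GL (Fin 2) F, g'⁻¹ * (k * g * k⁻¹) ∈ center (GL (Fin 2) F) := by
  obtain ⟨r, hr⟩ := hd
  have hd0 := g.det_ne_zero
  have hd0' := g'.det_ne_zero
  have hr0 : r ≠ 0 := fun e => mul_ne_zero hd0 hd0' (by rw [hr, e, mul_zero])
  have hl : r / (g' : M2 F).det ≠ 0 := div_ne_zero hr0 hd0'
  set s : GL (Fin 2) F := GeneralLinearGroup.scalar (Fin 2) (Units.mk0 _ hl) with hs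
  have hsc : s ∈ center (GL (Fin 2) F) := by
    rw [GeneralLinearGroup.center_eq_range_scalar]; exact ⟨_, rfl⟩
  have hval : ((s * g' : GL (Fin 2) F) : M2 F) = (r / (g' : M2 F).det) • (g' : M2 F) := by
    rw [Units.val_mul, hs, GeneralLinearGroup.coe_scalar, Matrix.scalar_apply, ← smul_one_eq_diagonal,
      Units.val_mk0, Matrix.smul_mul, Matrix.one_mul]
  have hns : ∀ {u : GL (Fin 2) F}, u ∉ center (GL (Fin 2) F) → ¬ TwoByTwo.IsScalar (u : M2 F) :=
    fun {u} hu hsc => hu ((mem_center_iff_smul u).2 ⟨_, by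
      rw [hsc.eq, Matrix.scalar_apply, ← smul_one_eq_diagonal]⟩)
  have hgs : s * g' ∉ center (GL (Fin 2) F) := fun hc => h1' ((Subgroup.mul_mem_cancel_left _ hsc).1 hc)
  obtain ⟨k, hk⟩ := isConj_iff.1 (TwoByTwo.gl_isConj_of_eq (A := g) (B := s * g') (hns h1) (hns hgs)
    (by rw [(trace_zero_of_sq h h1).2, hval, Matrix.trace_smul, (trace_zero_of_sq h' h1').2, smul_zero])
    (by
      rw [hval, Matrix.det_smul, Fintype.card_fin]
      field_simp
      linear_combination hr))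
  refine ⟨k, ?_⟩
  rw [hk, mem_center_iff.1 hsc g' |>.symm, inv_mul_cancel_left]
  exact hsc

section Ev

variable {K : Type} [Field K] (φ : F →+* K) (w : M2 F) (c : F) (s : K)

/-- The two evaluations of `x + y w`, `w ^ 2 = c`. -/
def ev (M : M2 F) : K := φ (M.trace / 2) + s * φ ((M * w).trace / (2 * c))

variable {φ w c s}

theorem ev_span (h2 : (2 : F) ≠ 0) (hc : c ≠ 0) (hw : w * w = c • 1) (ht : w.trace = 0) (x y : F) :
    ev φ w c s (x • 1 + y • w) = φ x + s * φ y := by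
  have e1 : (x • (1 : M2 F) + y • w).trace = 2 * x := by
    rw [Matrix.trace_add, Matrix.trace_smul, Matrix.trace_smul, ht, Matrix.trace_one, Fintype.card_fin]
    simp [mul_comm]
  have e2 : ((x • (1 : M2 F) + y • w) * w).trace = 2 * c * y := by
    rw [Matrix.add_mul, Matrix.smul_mul, Matrix.smul_mul, Matrix.one_mul, hw, Matrix.trace_add,
      Matrix.trace_smul, Matrix.trace_smul, Matrix.trace_smul, ht, Matrix.trace_one, Fintype.card_fin]
    simp only [smul_eq_mul, mul_zero, zero_add, Nat.cast_ofNat]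
    ring
  rw [ev, e1, e2, mul_div_cancel_left₀ _ h2, mul_div_cancel_left₀ _ (mul_ne_zero h2 hc)]

theorem ev_mul (h2 : (2 : F) ≠ 0) (hc : c ≠ 0) (hw : w * w = c • 1) (ht : w.trace = 0)
    (hs : s * s = φ c) (x y x' y' : F) :
    ev φ w c s ((x • 1 + y • w) * (x' • 1 + y' • w)) =
      ev φ w c s (x • 1 + y • w) * ev φ w c s (x' • 1 + y' • w) := by
  have e : (x • (1 : M2 F) + y • w) * (x' • 1 + y' • w) = (x * x' + y * y' * c) • 1 + (x * y' + y * x') • w := by
    simp only [Matrix.add_mul, Matrix.mul_add, Matrix.smul_mul, Matrix.mul_smul, Matrix.one_mul,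
      Matrix.mul_one, hw]
    module
  rw [e, ev_span h2 hc hw ht, ev_span h2 hc hw ht, ev_span h2 hc hw ht]
  simp only [map_add, map_mul]
  linear_combination -(φ y * φ y') * hs

end Ev

/-- Elements of the centralizer of `w` of the same two-power order modulo scalars. -/
theorem exists_pow_center [Finite F] (h2 : (2 : F) ≠ 0) {n : ℕ} {w g g' : GL (Fin 2) F}
    (hw : w * w ∈ center (GL (Fin 2) F)) (hw1 : w ∉ center (GL (Fin 2) F))
    (hc : Commute g w) (hc' : Commute g' w) (hn : 1 ≤ n)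
    (hg : ∀ k : ℕ, g ^ k ∈ center (GL (Fin 2) F) ↔ 2 ^ n ∣ k)
    (hg' : ∀ k : ℕ, g' ^ k ∈ center (GL (Fin 2) F) ↔ 2 ^ n ∣ k) :
    ∃ j : ℕ, Odd j ∧ (g' ^ j)⁻¹ * g ∈ center (GL (Fin 2) F) := by
  obtain ⟨hww, hwt⟩ := trace_zero_of_sq hw hw1
  set W : M2 F := (w : M2 F)
  set c : F := -W.det
  have hc0 : c ≠ 0 := neg_ne_zero.2 w.det_ne_zero
  let φ : F →+* AlgebraicClosure F := algebraMap F (AlgebraicClosure F)
  obtain ⟨s, hs⟩ := IsAlgClosed.exists_eq_mul_self (φ c)
  have hs' : -s * -s = φ c := by rw [neg_mul_neg, ← hs]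
  have hspan : ∀ u : GL (Fin 2) F, Commute u w → ∃ x y : F, (u : M2 F) = x • 1 + y • W := fun u hu =>
    SylowCyclicSuzuki.comm_span (fun ⟨d, hd⟩ => hw1 ((mem_center_iff_smul w).2 ⟨d, hd⟩))
      (congrArg Units.val hu.eq)
  -- the ratio of the evaluations is a homomorphism into the field, with scalars as kernel
  let r : GL (Fin 2) F → AlgebraicClosure F := fun u => ev φ W c s (u : M2 F) / ev φ W c (-s) (u : M2 F)
  have hrmul : ∀ u v, Commute u w → Commute v w → r (u * v) = r u * r v := fun u v hu hv => by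
    obtain ⟨x, y, e⟩ := hspan u hu
    obtain ⟨x', y', e'⟩ := hspan v hv
    simp only [r, Units.val_mul, e, e', ev_mul h2 hc0 hww hwt hs.symm, ev_mul h2 hc0 hww hwt hs']
    rw [mul_div_mul_comm]
  have hne : ∀ u (σ : AlgebraicClosure F), σ * σ = φ c → Commute u w → ev φ W c σ (u : M2 F) ≠ 0 := by
    intro u σ hσ hu h0
    obtain ⟨x, y, e⟩ := hspan u hu
    rw [e, ev_span h2 hc0 hww hwt] at h0
    obtain ⟨x', y', e'⟩ := hspan u⁻¹ hu.inv_left
    have h1 : ev φ W c σ ((u * u⁻¹ : GL (Fin 2) F) : M2 F) = 1 := by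
      rw [mul_inv_cancel, Units.val_one, show (1 : M2 F) = (1 : F) • 1 + (0 : F) • W by simp,
        ev_span h2 hc0 hww hwt]
      simp
    rw [Units.val_mul, e, e', ev_mul h2 hc0 hww hwt hσ, ev_span h2 hc0 hww hwt, h0, zero_mul] at h1
    exact zero_ne_one h1
  have hr1 : ∀ u, Commute u w → (r u = 1 ↔ u ∈ center (GL (Fin 2) F)) := fun u hu => by
    obtain ⟨x, y, e⟩ := hspan u hu
    have hd := hne u (-s) hs' hu
    simp only [r]
    rw [div_eq_one_iff_eq hd, e, ev_span h2 hc0 hww hwt, ev_span h2 hc0 hww hwt, mem_center_iff_smul]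
    constructor
    · intro h
      have h' : (2 : AlgebraicClosure F) * s * φ y = 0 := by linear_combination h
      have hs0 : (2 : AlgebraicClosure F) * s ≠ 0 := by
        refine mul_ne_zero ?_ fun e0 => hc0 (φ.injective (by rw [hs, e0, mul_zero, map_zero]))
        rw [← map_ofNat φ 2]
        exact fun e0 => h2 (φ.injective (e0.trans (map_zero φ).symm))
      have hy : y = 0 := φ.injective (((mul_eq_zero.1 h').resolve_left hs0).trans (map_zero φ).symm)
      exact ⟨x, by rw [e, hy, zero_smul, add_zero]⟩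
    · rintro ⟨d, hd'⟩
      have hy : y = 0 := by
        by_contra hy
        refine hw1 ((mem_center_iff_smul w).2 ⟨y⁻¹ * (d - x), ?_⟩)
        have : y • W = (d - x) • (1 : M2 F) := by rw [sub_smul, ← hd', e]; abel
        rw [mul_smul, ← this, smul_smul, inv_mul_cancel₀ hy, one_smul]
      rw [hy]; simp
  have hr0 : r 1 = 1 := (hr1 1 (Commute.one_left w)).2 (one_mem _)
  have hrpow : ∀ u, Commute u w → ∀ k : ℕ, r (u ^ k) = r u ^ k := fun u hu k => by
    induction k with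
    | zero => rw [pow_zero, pow_zero, hr0]
    | succ k ih => rw [pow_succ, pow_succ, hrmul _ _ (hu.pow_left k) hu, ih]
  have hprim : ∀ u, Commute u w → (∀ k : ℕ, u ^ k ∈ center (GL (Fin 2) F) ↔ 2 ^ n ∣ k) →
      IsPrimitiveRoot (r u) (2 ^ n) := fun u hu hk =>
    ⟨by rw [← hrpow u hu]; exact (hr1 _ (hu.pow_left _)).2 ((hk _).2 dvd_rfl), fun l hl =>
      (hk l).1 ((hr1 _ (hu.pow_left l)).1 (by rw [hrpow u hu]; exact hl))⟩
  haveI : NeZero (2 ^ n) := ⟨pow_ne_zero _ two_ne_zero⟩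
  have hp := hprim g' hc' hg'
  have hpg := hprim g hc hg
  obtain ⟨j, -, hj⟩ := hp.eq_pow_of_pow_eq_one hpg.pow_eq_one
  have hjodd : Odd j := by
    rw [← hj] at hpg
    have := (hp.pow_iff_coprime (by positivity) j).1 hpg
    exact Nat.coprime_two_right.1 ((Nat.coprime_pow_right_iff (by omega) j 2).1 this)
  refine ⟨j, hjodd, (hr1 _ (((hc'.pow_left j).inv_left).mul_left hc)).1 ?_⟩
  have h1 : r ((g' ^ j)⁻¹ * g) * r (g' ^ j) = r g := by
    rw [← hrmul _ _ (((hc'.pow_left j).inv_left).mul_left hc) (hc'.pow_left j)]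
    congr 1
    have : Commute g (g' ^ j) := by
      obtain ⟨x, y, e⟩ := hspan g hc
      obtain ⟨x', y', e'⟩ := hspan _ (hc'.pow_left j)
      refine Units.ext ?_
      rw [Units.val_mul, Units.val_mul, e, e']
      simp only [Matrix.add_mul, Matrix.mul_add, Matrix.smul_mul, Matrix.mul_smul, Matrix.one_mul,
        Matrix.mul_one]
      module
    rw [mul_assoc, this.eq, inv_mul_cancel_left]
  rw [hrpow g' hc', hj] at h1
  exact (mul_eq_right₀ (hpg.ne_zero (by positivity))).1 h1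

/-- **A conjugate of `g` is an odd power of `g'` modulo scalars.** -/
theorem exists_conj_pow [Finite F] (h2 : (2 : F) ≠ 0) {n : ℕ} (hn : 1 ≤ n) {g g' : GL (Fin 2) F}
    (hg : ∀ k : ℕ, g ^ k ∈ center (GL (Fin 2) F) ↔ 2 ^ n ∣ k)
    (hg' : ∀ k : ℕ, g' ^ k ∈ center (GL (Fin 2) F) ↔ 2 ^ n ∣ k)
    (hd : n = 1 → ¬ IsSquare (g : M2 F).det) (hd' : n = 1 → ¬ IsSquare (g' : M2 F).det) :
    ∃ j : ℕ, Odd j ∧ ∃ k : GL (Fin 2) F, (g' ^ j)⁻¹ * (k * g * k⁻¹) ∈ center (GL (Fin 2) F) := by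
  obtain ⟨m, rfl⟩ : ∃ m, n = m + 1 := ⟨n - 1, by omega⟩
  have hinv : ∀ u : GL (Fin 2) F, (∀ k : ℕ, u ^ k ∈ center (GL (Fin 2) F) ↔ 2 ^ (m + 1) ∣ k) →
      u ^ 2 ^ m * u ^ 2 ^ m ∈ center (GL (Fin 2) F) ∧ u ^ 2 ^ m ∉ center (GL (Fin 2) F) := fun u hu =>
    ⟨by rw [← pow_add, ← two_mul, ← pow_succ']; exact (hu _).2 dvd_rfl, fun h =>
      absurd (Nat.le_of_dvd (by positivity) ((hu _).1 h)) (by rw [pow_succ]; have := Nat.two_pow_pos m; omega)⟩
  obtain ⟨a1, a2⟩ := hinv g hg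
  obtain ⟨b1, b2⟩ := hinv g' hg'
  haveI := Fintype.ofFinite F
  obtain ⟨k, hk⟩ := invol_conj_center a1 a2 b1 b2 (by
    rw [Units.val_pow_eq_pow_val, Units.val_pow_eq_pow_val, Matrix.det_pow, Matrix.det_pow, ← mul_pow]
    rcases m with _ | m
    · rw [pow_zero, pow_one]; exact AutPSL.isSquare_mul_of_nonsq (hd rfl) (hd' rfl)
    · exact (Nat.even_pow.2 ⟨even_two, Nat.succ_ne_zero m⟩).isSquare_pow _)
  set g1 := k * g * k⁻¹ with hg1
  have hp1 : k * g ^ 2 ^ m * k⁻¹ = g1 ^ 2 ^ m := by rw [hg1, conj_pow]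
  rw [hp1] at hk
  have hcw : Commute g1 (g' ^ 2 ^ m) := by
    have h0 := mem_center_iff.1 hk g1
    have h1 : Commute g1 (g1 ^ 2 ^ m) := (Commute.refl g1).pow_right _
    have : g' ^ 2 ^ m = g1 ^ 2 ^ m * ((g' ^ 2 ^ m)⁻¹ * g1 ^ 2 ^ m)⁻¹ := by group
    rw [this]
    exact h1.mul_right (Commute.inv_right h0)
  have hgc : ∀ l : ℕ, g1 ^ l ∈ center (GL (Fin 2) F) ↔ 2 ^ (m + 1) ∣ l := fun l => by
    rw [hg1, conj_pow, ← hg l]
    exact ⟨fun h => by simpa [mul_assoc] using Subgroup.Normal.conj_mem inferInstance _ h k⁻¹,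
      fun h => Subgroup.Normal.conj_mem inferInstance _ h k⟩
  obtain ⟨j, hj, hj'⟩ := exists_pow_center h2 b1 b2 hcw ((Commute.refl g').pow_right _) hn hgc hg'
  exact ⟨j, hj, k, hj'⟩

end Cfsg.Agent.SDBudget
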