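import Cfsg.Agent.Lib.SDBudget.EndIndex
import Cfsg.Agent.Lib.U3Field.Basic

/-!
# The input of the recognitions with a field part (endgame)

* `Formula` : the formula of Brauer for a four-group through `z`, either sign;
* `exists_data_plus` : `GL(2, q) → G` with field part and index `q ^ 2 (q ^ 2 + q + 1)`;
* `exists_data_minus` : `U3Field.Data`.
-/

set_option autoImplicit false
set_option linter.unusedSectionVars false
set_option linter.style.haveILetI false

namespace Cfsg.Agent.SDBudget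

open Subgroup Cfsg.Agent.PSL2

universe u

variable {G : Type u} [Group G] [Finite G]

/-- The formula of Brauer at `z` for some four-group through `z`, with either sign. -/
def Formula (z : G) (q : ℕ) : Prop :=
  ∃ U : Subgroup G, IsKleinFour U ∧ z ∈ U ∧ ∃ ε : ℤ, (ε = 1 ∨ ε = -1) ∧
    (Nat.card G : ℤ) * (Nat.card (centralizer (U : Set G)) : ℤ) ^ 2 * ((q : ℤ) - ε) ^ 2 =
      (Nat.card (centralizer ({z} : Set G)) : ℤ) ^ 3 * ((q : ℤ) ^ 2 - ε * q + 1)

variable {z : G} {F : Type} [Field F] [Fintype F] (hodd : Odd (Nat.card F))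
  {N : Subgroup (↥(centralizer ({z} : Set G)) ⧸ Cfsg.oddCore ↥(centralizer ({z} : Set G)))} [hNn : N.Normal]
  (e : N ≃* SL2 F)
  (hcore : ∀ x ∈ Cfsg.oddCore ↥(centralizer ({z} : Set G)), ∀ y : ↥(centralizer ({z} : Set G)),
    fieldPart e hodd (QuotientGroup.mk' (Cfsg.oddCore ↥(centralizer ({z} : Set G))) y) = 1 → Commute x y)
  (hcyc : IsCyclic (Cfsg.oddCore ↥(centralizer ({z} : Set G))))
  {Q : Sylow 2 (↥(centralizer ({z} : Set G)) ⧸ Cfsg.oddCore ↥(centralizer ({z} : Set G)))} {n m : ℕ}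
  {a : ↥(centralizer ({z} : Set G))}
  (hA : QGroup.Amb Q (QuotientGroup.mk' (Cfsg.oddCore ↥(centralizer ({z} : Set G)))
    ⟨z, mem_centralizer_singleton_iff.2 rfl⟩))
  (hD : DiagElem e hodd Q n (QuotientGroup.mk' (Cfsg.oddCore ↥(centralizer ({z} : Set G))) a)) (ha : a ^ 2 ^ n = 1)
  (hn : 1 ≤ n) (hz : orderOf z = 2) (hm : Odd m)
  (hdvd : Nat.card (Cfsg.oddCore ↥(centralizer ({z} : Set G))) ∣ m)
  (hq5 : 5 ≤ Nat.card F) (hF : Formula z (Nat.card F))

omit [Finite G] in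
/-- An element of square one has trivial field part, when these have odd order. -/
theorem eq_one_of_sq {M : Type*} [Monoid M] (χ : centralizer ({z} : Set G) →* M) (hodd : ∀ c, Odd (orderOf (χ c)))
    {c : G} (hc : c ∈ centralizer ({z} : Set G)) (h : c * c = 1) : χ ⟨c, hc⟩ = 1 := by
  refine orderOf_eq_one_iff.1 (Nat.eq_one_of_dvd_coprimes (Nat.coprime_two_right.2 (hodd ⟨c, hc⟩)) dvd_rfl
    (orderOf_dvd_of_pow_eq_one ?_))
  rw [pow_two, ← map_mul, ← map_one χ]
  exact congrArg χ (Subtype.ext h)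

include hcore hcyc hA hD ha hn hz hm hdvd hq5 hF

/-- **Sign `+`.** -/
theorem exists_data_plus (hq : Nat.card F - 1 = 2 ^ n * m) :
    ∃ (p : GL (Fin 2) F →* G) (χ : ↥(centralizer ({z} : Set G)) →* (F ≃+* F)),
      p LThreeRec.gt = z ∧ p.ker ≤ center (GL (Fin 2) F) ∧ Odd (Nat.card p.ker) ∧
      p.range ≤ centralizer ({z} : Set G) ∧
      (∀ c, χ c = 1 ↔ (c : G) ∈ p.range) ∧ (∀ c, Odd (orderOf (χ c))) ∧
      (∀ c : ↥(centralizer ({z} : Set G)), ∃ g : GL (Fin 2) F, ∀ h : GL (Fin 2) F,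
        (h : Matrix (Fin 2) (Fin 2) F).det = 1 →
          (c : G) * p h * (c : G)⁻¹ = p (g * Matrix.GeneralLinearGroup.map ((χ c : F ≃+* F) : F →+* F) h * g⁻¹)) ∧
      (centralizer ({z} : Set G)).index = Nat.card F ^ 2 * (Nat.card F ^ 2 + Nat.card F + 1) := by
  obtain ⟨p, χ, h1, h2, h3, h4, h5, h6, h7⟩ := exists_plus hodd e hcore hcyc hA hD ha hn hz hm hdvd hq
  refine ⟨p, χ, h1, h2, h3, h4, h5, h6, h7, ?_⟩
  obtain ⟨U, hU, hzU, hε⟩ := hF
  obtain ⟨M, hM, hMK⟩ := card_plus (two_ne_zero_iff_odd.2 hodd) p h1 h2 h3 h4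
    fun c hc h => (h5 ⟨c, hc⟩).1 (eq_one_of_sq χ h6 hc h)
  have hMK' := hMK U hU hzU (Involution.ne_one hz)
  have h := index_eq (C := centralizer ({z} : Set G)) hq5 (δ := 1) (Or.inl rfl)
    (by rw [hM, ← Nat.card_eq_fintype_card]; push_cast; ring) hMK' hε
  have : ((centralizer ({z} : Set G)).index : ℤ) =
      ((Nat.card F ^ 2 * (Nat.card F ^ 2 + Nat.card F + 1) : ℕ) : ℤ) := by rw [h]; push_cast; ring
  exact_mod_cast this

/-- **Sign `-`.** -/
theorem exists_data_minus (hq : Nat.card F + 1 = 2 ^ n * m) :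
    ∃ (K : Type) (_ : Field K) (_ : Fintype K) (D : U3Field.Data G K (Nat.card F)), D.t = z := by
  obtain ⟨K, iK, iKf, hK, p, χ, h1, h2, h3, h4, h5, h6, h7⟩ :=
    exists_minus hodd e hcore hcyc hA hD ha hn hz hm hdvd hq
  obtain ⟨U, hU, hzU, hε⟩ := hF
  have h2K : (2 : K) ≠ 0 := fun h => by
    obtain ⟨r, k, hr, hchar, hqr, hk⟩ := Unitary.exists_prime_pow hK
    have hr2 : r = 2 := (Nat.prime_dvd_prime_iff_eq hr Nat.prime_two).1
      ((CharP.cast_eq_zero_iff K r 2).1 (by exact_mod_cast h))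
    rw [hqr, hr2, Nat.odd_pow_iff (by omega)] at hodd
    exact absurd hodd (by decide)
  obtain ⟨M, hM, hMK⟩ := card_minus hK h2K p h1 h2 h3 h4
    fun c hc h => (h5 ⟨c, hc⟩).1 (eq_one_of_sq χ h6 hc h)
  have hMK' := hMK U hU hzU (Involution.ne_one hz)
  have h := index_eq (C := centralizer ({z} : Set G)) hq5 (δ := -1) (Or.inr rfl)
    (by rw [hM, Nat.cast_mul, Nat.cast_sub (by omega)]; push_cast; ring) hMK' hε
  refine ⟨K, iK, iKf,
    { hF := hK
      hodd := hodd
      π := p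
      t := z
      π_negOne := h1
      range_le := h4
      ker_scalar := h2
      ker_odd := h3
      field := χ
      field_ker := h5
      field_odd := h6
      acts := h7
      hindex := ?_ }, rfl⟩
  have hle : Nat.card F ≤ Nat.card F ^ 2 := Nat.le_self_pow two_ne_zero _
  have : ((centralizer ({z} : Set G)).index : ℤ) =
      ((Nat.card F ^ 2 * (Nat.card F ^ 2 - Nat.card F + 1) : ℕ) : ℤ) := by
    rw [h]; push_cast [Nat.cast_sub hle]; ring
  exact_mod_cast this

end Cfsg.Agent.SDBudget
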