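import Cfsg.Agent.Lib.SDBudget.EndCent

/-!
# Sign `-`: the field part on `K`, `|K| = q ^ 2`, and the action through `U2`

* `exists_lift_aut`, `lift_unique` : an odd order automorphism of `F` has exactly one odd order extension to `K`;
* `exists_realise` : `PGL(2, q)` is realised by conjugation in `U2`;
* `exists_sq_field` : the field `K`;
* `exists_minus` : sign `-` in the form used by `U3Field`.
-/

set_option autoImplicit false
set_option linter.unusedSectionVars false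
set_option linter.style.haveILetI false

namespace Cfsg.Agent.SDBudget

open Subgroup Cfsg.Agent.PSL2 Cfsg.Agent.U3Recog Cfsg.Agent.Unitary
open Cfsg.Agent.AutPSL (semi semiSL)
open Cfsg.Agent.U3Field (mapU2 mapU2_entries exists_frob frob_pow eq_one_of_fix_real)

universe u v

/-- A field with `q ^ 2` elements over `F`, with an element of trace zero. -/
theorem exists_sq_field (F : Type) [Field F] [Fintype F] :
    ∃ (K : Type) (_ : Field K) (_ : Fintype K) (hK : Fintype.card K = Nat.card F ^ 2)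
      (_ι : F ≃+* fixedField hK) (δ : K), δ ≠ 0 ∧ δ ^ Nat.card F = -δ := by
  classical
  obtain ⟨p, hp⟩ := CharP.exists F
  obtain ⟨k, hpp, hk⟩ := FiniteField.card F p
  haveI := Fact.mk hpp
  let K := GaloisField p (2 * k)
  haveI : Fintype K := Fintype.ofFinite K
  have hK : Fintype.card K = Nat.card F ^ 2 := by
    rw [← Nat.card_eq_fintype_card, GaloisField.card p (2 * k) (by have := k.pos; omega),
      Nat.card_eq_fintype_card, hk, ← pow_mul, mul_comm]
  obtain ⟨δ, hδ0, hδ⟩ := exists_skew hK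
  haveI : Fintype (fixedField hK) := Fintype.ofFinite _
  have hc : Fintype.card F = Fintype.card (fixedField hK) := by
    rw [← Nat.card_eq_fintype_card, ← Nat.card_eq_fintype_card, card_fixedField hK]
  exact ⟨K, inferInstance, inferInstance, hK, FiniteField.ringEquivOfCardEq hc, δ, hδ0, hδ⟩

variable {F : Type} [Field F] [Fintype F] {K : Type v} [Field K] [Fintype K] {q : ℕ}
  (hK : Fintype.card K = q ^ 2) (ι : F ≃+* fixedField hK)

/-- Two odd order automorphisms of `K` that agree on `F` are equal. -/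
theorem lift_unique {θ θ' : RingAut K} (h : Odd (orderOf θ)) (h' : Odd (orderOf θ'))
    (e : ∀ r : F, θ (ι r : K) = θ' (ι r : K)) : θ = θ' := by
  obtain ⟨p, k, hp, hchar, hq⟩ : ∃ p k, p.Prime ∧ CharP K p ∧ q = p ^ k := by
    obtain ⟨p, hp⟩ := CharP.exists K
    obtain ⟨j, hpp, hj⟩ := FiniteField.card K p
    have : q ∣ p ^ (j : ℕ) := ⟨q, by rw [← hj, hK, pow_two]⟩
    obtain ⟨k, -, hk⟩ := (Nat.dvd_prime_pow hpp).1 this
    exact ⟨p, k, hpp, hp, hk⟩
  obtain ⟨i, hi⟩ := exists_frob hp θ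
  obtain ⟨j, hj⟩ := exists_frob hp θ'
  have hc : Commute θ θ' := RingEquiv.ext fun x => by
    rw [RingAut.mul_apply, RingAut.mul_apply, hi, hi, hj, hj, ← pow_mul, ← pow_mul, mul_comm]
  have hodd : Odd (orderOf (θ⁻¹ * θ')) := by
    refine Odd.of_dvd_nat ?_ hc.inv_left.orderOf_mul_dvd_lcm
    rw [orderOf_inv]
    exact (Nat.odd_mul.2 ⟨h, h'⟩).of_dvd_nat (Nat.lcm_dvd_mul _ _)
  refine inv_mul_eq_one.1 (eq_one_of_fix_real hp hK hq hodd fun r hr => ?_)
  have hr' : (ι (ι.symm ⟨r, hr⟩) : K) = r := congrArg Subtype.val (ι.apply_symm_apply _)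
  have := e (ι.symm ⟨r, hr⟩)
  rw [hr'] at this
  rw [RingAut.mul_apply, ← this]
  exact θ.symm_apply_apply r

/-- The odd order extension. -/
theorem exists_lift_aut (σ : F ≃+* F) (h : Odd (orderOf σ)) :
    ∃ θ : RingAut K, Odd (orderOf θ) ∧ ∀ r : F, θ (ι r : K) = (ι (σ r) : K) := by
  obtain ⟨p, hp⟩ := CharP.exists F
  obtain ⟨k, hpp, -⟩ := FiniteField.card F p
  haveI := Fact.mk hpp
  haveI : CharP (fixedField hK) p := (RingHom.charP_iff (ι : F →+* fixedField hK) ι.injective p).1 hp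
  haveI : CharP K p := (RingHom.charP_iff (fixedField hK).subtype Subtype.val_injective p).1 inferInstance
  obtain ⟨i, hi⟩ := exists_frob hpp σ
  let θ0 : RingAut K := iterateFrobeniusEquiv K p i
  have h0 : ∀ r : F, θ0 (ι r : K) = (ι (σ r) : K) := fun r => by
    show iterateFrobeniusEquiv K p i _ = _
    rw [iterateFrobeniusEquiv_def, hi, map_pow, SubmonoidClass.coe_pow]
  have hpow : ∀ (c : ℕ) (r : F), (θ0 ^ c) (ι r : K) = (ι ((σ ^ c) r) : K) := fun c => by
    induction c with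
    | zero => exact fun r => rfl
    | succ c ih => exact fun r => by rw [pow_succ, pow_succ, RingAut.mul_apply, RingAut.mul_apply, h0, ih]
  haveI : Finite (RingAut K) := Finite.of_injective (fun σ => (σ : K → K)) DFunLike.coe_injective
  have hpos : orderOf θ0 ≠ 0 := (orderOf_pos θ0).ne'
  obtain ⟨a, d, hd, he⟩ := Nat.exists_eq_two_pow_mul_odd hpos
  have hcop : (orderOf σ).Coprime (2 ^ a) := Nat.Coprime.pow_right _ (Nat.coprime_two_right.2 h)
  obtain ⟨c, hc1, hc2⟩ := Nat.chineseRemainder hcop 1 0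
  refine ⟨θ0 ^ c, hd.of_dvd_nat (orderOf_dvd_of_pow_eq_one ?_), fun r => ?_⟩
  · rw [← pow_mul, ← orderOf_dvd_iff_pow_eq_one, he]
    exact Nat.mul_dvd_mul_right (Nat.modEq_zero_iff_dvd.1 hc2) d
  · rw [hpow, pow_eq_pow_iff_modEq.2 hc1, pow_one]

variable {δ : K} (hδ0 : δ ≠ 0) (hδ : δ ^ q = -δ)

/-- Conjugation by an element of `GL(2, q)` is conjugation by an element of `U2`. -/
theorem exists_realise (g : GL (Fin (0 + 2)) F) :
    ∃ u : U2 K q, ∀ x : SL2 F,
      slK hK ι hδ0 hδ (semiSL g (RingEquiv.refl F) x) = u * slK hK ι hδ0 hδ x * u⁻¹ := by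
  have hfix : ∀ r : F, (ι r : K) ^ q = (ι r : K) := fun r => (mem_fixedField hK).1 (ι r).2
  set M : Matrix (Fin 2) (Fin 2) F := (g : Matrix (Fin 2) (Fin 2) F) with hM
  have hD : M.det ≠ 0 := (Matrix.GeneralLinearGroup.det g).ne_zero
  have hDK : (ι M.det : K) ≠ 0 := fun h => hD (ι.injective (Subtype.ext (by rw [h, map_zero]; rfl)))
  obtain ⟨l, hl⟩ := exists_norm_eq hK (c := ((ι M.det : K))⁻¹) (by rw [inv_pow, hfix])
  have hq0 : q ≠ 0 := fun h => by
    rw [h, zero_pow two_ne_zero] at hK; exact Fintype.card_ne_zero hK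
  have hdetK : (ι M.det : K) = (ι (M 0 0) : K) * (ι (M 1 1) : K) - (ι (M 0 1) : K) * (ι (M 1 0) : K) := by
    rw [Matrix.det_fin_two]; simp
  have hl1 : l ^ q * l * ((ι (M 0 0) : K) * (ι (M 1 1) : K) - (ι (M 0 1) : K) * (ι (M 1 0) : K)) = 1 := by
    rw [← pow_succ, hl, ← hdetK, inv_mul_cancel₀ hDK]
  let u : U2 K q := mk4 hK (l * (ι (M 0 0) : K)) (l * (ι (M 0 1) : K) * δ) (l * (ι (M 1 0) : K) / δ)
    (l * (ι (M 1 1) : K))
    (by rw [div_pow, mul_pow, mul_pow, hfix, hfix, hδ]; field_simp; ring)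
    (by rw [mul_pow, mul_pow, mul_pow, hfix, hfix, hδ]; ring)
    (by rw [mul_pow, mul_pow, mul_pow, hfix, hfix, hδ]; field_simp; linear_combination hl1)
  obtain ⟨u0, u1, u2, u3⟩ : e00 u = _ ∧ e01 u = _ ∧ e10 u = _ ∧ e11 u = _ := mk4_entries hK _ _ _ _ _ _ _
  refine ⟨u, fun x => ?_⟩
  set y := semiSL g (RingEquiv.refl F) x with hy
  rw [eq_mul_inv_iff_mul_eq]
  have h1 : y.1 * M = M * x.1 := by
    rw [hy, AutPSL.semiSL_coe, RingEquiv.coe_refl, Matrix.map_id, hM, mul_assoc,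
      show ((g⁻¹ : GL (Fin (0 + 2)) F) : Matrix (Fin 2) (Fin 2) F) * (g : Matrix (Fin 2) (Fin 2) F) = 1 from
        g.inv_mul, mul_one]
  have k00 := congrArg (fun m : Matrix (Fin 2) (Fin 2) F => (ι (m 0 0) : K)) h1
  have k01 := congrArg (fun m : Matrix (Fin 2) (Fin 2) F => (ι (m 0 1) : K)) h1
  have k10 := congrArg (fun m : Matrix (Fin 2) (Fin 2) F => (ι (m 1 0) : K)) h1
  have k11 := congrArg (fun m : Matrix (Fin 2) (Fin 2) F => (ι (m 1 1) : K)) h1
  simp [Matrix.mul_apply, Fin.sum_univ_two] at k00 k01 k10 k11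
  obtain ⟨a0, b0, c0, d0⟩ := slK_entries hK ι hδ0 hδ x
  obtain ⟨a1, b1, c1, d1⟩ := slK_entries hK ι hδ0 hδ y
  apply ext4 <;> simp only [e00_mul, e01_mul, e10_mul, e11_mul, a0, b0, c0, d0, a1, b1, c1, d1, u0, u1, u2, u3] <;>
    field_simp
  · linear_combination l * k00
  · linear_combination l * k01
  · linear_combination l * k10
  · linear_combination l * k11

/-- `semiSL g σ` on `SL(2, q)` is `mapU2 θ` followed by conjugation in `U2`. -/
theorem exists_semilinear (g : GL (Fin (0 + 2)) F) (σ : F ≃+* F) {θ : RingAut K}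
    (hθ : ∀ r : F, θ (ι r : K) = (ι (σ r) : K)) :
    ∃ u : U2 K q, ∀ x : SL2 F,
      slK hK ι hδ0 hδ (semiSL g σ x) = u * mapU2 hK θ (slK hK ι hδ0 hδ x) * u⁻¹ := by
  have hθ0 : θ δ ≠ 0 := (map_ne_zero θ).2 hδ0
  let ρ : F := ι.symm ⟨θ δ / δ, by
    show (θ δ / δ) ^ q = θ δ / δ
    rw [div_pow, ← map_pow, hδ, map_neg, neg_div_neg_eq]⟩
  have hρ : (ι ρ : K) = θ δ / δ := congrArg Subtype.val (ι.apply_symm_apply _)
  have hρ0 : ρ ≠ 0 := fun h => div_ne_zero hθ0 hδ0 (by rw [← hρ, h, map_zero]; rfl)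
  let d : GL (Fin (0 + 2)) F := Matrix.GeneralLinearGroup.mkOfDetNeZero !![ρ, 0; 0, 1]
    (by rw [Matrix.det_fin_two_of]; simpa using hρ0)
  obtain ⟨u, hu⟩ := exists_realise hK ι hδ0 hδ (g * d⁻¹)
  refine ⟨u, fun x => ?_⟩
  have hmap : mapU2 hK θ (slK hK ι hδ0 hδ x) = slK hK ι hδ0 hδ (semiSL d σ x) := by
    set y := semiSL d σ x with hy
    have h1 : y.1 * (d : Matrix (Fin 2) (Fin 2) F) = (d : Matrix (Fin 2) (Fin 2) F) * x.1.map σ := by
      rw [hy, AutPSL.semiSL_coe, mul_assoc,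
        show ((d⁻¹ : GL (Fin (0 + 2)) F) : Matrix (Fin 2) (Fin 2) F) * (d : Matrix (Fin 2) (Fin 2) F) = 1 from
          d.inv_mul, mul_one]
    have k00 := congrArg (fun m : Matrix (Fin 2) (Fin 2) F => (ι (m 0 0) : K)) h1
    have k01 := congrArg (fun m : Matrix (Fin 2) (Fin 2) F => (ι (m 0 1) : K)) h1
    have k10 := congrArg (fun m : Matrix (Fin 2) (Fin 2) F => (ι (m 1 0) : K)) h1
    have k11 := congrArg (fun m : Matrix (Fin 2) (Fin 2) F => (ι (m 1 1) : K)) h1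
    simp [d, Matrix.mul_apply, Fin.sum_univ_two, Matrix.GeneralLinearGroup.mkOfDetNeZero, hρ, ← hθ]
      at k00 k01 k10 k11
    obtain ⟨a0, b0, c0, d0⟩ := slK_entries hK ι hδ0 hδ x
    obtain ⟨a1, b1, c1, d1⟩ := slK_entries hK ι hδ0 hδ y
    obtain ⟨m0, m1, m2, m3⟩ := mapU2_entries hK θ (slK hK ι hδ0 hδ x)
    try field_simp at k00
    try field_simp at k01
    try field_simp at k10
    try field_simp at k11
    apply ext4 <;> simp only [m0, m1, m2, m3, a0, b0, c0, d0, a1, b1, c1, d1, map_mul, map_div₀] <;> (try field_simp)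
    · linear_combination -k00
    · linear_combination -k01
    · linear_combination -k10
    · linear_combination -k11
  rw [hmap, ← hu]
  congr 1
  refine Subtype.ext ?_
  rw [AutPSL.semiSL_coe, AutPSL.semiSL_coe, AutPSL.semiSL_coe, RingEquiv.coe_refl, Matrix.map_id, mul_inv_rev,
    inv_inv]
  simp only [Units.val_mul, mul_assoc]
  rw [← mul_assoc ((d⁻¹ : GL (Fin (0 + 2)) F) : Matrix (Fin (0 + 2)) (Fin (0 + 2)) F) (d : Matrix _ _ F),
    Units.inv_mul, one_mul, ← mul_assoc ((d⁻¹ : GL (Fin (0 + 2)) F) : Matrix (Fin (0 + 2)) (Fin (0 + 2)) F)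
      (d : Matrix _ _ F), Units.inv_mul, one_mul]

section Minus

variable {G : Type u} [Group G] [Finite G] {z : G} (hodd : Odd (Nat.card F))
  {N : Subgroup (↥(centralizer ({z} : Set G)) ⧸ Cfsg.oddCore ↥(centralizer ({z} : Set G)))} [hNn : N.Normal]
  (e : N ≃* SL2 F)
  (hcore : ∀ x ∈ Cfsg.oddCore ↥(centralizer ({z} : Set G)), ∀ y : ↥(centralizer ({z} : Set G)),
    fieldPart e hodd (QuotientGroup.mk' (Cfsg.oddCore ↥(centralizer ({z} : Set G))) y) = 1 → Commute x y)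
  (hcyc : IsCyclic (Cfsg.oddCore ↥(centralizer ({z} : Set G))))
  {Q : Sylow 2 (↥(centralizer ({z} : Set G)) ⧸ Cfsg.oddCore ↥(centralizer ({z} : Set G)))} {n m : ℕ}
  {a : ↥(centralizer ({z} : Set G))}
  (hA : QGroup.Amb Q (QuotientGroup.mk' (Cfsg.oddCore ↥(centralizer ({z} : Set G)))
    ⟨z, mem_centralizer_singleton_iff.2 rfl⟩))
  (hD : DiagElem e hodd Q n (QuotientGroup.mk' (Cfsg.oddCore ↥(centralizer ({z} : Set G))) a)) (ha : a ^ 2 ^ n = 1)
  (hn : 1 ≤ n) (hz : orderOf z = 2) (hm : Odd m)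
  (hdvd : Nat.card (Cfsg.oddCore ↥(centralizer ({z} : Set G))) ∣ m)

include hcore hcyc hA hD ha hn hz hm hdvd

/-- **Sign `-`.** -/
theorem exists_minus (hq : Nat.card F + 1 = 2 ^ n * m) :
    ∃ (K : Type) (_ : Field K) (_ : Fintype K) (hK : Fintype.card K = Nat.card F ^ 2)
      (p : U2 K (Nat.card F) →* G) (χ : ↥(centralizer ({z} : Set G)) →* RingAut K),
      p (negOne hK) = z ∧ (∀ g ∈ p.ker, e01 g = 0 ∧ e10 g = 0 ∧ e00 g = e11 g) ∧ Odd (Nat.card p.ker) ∧
      p.range ≤ centralizer ({z} : Set G) ∧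
      (∀ c : ↥(centralizer ({z} : Set G)), χ c = 1 ↔ (c : G) ∈ p.range) ∧
      (∀ c : ↥(centralizer ({z} : Set G)), Odd (orderOf (χ c))) ∧
      ∀ c : ↥(centralizer ({z} : Set G)), ∃ g : U2 K (Nat.card F), ∀ h : U2 K (Nat.card F), det2 h = 1 →
        (c : G) * p h * (c : G)⁻¹ = p (g * mapU2 hK (χ c) h * g⁻¹) := by
  classical
  obtain ⟨K, iK, iKf, hK, ι, δ, hδ0, hδ⟩ := exists_sq_field F
  have h2 : (2 : K) ≠ 0 := fun h => (two_ne_zero_iff_odd.2 hodd : (2 : F) ≠ 0) (ι.injective (Subtype.ext (by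
    rw [map_ofNat, map_zero]; exact h)))
  obtain ⟨p, χ, hpz, hpk, hpo, hpr, hχ, hχodd, hact⟩ :=
    exists_minus_aux hodd e hcore hcyc hA hD ha hn hz hm hdvd hK ι hδ0 hδ h2 hq
  choose θ hθodd hθ using fun c => exists_lift_aut hK ι (χ c) (hχodd c)
  have hmul : ∀ c d, θ (c * d) = θ c * θ d := fun c d => by
    refine lift_unique hK ι (hθodd _) ?_ fun r => by
      rw [hθ, RingAut.mul_apply, hθ, hθ, map_mul, RingAut.mul_apply]
    obtain ⟨r, hr⟩ := CharP.exists K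
    obtain ⟨_, hrp, -⟩ := FiniteField.card K r
    obtain ⟨i, hi⟩ := exists_frob hrp (θ c)
    obtain ⟨j, hj⟩ := exists_frob hrp (θ d)
    have hc : Commute (θ c) (θ d) := RingEquiv.ext fun x => by
      rw [RingAut.mul_apply, RingAut.mul_apply, hi, hi, hj, hj, ← pow_mul, ← pow_mul, mul_comm]
    exact (Nat.odd_mul.2 ⟨hθodd c, hθodd d⟩).of_dvd_nat (hc.orderOf_mul_dvd_lcm.trans (Nat.lcm_dvd_mul _ _))
  refine ⟨K, iK, iKf, hK, p, MonoidHom.mk' θ hmul, hpz, hpk, hpo, hpr, fun c => ?_, hθodd, fun c => ?_⟩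
  · rw [← hχ c, MonoidHom.mk'_apply]
    constructor
    · intro h
      refine RingEquiv.ext fun r => ι.injective (Subtype.ext ?_)
      rw [← hθ, h]; rfl
    · intro h
      refine lift_unique hK ι (hθodd c) (by rw [orderOf_one]; exact odd_one) fun r => ?_
      rw [hθ, h]; rfl
  · obtain ⟨g, hg⟩ := hact c
    obtain ⟨u, hu⟩ := exists_semilinear hK ι hδ0 hδ g (χ c) (hθ c)
    refine ⟨u, fun h hh => ?_⟩
    obtain ⟨x, rfl⟩ := (range_slK hK ι hδ0 hδ h).2 hh
    rw [MonoidHom.mk'_apply, hg, hu]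

end Minus

end Cfsg.Agent.SDBudget
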