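import Cfsg.Agent.Lib.SDBudget.EndData
import Cfsg.Agent.Lib.InvolChar.WreathBranch
import Cfsg.Agent.Lib.GWDihedral.LocalMixed

/-!
# The formula of Brauer in the form of the end game

* `formula_wreathed` : from a wreathed Sylow 2-subgroup;
* `formula_semidihedral` : from a semidihedral one, given regularity at the prime of `q`.
-/

set_option autoImplicit false
set_option linter.unusedSectionVars false
set_option linter.style.haveILetI false

namespace Cfsg.Agent.SDBudget

open Subgroup Cfsg.Agent.QDWreath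

universe u

variable {G : Type u} [Group G] [Finite G] [IsSimpleGroup G] (hG : ¬ IsMulCommutative G)
  (S : Sylow 2 G) {z : G} (hz : orderOf z = 2) (hzS : z ∈ S) (hzc : ∀ s ∈ (S : Subgroup G), s * z = z * s)
  {F : Type} [Field F] [Fintype F] (hodd : Odd (Nat.card F))
  {N : Subgroup (↥(centralizer ({z} : Set G)) ⧸ Cfsg.oddCore ↥(centralizer ({z} : Set G)))} [hNn : N.Normal]
  (e : N ≃* Matrix.SpecialLinearGroup (Fin 2) F)
include hG hz hzS hzc hodd e

/-- **Wreathed.** -/
theorem formula_wreathed (hS : Cfsg.IsWreathed (S : Subgroup G)) : Formula z (Nat.card F) := by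
  obtain ⟨p, hp⟩ := CharP.exists F
  obtain ⟨m, hpp, hm⟩ := FiniteField.card F p
  haveI := Fact.mk hpp
  have hp2 : p ≠ 2 := fun h => by
    rw [Nat.card_eq_fintype_card, hm, h, Nat.odd_pow_iff m.ne_zero] at hodd
    exact absurd hodd (by decide)
  obtain ⟨k, ⟨d⟩⟩ := nonempty_wrData hS
  have hh0 := Transfer.WR.half_ne_zero d
  set h := tp k (k - 1) with hh
  have hha : h + h = 0 := by rw [show h = InvolChar.halfI k from rfl]; exact InvolChar.WPar.half_add d.hn
  have hzc' : (⟨z, hzS⟩ : (S : Subgroup G)) ∈ center (S : Subgroup G) :=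
    mem_center_iff.2 fun w => Subtype.ext (hzc w w.2)
  obtain ⟨i, hi⟩ := d.mem_center.1 hzc'
  have hza : (⟨z, hzS⟩ : (S : Subgroup G)) = d.a h h := by
    rcases Transfer.WR.involution_cases d (show orderOf (⟨z, hzS⟩ : (S : Subgroup G)) = 2 by
      rw [Subgroup.orderOf_mk, hz]) with e' | e' | e' | ⟨j, e'⟩
    · exact e'
    · rw [hi, d.a_inj] at e'; exact absurd (e'.1.symm.trans e'.2) hh0
    · rw [hi, d.a_inj] at e'; exact absurd (e'.2.symm.trans e'.1) hh0
    · rw [hi] at e'; exact absurd e' (d.a_ne_b _ _ _ _)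
  -- the four-group of the involutions of the base
  let x : (S : Subgroup G) := d.a h 0
  let y : (S : Subgroup G) := d.a 0 h
  have hx2 : x * x = 1 := by rw [d.a_mul_a, hha, add_zero, d.a_zero]
  have hxy : x ≠ y := fun e' => hh0 (d.a_inj.1 e').1
  have hy2 : y * y = 1 := by rw [d.a_mul_a, hha, add_zero, d.a_zero]
  have hxo : orderOf (x : G) = 2 := by
    rw [Subgroup.orderOf_coe]
    exact orderOf_eq_prime (by rw [pow_two, hx2]) fun e' => hh0 (d.a_inj.1 (e'.trans d.a_zero.symm)).1
  have hyo : orderOf (y : G) = 2 := by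
    rw [Subgroup.orderOf_coe]
    exact orderOf_eq_prime (by rw [pow_two, hy2]) fun e' => hh0 (d.a_inj.1 (e'.trans d.a_zero.symm)).2
  have hcomm : Commute (x : G) y := congrArg Subtype.val (show x * y = y * x by simp [x, y, d.a_mul_a])
  have hzU : z ∈ closure ({(x : G), (y : G)} : Set G) := by
    have : z = (x : G) * y := by
      rw [← Subgroup.coe_mul, show x * y = d.a h h by simp [x, y, d.a_mul_a], ← hza]
    rw [this]
    exact mul_mem (subset_closure (Set.mem_insert _ _)) (subset_closure (Set.mem_insert_of_mem _ rfl))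
  have hUS : closure ({(x : G), (y : G)} : Set G) ≤ (S : Subgroup G) :=
    (closure_le _).2 (Set.insert_subset x.2 (Set.singleton_subset_iff.2 y.2))
  have hUn : ∀ r ∈ (S : Subgroup G), ∀ w ∈ closure ({(x : G), (y : G)} : Set G),
      r * w * r⁻¹ ∈ closure ({(x : G), (y : G)} : Set G) := by
    intro r hr w hw
    have key : closure ({(x : G), (y : G)} : Set G) ≤
        (closure ({(x : G), (y : G)} : Set G)).comap (MulAut.conj r).toMonoidHom := by
      rcases d.cases ⟨r, hr⟩ with ⟨i, j, e'⟩ | ⟨i, j, e'⟩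
      · refine (closure_le _).2 (Set.insert_subset ?_ (Set.singleton_subset_iff.2 ?_))
        · show r * (x : G) * r⁻¹ ∈ closure ({(x : G), (y : G)} : Set G)
          have := d.conj_a_a i j h 0
          rw [← e'] at this
          rw [show r * (x : G) * r⁻¹ = x from congrArg Subtype.val this]
          exact subset_closure (Set.mem_insert _ _)
        · show r * (y : G) * r⁻¹ ∈ closure ({(x : G), (y : G)} : Set G)
          have := d.conj_a_a i j 0 h
          rw [← e'] at this
          rw [show r * (y : G) * r⁻¹ = y from congrArg Subtype.val this]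
          exact subset_closure (Set.mem_insert_of_mem _ rfl)
      · refine (closure_le _).2 (Set.insert_subset ?_ (Set.singleton_subset_iff.2 ?_))
        · show r * (x : G) * r⁻¹ ∈ closure ({(x : G), (y : G)} : Set G)
          have := d.conj_b_a i j h 0
          rw [← e'] at this
          rw [show r * (x : G) * r⁻¹ = y from congrArg Subtype.val this]
          exact subset_closure (Set.mem_insert_of_mem _ rfl)
        · show r * (y : G) * r⁻¹ ∈ closure ({(x : G), (y : G)} : Set G)
          have := d.conj_b_a i j 0 h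
          rw [← e'] at this
          rw [show r * (y : G) * r⁻¹ = x from congrArg Subtype.val this]
          exact subset_closure (Set.mem_insert _ _)
    exact key hw
  have hU := GWDihedral.isKleinFour_fourV_of_commute hxo hyo (fun e' => hxy (Subtype.ext e')) hcomm
  obtain ⟨ε, hε, -, he⟩ := InvolChar.wreathed_order hG S hS z hz hzS hzc (closure {(x : G), (y : G)}) hUS hU hUn hp2
    m m.pos F hm ⟨N, hNn, ⟨e⟩⟩
  refine ⟨_, hU, hzU, ε, hε, ?_⟩
  have : ((Nat.card F : ℕ) : ℤ) = (p : ℤ) ^ (m : ℕ) := by rw [Nat.card_eq_fintype_card, hm, Nat.cast_pow]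
  rw [this]
  exact he

/-- **Semidihedral**, given regularity. -/
theorem formula_semidihedral (hS : Cfsg.IsQuasiDihedral (S : Subgroup G)) (U : Subgroup G)
    (hUS : U ≤ (S : Subgroup G)) (hU : IsKleinFour U) (hzU : z ∈ U)
    (hreg : ∀ p : ℕ, p.Prime → p ∣ Nat.card F →
      3 * padicValNat p (Nat.card (centralizer ({z} : Set G))) ≤
        padicValNat p (Nat.card G) + 2 * padicValNat p (Nat.card (centralizer (U : Set G)))) :
    Formula z (Nat.card F) := by
  obtain ⟨p, hp⟩ := CharP.exists F
  obtain ⟨m, hpp, hm⟩ := FiniteField.card F p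
  haveI := Fact.mk hpp
  have hp2 : p ≠ 2 := fun h => by
    rw [Nat.card_eq_fintype_card, hm, h, Nat.odd_pow_iff m.ne_zero] at hodd
    exact absurd hodd (by decide)
  obtain ⟨ε, hε, he⟩ := InvolChar.semidihedral_branch hG S hS z hz hzS hzc U hUS hU hp2 m m.pos F hm
    ⟨N, hNn, ⟨e⟩⟩ (hreg p hpp (by rw [Nat.card_eq_fintype_card, hm]; exact dvd_pow_self p m.ne_zero))
  refine ⟨U, hU, hzU, ε, hε, ?_⟩
  have : ((Nat.card F : ℕ) : ℤ) = (p : ℤ) ^ (m : ℕ) := by rw [Nat.card_eq_fintype_card, hm, Nat.cast_pow]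
  rw [this]
  exact he

end Cfsg.Agent.SDBudget
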