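import Cfsg.Agent.Lib.SDBudget.EndData
import Cfsg.Agent.Lib.LThreeRec.Basic

/-!
# The action on all of `GL(2, q)` (endgame, sign `+`)

`exists_plus` gives the semilinear action of `C(z)` on the image of `SL(2, q)` only.  A swap `g` of `z` and
`s` keeping the linear part of `C(z) ∩ C(s)` and meeting the scalars of odd order trivially extends it to
the scalars:

* `fieldPart_swap` : the field part commutes with `g`;
* `act_diag`, `act_scal` : the action on the diagonal and on the scalars;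
* `exists_hyp_plus` : the hypothesis `LThreeRec.Hyp` with the index.
-/

set_option autoImplicit false
set_option linter.unusedSectionVars false
set_option linter.style.haveILetI false

namespace Cfsg.Agent.SDBudget

open Subgroup Matrix Cfsg.Agent.LThreeRec

universe u

/-- An element of 2-power order fixed by an odd iterate of a power map is fixed by the power map. -/
theorem pow_eq_self {M : Type*} [Group M] {y : M} {j r N : ℕ} (hy : y ^ 2 ^ j = 1) (hN : Odd N)
    (h : y ^ r ^ N = y) : y ^ r = y := by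
  obtain ⟨i, -, hi⟩ := (Nat.dvd_prime_pow Nat.prime_two).1 (orderOf_dvd_of_pow_eq_one hy)
  rcases Nat.eq_zero_or_pos i with rfl | hi0
  · rw [pow_zero, orderOf_eq_one_iff] at hi
    rw [hi, one_pow]
  haveI : NeZero (2 ^ i) := ⟨(Nat.two_pow_pos i).ne'⟩
  have h' : r ^ N ≡ 1 [MOD 2 ^ i] := by
    rw [← hi]; exact pow_eq_pow_iff_modEq.1 (by rw [h, pow_one])
  have hcast : ((r : ZMod (2 ^ i))) ^ N = 1 := by
    have := (ZMod.natCast_eq_natCast_iff _ _ _).2 h'
    simpa using this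
  have hu : IsUnit (r : ZMod (2 ^ i)) := (isUnit_pow_iff hN.pos.ne').1 (hcast ▸ isUnit_one)
  obtain ⟨v, hv⟩ := hu
  have h1 : orderOf v ∣ N := orderOf_dvd_of_pow_eq_one (Units.ext (by rw [Units.val_pow_eq_pow_val, hv, hcast]; rfl))
  have h2 : orderOf v ∣ 2 ^ (i - 1) := by
    have := orderOf_dvd_natCard v
    rwa [Nat.card_eq_fintype_card, ZMod.card_units_eq_totient, Nat.totient_prime_pow Nat.prime_two hi0,
      show (2 - 1 : ℕ) = 1 from rfl, mul_one] at this
  have hv1 : v = 1 := orderOf_eq_one_iff.1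
    (Nat.eq_one_of_dvd_coprimes ((Nat.coprime_two_right.2 hN).pow_right _) h1 h2)
  have hr : r ≡ 1 [MOD 2 ^ i] := (ZMod.natCast_eq_natCast_iff _ _ _).1 (by rw [← hv, hv1]; simp)
  rw [← hi] at hr
  rw [pow_eq_pow_iff_modEq.2 hr, pow_one]

variable {G : Type u} [Group G] [Finite G] {F : Type} [Field F] [Fintype F]

/-- Entrywise action of a field automorphism. -/
abbrev mpF (e : F ≃+* F) : GL (Fin 2) F →* GL (Fin 2) F := GeneralLinearGroup.map (n := Fin 2) e.toRingHom

theorem mp_mul (e e' : F ≃+* F) (h : GL (Fin 2) F) : mpF (e * e') h = mpF e (mpF e' h) :=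
  ext2 rfl rfl rfl rfl

theorem mp_one (h : GL (Fin 2) F) : mpF 1 h = h := ext2 rfl rfl rfl rfl

theorem det_conj' (a h : GL (Fin 2) F) :
    ((a * h * a⁻¹ : GL (Fin 2) F) : Matrix (Fin 2) (Fin 2) F).det = (h : Matrix (Fin 2) (Fin 2) F).det := by
  rw [GeneralLinearGroup.coe_mul, GeneralLinearGroup.coe_mul, det_mul, det_mul, GeneralLinearGroup.coe_inv,
    det_nonsing_inv, Ring.inverse_eq_inv', mul_right_comm, mul_inv_cancel₀ (GeneralLinearGroup.det_ne_zero a),
    one_mul]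

theorem det_conj'' (a h : GL (Fin 2) F) :
    ((a⁻¹ * h * a : GL (Fin 2) F) : Matrix (Fin 2) (Fin 2) F).det = (h : Matrix (Fin 2) (Fin 2) F).det := by
  simpa using det_conj' a⁻¹ h

theorem det_mp (e : F ≃+* F) {h : GL (Fin 2) F} (hh : (h : Matrix (Fin 2) (Fin 2) F).det = 1) :
    (mpF e h : Matrix (Fin 2) (Fin 2) F).det = 1 := by
  show ((h : Matrix (Fin 2) (Fin 2) F).map e.toRingHom).det = 1
  rw [← RingHom.mapMatrix_apply, ← RingHom.map_det, hh, map_one]

theorem mp_dg (e : F ≃+* F) (a b : Fˣ) :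
    mpF e (dg (a, b)) = dg (Units.map e.toRingHom a, Units.map e.toRingHom b) :=
  ext2 (by simp) (by simp) (by simp) (by simp)

variable (p : GL (Fin 2) F →* G) (hc : p.ker ≤ center (GL (Fin 2) F)) (ho : Odd (Nat.card p.ker))

include hc ho in
theorem ker_det {k : GL (Fin 2) F} (hk : p k = 1) (hd : (k : Matrix (Fin 2) (Fin 2) F).det = 1) : k = 1 := by
  obtain ⟨a, b, c⟩ := center_scalar (hc hk)
  rw [det_fin_two, a, zero_mul, sub_zero, c] at hd
  have h2 : k * k = 1 := ext2 (by simp [a, c, hd]) (by simp [a, b]) (by simp [a, b]) (by simp [b, hd])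
  have h1 : orderOf (⟨k, hk⟩ : p.ker) ∣ 2 := orderOf_dvd_of_pow_eq_one (Subtype.ext (by simp [pow_two, h2]))
  exact congrArg Subtype.val (orderOf_eq_one_iff.1
    (Nat.eq_one_of_dvd_coprimes (Nat.coprime_two_left.2 ho) h1 (orderOf_dvd_natCard _)))

include hc ho in
theorem eq_of_det_eq {g h : GL (Fin 2) F} (e : p g = p h)
    (hd : (g : Matrix (Fin 2) (Fin 2) F).det = (h : Matrix (Fin 2) (Fin 2) F).det) : g = h := by
  refine mul_inv_eq_one.1 (ker_det p hc ho (by rw [map_mul, map_inv, e, mul_inv_cancel]) ?_)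
  rw [GeneralLinearGroup.coe_mul, det_mul, GeneralLinearGroup.coe_inv, det_nonsing_inv, hd,
    Ring.inverse_eq_inv', mul_inv_cancel₀ (GeneralLinearGroup.det_ne_zero h)]

include hc ho in
theorem commute_lift {g h : GL (Fin 2) F} (e : Commute (p g) (p h)) : g * h = h * g :=
  eq_of_det_eq p hc ho (by rw [map_mul, map_mul]; exact e.eq)
    (by rw [GeneralLinearGroup.coe_mul, GeneralLinearGroup.coe_mul, det_mul, det_mul, mul_comm])

/-- The image of a scalar. -/
noncomputable def ps : Fˣ →* G := p.comp (dg.comp ((MonoidHom.id Fˣ).prod (MonoidHom.id Fˣ)))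

theorem ps_apply (a : Fˣ) : ps p a = p (dg (a, a)) := rfl

theorem ps_comm (a : Fˣ) (h : GL (Fin 2) F) : Commute (ps p a) (p h) := by
  show ps p a * p h = p h * ps p a
  rw [ps_apply, ← map_mul, ← map_mul]
  exact congrArg p (ext2 (by simp [mul_comm]) (by simp [mul_comm]) (by simp [mul_comm]) (by simp [mul_comm]))

include hc ho in
/-- What commutes with the upper and lower unipotents is a scalar. -/
theorem exists_ps {g : GL (Fin 2) F} (h : ∀ h : GL (Fin 2) F, (h : Matrix (Fin 2) (Fin 2) F).det = 1 →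
    Commute (p g) (p h)) : ∃ a : Fˣ, p g = ps p a := by
  have e1 := commute_lift p hc ho (h (u 1) (by simp [det_fin_two_of]))
  have e2 := commute_lift p hc ho (h (v 1) (by simp [det_fin_two_of]))
  have a00 := congrArg (fun k : GL (Fin 2) F => k 0 0) e1
  have a01 := congrArg (fun k : GL (Fin 2) F => k 0 1) e1
  have b00 := congrArg (fun k : GL (Fin 2) F => k 0 0) e2
  simp at a00 a01 b00
  obtain ⟨⟨a, b⟩, rfl⟩ := mem_dg (g := g) b00 a00
  refine ⟨a, ?_⟩
  have : a = b := Units.ext (by simpa using a01)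
  rw [this]; rfl

variable {z : G} (χ : ↥(centralizer ({z} : Set G)) →* (F ≃+* F))
  (hle : p.range ≤ centralizer ({z} : Set G)) (hχ : ∀ c, χ c = 1 ↔ (c : G) ∈ p.range)
  (hχodd : ∀ c, Odd (orderOf (χ c)))
  (hact : ∀ c : ↥(centralizer ({z} : Set G)), ∃ g : GL (Fin 2) F, ∀ h : GL (Fin 2) F,
    (h : Matrix (Fin 2) (Fin 2) F).det = 1 → (c : G) * p h * (c : G)⁻¹ = p (g * mpF (χ c) h * g⁻¹))
include hc ho hle hχ hact

theorem conj_mem (c : ↥(centralizer ({z} : Set G))) {y : G} (hy : y ∈ p.range) :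
    (c : G) * y * (c : G)⁻¹ ∈ p.range := by
  have := (hχ (c * ⟨y, hle hy⟩ * c⁻¹)).1 (by
    rw [map_mul, map_mul, map_inv, (hχ ⟨y, hle hy⟩).2 hy, mul_one, mul_inv_cancel])
  exact this

/-- Scalars go to scalars. -/
theorem conj_ps (c : ↥(centralizer ({z} : Set G))) (a : Fˣ) :
    ∃ b : Fˣ, (c : G) * ps p a * (c : G)⁻¹ = ps p b := by
  obtain ⟨k, hk⟩ := conj_mem p hc ho χ hle hχ hact c (y := ps p a) ⟨_, rfl⟩
  rw [← hk]
  refine exists_ps p hc ho fun h hh => ?_
  obtain ⟨w, hw⟩ := conj_mem p hc ho χ hle hχ hact c⁻¹ (y := p h) ⟨_, rfl⟩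
  have e : p h = (c : G) * p w * (c : G)⁻¹ := by rw [hw]; simp [mul_assoc]
  rw [hk, e]
  exact (ps_comm p a w).map (MulAut.conj (c : G))

/-- An element of 2-power order of the image of the scalars is fixed by an element of odd order. -/
theorem fix_two (c : ↥(centralizer ({z} : Set G))) (hodd : Odd (orderOf c)) {a : Fˣ} {j : ℕ}
    (hj : ps p a ^ 2 ^ j = 1) : (c : G) * ps p a * (c : G)⁻¹ = ps p a := by
  classical
  set R := (ps p).range
  haveI : IsCyclic R := isCyclic_of_surjective (ps p).rangeRestrict (ps p).rangeRestrict_surjective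
  haveI : Fintype R := Fintype.ofFinite R
  obtain ⟨b, hb⟩ := conj_ps p hc ho χ hle hχ hact c a
  set y : R := ⟨ps p a, a, rfl⟩
  set y' : R := ⟨ps p b, b, rfl⟩
  have ho' : orderOf y' = orderOf y := by
    rw [← Subgroup.orderOf_coe, ← Subgroup.orderOf_coe]
    show orderOf (ps p b) = orderOf (ps p a)
    rw [← hb, ← MulAut.conj_apply, MulEquiv.orderOf_eq]
  obtain ⟨r, hr⟩ : ∃ r : ℕ, y ^ r = y' := by
    have hsub : ((zpowers y : Subgroup R) : Set R).toFinset ⊆
        Finset.univ.filter fun w : R => w ^ orderOf y = 1 := fun w hw => by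
      rw [Set.mem_toFinset, SetLike.mem_coe] at hw
      obtain ⟨k, rfl⟩ := mem_powers_iff_mem_zpowers.2 hw
      rw [Finset.mem_filter]
      exact ⟨Finset.mem_univ _, by rw [← pow_mul, mul_comm, pow_mul, pow_orderOf_eq_one, one_pow]⟩
    have heq := Finset.eq_of_subset_of_card_le hsub ((IsCyclic.card_pow_eq_one_le (orderOf_pos y)).trans
      (by rw [Set.toFinset_card, ← Nat.card_eq_fintype_card]; exact (Nat.card_zpowers y).ge))
    have : y' ∈ zpowers y := by
      rw [← SetLike.mem_coe, ← Set.mem_toFinset, heq, Finset.mem_filter]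
      exact ⟨Finset.mem_univ _, by rw [← ho', pow_orderOf_eq_one]⟩
    exact mem_powers_iff_mem_zpowers.2 this
  have hr' : (c : G) * ps p a * (c : G)⁻¹ = ps p a ^ r := hb.trans (congrArg Subtype.val hr).symm
  have hit : ∀ k : ℕ, (c : G) ^ k * ps p a * ((c : G) ^ k)⁻¹ = ps p a ^ r ^ k := fun k => by
    induction k with
    | zero => simp
    | succ k ih =>
      rw [pow_succ', _root_.mul_inv_rev, show (c : G) * (c : G) ^ k * ps p a * (((c : G) ^ k)⁻¹ * (c : G)⁻¹) =
        (c : G) * ((c : G) ^ k * ps p a * ((c : G) ^ k)⁻¹) * (c : G)⁻¹ by group, ih, ← MulAut.conj_apply, map_pow,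
        MulAut.conj_apply, hr', ← pow_mul, ← pow_succ']
  have h1 := hit (orderOf c)
  rw [← Subgroup.coe_pow, pow_orderOf_eq_one, Subgroup.coe_one, one_mul, inv_one, mul_one] at h1
  rw [hr']
  exact pow_eq_self hj hodd h1.symm

variable (h5 : 5 ≤ Fintype.card F) (h2 : (2 : F) ≠ 0)
include h5 h2

/-- The action on the torus of `SL(2, q)` of an element of odd order centralising `s`. -/
theorem act_torus (x : ↥(centralizer ({z} : Set G))) (hxs : Commute (x : G) (p gs)) (hx : Odd (orderOf x)) :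
    ∃ d : Fˣ × Fˣ, ∀ h : GL (Fin 2) F, (h : Matrix (Fin 2) (Fin 2) F).det = 1 →
      (x : G) * p h * (x : G)⁻¹ = p (dg d * mpF (χ x) h * (dg d)⁻¹) := by
  classical
  obtain ⟨g0, hg0⟩ := hact x
  set σ := χ x
  let D : Fˣ → GL (Fin 2) F := fun a => dg (a, a⁻¹)
  have hD : ∀ a : Fˣ, (D a : Matrix (Fin 2) (Fin 2) F).det = 1 := fun a => by simp [D, det_fin_two_of]
  have hDinj : ∀ a b : Fˣ, p (D a) = p (D b) → a = b := fun a b h =>
    (Prod.ext_iff.1 (dg_injective (eq_of_det_eq p hc ho h (by rw [hD, hD])))).1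
  obtain ⟨a₁, ha₁⟩ : ∃ a : Fˣ, a * a ≠ 1 := by
    obtain ⟨a, ha⟩ := IsCyclic.exists_generator (α := Fˣ)
    refine ⟨a, fun h => ?_⟩
    have h1 : orderOf a ≤ 2 := Nat.le_of_dvd two_pos (orderOf_dvd_of_pow_eq_one (by rw [pow_two]; exact h))
    rw [orderOf_eq_card_of_forall_mem_zpowers ha, Nat.card_units, Nat.card_eq_fintype_card] at h1
    omega
  -- `g₀ (D σ a) g₀⁻¹` is diagonal
  have hdiag : (g0 0 1 = 0 ∧ g0 1 0 = 0) ∨ (g0 0 0 = 0 ∧ g0 1 1 = 0) := by
    set a := Units.map (σ.toRingHom : F →* F) a₁ with haσ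
    have hh := hg0 (D a₁) (hD a₁)
    have hcm : Commute ((x : G) * p (D a₁) * (x : G)⁻¹) (p gs) := by
      have e1 : Commute (p (D a₁)) (p gs) := by
        show p (D a₁) * p gs = p gs * p (D a₁)
        simp only [D, gs]
        rw [← map_mul, ← map_mul, ← map_mul, ← map_mul, mul_comm]
      exact ((hxs.mul_left e1).mul_left hxs.inv_left)
    rw [hh] at hcm
    have hk := commute_lift p hc ho hcm
    rw [mp_dg] at hk
    set k := g0 * dg (Units.map (σ.toRingHom : F →* F) a₁, Units.map (σ.toRingHom : F →* F) a₁⁻¹) * g0⁻¹ with hkdef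
    have k01 := congrArg (fun w : GL (Fin 2) F => w 0 1) hk
    have k10 := congrArg (fun w : GL (Fin 2) F => w 1 0) hk
    simp at k01 k10
    have k01' : k 0 1 = 0 :=
      (mul_eq_zero.1 (show (2 : F) * k 0 1 = 0 by linear_combination -k01)).resolve_left h2
    have k10' : k 1 0 = 0 :=
      (mul_eq_zero.1 (show (2 : F) * k 1 0 = 0 by linear_combination k10)).resolve_left h2
    obtain ⟨⟨b, b'⟩, hb⟩ := mem_dg k01' k10'
    have heq : dg (b, b') * g0 = g0 * dg (Units.map (σ.toRingHom : F →* F) a₁, Units.map (σ.toRingHom : F →* F) a₁⁻¹) := by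
      rw [hb, hkdef, inv_mul_cancel_right]
    have q00 := congrArg (fun w : GL (Fin 2) F => w 0 0) heq
    have q01 := congrArg (fun w : GL (Fin 2) F => w 0 1) heq
    have q10 := congrArg (fun w : GL (Fin 2) F => w 1 0) heq
    have q11 := congrArg (fun w : GL (Fin 2) F => w 1 1) heq
    simp at q00 q01 q10 q11
    have hne : σ (a₁ : F) - (σ (a₁ : F))⁻¹ ≠ 0 := fun h => ha₁ (Units.ext (σ.injective (by
      have h' : σ (a₁ : F) ≠ 0 := by simp
      rw [Units.val_mul, map_mul, Units.val_one, map_one]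
      rw [sub_eq_zero] at h
      nth_rw 2 [h]
      exact mul_inv_cancel₀ h')))
    by_cases h00 : g0 0 0 = 0
    · refine Or.inr ⟨h00, ?_⟩
      have hd := GLOrder.GL2_det g0
      rw [h00, zero_mul, zero_sub, neg_ne_zero] at hd
      have hb' : (b' : F) = σ (a₁ : F) := mul_right_cancel₀ (right_ne_zero_of_mul hd) (by linear_combination q10)
      rw [hb'] at q11
      exact (mul_eq_zero.1 (show (σ (a₁ : F) - (σ (a₁ : F))⁻¹) * g0 1 1 = 0 by
        linear_combination q11)).resolve_left hne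
    · have hb0 : (b : F) = σ (a₁ : F) := mul_right_cancel₀ h00 (by linear_combination q00)
      rw [hb0] at q01
      have g01 : g0 0 1 = 0 := (mul_eq_zero.1 (show (σ (a₁ : F) - (σ (a₁ : F))⁻¹) * g0 0 1 = 0 by
        linear_combination q01)).resolve_left hne
      have hd := GLOrder.GL2_det g0
      rw [g01, zero_mul, sub_zero] at hd
      have hb1 : (b' : F) = (σ (a₁ : F))⁻¹ :=
        mul_right_cancel₀ (right_ne_zero_of_mul hd) (by linear_combination q11)
      rw [hb1] at q10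
      exact ⟨g01, (mul_eq_zero.1 (show (σ (a₁ : F) - (σ (a₁ : F))⁻¹) * g0 1 0 = 0 by
        linear_combination -q10)).resolve_left hne⟩ |> Or.inl
  rcases hdiag with ⟨g01, g10⟩ | ⟨g00, g11⟩
  · obtain ⟨d, hd⟩ := mem_dg g01 g10
    exact ⟨d, fun h hh => by rw [hd]; exact hg0 h hh⟩
  · exfalso
    -- the torus would be inverted
    have hinvT : ∀ a : Fˣ, (x : G) * p (D a) * (x : G)⁻¹ = p (D (Units.map (σ.toRingHom : F →* F) a⁻¹)) := fun a => by
      rw [hg0 _ (hD a), mp_dg]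
      congr 1
      rw [mul_inv_eq_iff_eq_mul]
      exact ext2 (by simp [D, g00]) (by simp [D, g11, mul_comm]) (by simp [D, g00, mul_comm]) (by simp [D, g11])
    have hsq : ∀ (k : ℕ) (a : Fˣ), ((x * x) ^ k : ↥(centralizer ({z} : Set G))) * p (D a) *
        (((x * x) ^ k : ↥(centralizer ({z} : Set G))) : G)⁻¹ =
          p (D (Units.map (χ ((x * x) ^ k)).toRingHom a)) := fun k => by
      induction k with
      | zero => intro a; simp; congr 2
      | succ k ih =>
        intro a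
        rw [pow_succ (x * x), Subgroup.coe_mul, _root_.mul_inv_rev, Subgroup.coe_mul,
          show (((x * x) ^ k : ↥(centralizer ({z} : Set G))) : G) * ((x : G) * x) * p (D a) *
              (((x : G) * x)⁻¹ * (((x * x) ^ k : ↥(centralizer ({z} : Set G))) : G)⁻¹) =
            (((x * x) ^ k : ↥(centralizer ({z} : Set G))) : G) * ((x : G) * ((x : G) * p (D a) * (x : G)⁻¹) * (x : G)⁻¹) *
              (((x * x) ^ k : ↥(centralizer ({z} : Set G))) : G)⁻¹ by group,
          hinvT, hinvT, ih, map_mul χ, map_mul χ]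
        congr 2
    obtain ⟨l, hl⟩ := hx
    have hxp : (x * x) ^ (l + 1) = x := by
      rw [← pow_two, ← pow_mul, show 2 * (l + 1) = orderOf x + 1 by omega, pow_succ, pow_orderOf_eq_one, one_mul]
    have h := hsq (l + 1) a₁
    rw [hxp, hinvT] at h
    have h' := hDinj _ _ h
    rw [map_inv, inv_eq_iff_mul_eq_one, ← map_mul] at h'
    exact ha₁ (Units.map_injective (f := σ.toRingHom.toMonoidHom) σ.injective (h'.trans (map_one _).symm))

variable {g : G} (hgz : g * z * g⁻¹ = p gs) (hgs : g * p gs * g⁻¹ = z)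
  (hfree : ∀ y ∈ p.range, Commute (p gs) y → g * y * g⁻¹ ∈ p.range) (hpz : p gt = z)
include hgz hgs hfree hpz

omit h5 in
theorem swap_mem {x : G} (hx : x ∈ centralizer ({z} : Set G)) (hxs : Commute x (p gs)) :
    g * x * g⁻¹ ∈ centralizer ({z} : Set G) ∧ Commute (g * x * g⁻¹) (p gs) := by
  have h1 := hxs.map (MulAut.conj g)
  have h3 : Commute x z := mem_centralizer_singleton_iff.1 hx
  have h4 := h3.map (MulAut.conj g)
  simp only [MulAut.conj_apply, hgs] at h1
  simp only [MulAut.conj_apply, hgz] at h4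
  exact ⟨mem_centralizer_singleton_iff.2 h1.eq, h4⟩

omit h5 in
/-- **The field part commutes with the swap.** -/
theorem fieldPart_swap {x : G} (hx : x ∈ centralizer ({z} : Set G)) (hxs : Commute x (p gs))
    (hx' : g * x * g⁻¹ ∈ centralizer ({z} : Set G)) : χ ⟨g * x * g⁻¹, hx'⟩ = χ ⟨x, hx⟩ := by
  classical
  let K : Subgroup G := centralizer ({z} : Set G) ⊓ centralizer ({p gs} : Set G)
  have hK : ∀ y : G, y ∈ K ↔ y ∈ centralizer ({z} : Set G) ∧ Commute y (p gs) := fun y => by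
    exact Subgroup.mem_inf.trans (and_congr_right fun _ => mem_centralizer_singleton_iff)
  let f : K →* (F ≃+* F) := χ.comp (inclusion inf_le_left)
  let A : K →* K :=
    { toFun := fun y => ⟨g * y * g⁻¹,
        (hK _).2 (swap_mem p hc ho χ hle hχ hact h2 hgz hgs hfree hpz ((hK _).1 y.2).1 ((hK _).1 y.2).2)⟩
      map_one' := Subtype.ext (by simp)
      map_mul' := fun a b => Subtype.ext (by simp [mul_assoc]) }
  set w : G := p ww with hw
  have hwC : w ∈ centralizer ({z} : Set G) := hle ⟨_, rfl⟩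
  have hcommRA : ∀ e e' : F ≃+* F, e * e' = e' * e := fun e e' => by
    obtain ⟨r, hr⟩ := CharP.exists F
    obtain ⟨_, hrp, -⟩ := FiniteField.card F r
    obtain ⟨i, hi⟩ := U3Field.exists_frob hrp e
    obtain ⟨j, hj⟩ := U3Field.exists_frob hrp e'
    exact RingEquiv.ext fun x => by
      rw [RingAut.mul_apply, RingAut.mul_apply, hi, hi, hj, hj, ← pow_mul, ← pow_mul, mul_comm]
  have hww : (ww : GL (Fin 2) F) * ww = 1 := ext2 (by simp) (by simp) (by simp) (by simp)
  have hwi : w⁻¹ = w := inv_eq_of_mul_eq_one_right (by rw [hw, ← map_mul, hww, map_one])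
  have hwz : w * z * w⁻¹ = z := by
    rw [mul_inv_eq_iff_eq_mul]; exact mem_centralizer_singleton_iff.1 hwC
  have hws : w * p gs * w⁻¹ = z * p gs := by
    rw [← hpz, hw, ← map_inv, ← map_mul, ← map_mul, ← map_mul]
    congr 1
    rw [mul_inv_eq_iff_eq_mul]
    exact ext2 (by simp) (by simp) (by simp) (by simp)
  have hzs : Commute z (p gs) := (mem_centralizer_singleton_iff.1 (hle ⟨gs, rfl⟩)).symm
  have hwK : ∀ y ∈ K, w * y * w⁻¹ ∈ K := fun y hy => by
    obtain ⟨h1, h3⟩ := (hK y).1 hy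
    refine (hK _).2 ⟨mul_mem (mul_mem hwC h1) (inv_mem hwC), ?_⟩
    have h4 : Commute y (z * p gs) := (show Commute y z from mem_centralizer_singleton_iff.1 h1).mul_right h3
    have h6 := h4.map (MulAut.conj w)
    simp only [MulAut.conj_apply] at h6
    have h7 : w * (z * p gs) * w⁻¹ = p gs := by
      rw [show w * (z * p gs) * w⁻¹ = w * z * w⁻¹ * (w * p gs * w⁻¹) by group, hwz, hws, ← mul_assoc, ← hpz,
        ← map_mul, gt_sq, map_one, one_mul]
    rwa [h7] at h6
  let W : K →* K :=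
    { toFun := fun y => ⟨w * y * w⁻¹, hwK y y.2⟩
      map_one' := Subtype.ext (by simp)
      map_mul' := fun a b => Subtype.ext (by simp [mul_assoc]) }
  have hfW : ∀ y, f (W y) = f y := fun y => by
    show χ _ = χ _
    rw [show (inclusion inf_le_left (W y) : ↥(centralizer ({z} : Set G))) =
      ⟨w, hwC⟩ * inclusion inf_le_left y * ⟨w, hwC⟩⁻¹ from rfl, map_mul, map_mul, map_inv,
      (hχ ⟨w, hwC⟩).2 ⟨_, rfl⟩, one_mul, inv_one, mul_one]
  have hA : ∀ y y', f y = f y' → f (A y) = f (A y') := fun y y' h => by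
    have h1 : f (y⁻¹ * y') = 1 := by rw [map_mul, map_inv, h, inv_mul_cancel]
    have h3 : ((y⁻¹ * y' : K) : G) ∈ p.range := (hχ _).1 h1
    have h4 : f (A (y⁻¹ * y')) = 1 :=
      (hχ _).2 (hfree _ h3 (((hK _).1 (y⁻¹ * y').2).2.symm))
    rw [map_mul, map_inv, map_mul, map_inv] at h4
    exact inv_mul_eq_one.1 h4
  have hconjK : ∀ (k : G) (hk : k ∈ K) (y : K), f ⟨k * y * k⁻¹, mul_mem (mul_mem hk y.2) (inv_mem hk)⟩ = f y :=
    fun k hk y => by
      rw [show (⟨k * y * k⁻¹, mul_mem (mul_mem hk y.2) (inv_mem hk)⟩ : K) = ⟨k, hk⟩ * y * ⟨k, hk⟩⁻¹ from rfl,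
        map_mul, map_mul, map_inv, hcommRA (f ⟨k, hk⟩), mul_inv_cancel_right]
  have hg2 : g * g ∈ K := by
    refine (hK _).2 ⟨mem_centralizer_singleton_iff.2 ?_, ?_⟩
    · rw [← mul_inv_eq_iff_eq_mul, _root_.mul_inv_rev,
        show g * g * z * (g⁻¹ * g⁻¹) = g * (g * z * g⁻¹) * g⁻¹ by group, hgz, hgs]
    · show g * g * p gs = p gs * (g * g)
      rw [← mul_inv_eq_iff_eq_mul, _root_.mul_inv_rev,
        show g * g * p gs * (g⁻¹ * g⁻¹) = g * (g * p gs * g⁻¹) * g⁻¹ by group, hgs, hgz]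
  have hgzs : g * (z * p gs) * g⁻¹ = z * p gs := by
    rw [show g * (z * p gs) * g⁻¹ = g * z * g⁻¹ * (g * p gs * g⁻¹) by group, hgz, hgs, hzs.eq]
  set u := g * w with hu
  have u1 : u * z * u⁻¹ = p gs := by
    rw [hu, show g * w * z * (g * w)⁻¹ = g * (w * z * w⁻¹) * g⁻¹ by group, hwz, hgz]
  have u2 : u * p gs * u⁻¹ = z * p gs := by
    rw [hu, show g * w * p gs * (g * w)⁻¹ = g * (w * p gs * w⁻¹) * g⁻¹ by group, hws, hgzs]
  have u3 : u * (z * p gs) * u⁻¹ = z := by
    rw [show u * (z * p gs) * u⁻¹ = u * z * u⁻¹ * (u * p gs * u⁻¹) by group, u1, u2, ← mul_assoc, ← hzs.eq,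
      mul_assoc, ← map_mul, gs_sq, map_one, mul_one]
  have hu3 : u * u * u ∈ K := by
    refine (hK _).2 ⟨mem_centralizer_singleton_iff.2 ?_, ?_⟩
    · rw [← mul_inv_eq_iff_eq_mul,
        show u * u * u * z * (u * u * u)⁻¹ = u * (u * (u * z * u⁻¹) * u⁻¹) * u⁻¹ by group, u1, u2, u3]
    · show u * u * u * p gs = p gs * (u * u * u)
      rw [← mul_inv_eq_iff_eq_mul,
        show u * u * u * p gs * (u * u * u)⁻¹ = u * (u * (u * p gs * u⁻¹) * u⁻¹) * u⁻¹ by group, u2, u3, u1]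
  let y : K := ⟨x, (hK x).2 ⟨hx, hxs⟩⟩
  have e2 : f (A (A y)) = f y := by
    rw [show A (A y) = ⟨g * g * y * (g * g)⁻¹, mul_mem (mul_mem hg2 y.2) (inv_mem hg2)⟩ from
      Subtype.ext (by simp [A, mul_assoc])]
    exact hconjK _ hg2 y
  have e3 : f (A (A (A y))) = f y := by
    rw [show f (A (A (A y))) = f (A (W (A (W (A (W y)))))) from ?_]
    · rw [show A (W (A (W (A (W y))))) = ⟨u * u * u * y * (u * u * u)⁻¹, mul_mem (mul_mem hu3 y.2) (inv_mem hu3)⟩ from
        Subtype.ext (by simp [A, W, hu, mul_assoc])]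
      exact hconjK _ hu3 y
    · have a1 : f (A (W y)) = f (A y) := hA _ _ (hfW y)
      have a2 : f (A (W (A (W y)))) = f (A (A y)) := hA _ _ ((hfW _).trans a1)
      exact (hA _ _ ((hfW _).trans a2)).symm
  have : f (A y) = f y := (hA _ _ e2).symm.trans e3
  exact this

variable (hinv : ∀ a b : Fˣ, Odd (orderOf (ps p a)) → g * ps p a * g⁻¹ = ps p b → ps p a = 1)
include hinv hχodd

/-- The action on the diagonal. -/
theorem act_diag (x : ↥(centralizer ({z} : Set G))) (hxs : Commute (x : G) (p gs)) (hx : Odd (orderOf x))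
    (a b : Fˣ) : (x : G) * p (dg (a, b)) * (x : G)⁻¹ =
      p (dg (Units.map (χ x).toRingHom a, Units.map (χ x).toRingHom b)) := by
  classical
  obtain ⟨d, hd⟩ := act_torus p hc ho χ hle hχ hact h5 h2 x hxs hx
  obtain ⟨hx'C, hx's⟩ := swap_mem p hc ho χ hle hχ hact h2 hgz hgs hfree hpz x.2 hxs
  set x' : ↥(centralizer ({z} : Set G)) := ⟨g * x * g⁻¹, hx'C⟩ with hx'def
  have hx' : Odd (orderOf x') := by
    rw [← Subgroup.orderOf_coe]
    show Odd (orderOf (g * (x : G) * g⁻¹))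
    rw [← MulAut.conj_apply, MulEquiv.orderOf_eq, Subgroup.orderOf_coe]; exact hx
  obtain ⟨d', hd'⟩ := act_torus p hc ho χ hle hχ hact h5 h2 x' hx's hx'
  have hσ' : χ x' = χ x := fieldPart_swap p hc ho χ hle hχ hact h2 hgz hgs hfree hpz x.2 hxs hx'C
  set σ := χ x with hσdef
  set s' : Fˣ →* Fˣ := Units.map σ.toRingHom.toMonoidHom
  have hDact : ∀ c : Fˣ, (x : G) * p (dg (c, c⁻¹)) * (x : G)⁻¹ = p (dg (s' c, s' c⁻¹)) := fun c => by
    rw [hd _ (by simp [det_fin_two_of]), mp_dg, ← map_inv dg, ← map_mul dg, ← map_mul dg]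
    congr 2
    ext <;> simp [s', mul_comm]
  have hDact' : ∀ c : Fˣ, g * (x : G) * g⁻¹ * p (dg (c, c⁻¹)) * (g * (x : G) * g⁻¹)⁻¹ =
      p (dg (s' c, s' c⁻¹)) := fun c => by
    rw [show g * (x : G) * g⁻¹ = (x' : G) from rfl, hd' _ (by simp [det_fin_two_of]), mp_dg, hσ', ← map_inv dg,
      ← map_mul dg, ← map_mul dg]
    congr 2
    ext <;> simp [s', σ, mul_comm]
  obtain ⟨r0, hr0⟩ := CharP.exists F
  obtain ⟨_, hrp, -⟩ := FiniteField.card F r0
  obtain ⟨i, hi⟩ := U3Field.exists_frob hrp σ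
  set r := r0 ^ i
  have hsr : ∀ c : Fˣ, s' c = c ^ r := fun c => Units.ext (by simp [s', hi, r])
  -- scalars of odd order
  have hscal : ∀ c : Fˣ, Odd (orderOf c) → (x : G) * ps p c * (x : G)⁻¹ = ps p (s' c) := by
    intro c hc'
    obtain ⟨e1, he1⟩ := conj_ps p hc ho χ hle hχ hact x c
    set δ := ps p e1 * (ps p (s' c))⁻¹ with hδ
    have hyr : g * ps p c * g⁻¹ ∈ p.range := hfree _ ⟨_, rfl⟩ (ps_comm p c gs).symm
    have hys : Commute (g * ps p c * g⁻¹) (p gs) := by
      have := (show Commute (ps p c) z from mem_centralizer_singleton_iff.1 (hle ⟨_, rfl⟩)).map (MulAut.conj g)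
      simp only [MulAut.conj_apply, hgz] at this
      exact this
    obtain ⟨k, hk⟩ := hyr
    rw [← hk] at hys
    have hkd := commute_lift p hc ho hys
    have k01 := congrArg (fun w : GL (Fin 2) F => w 0 1) hkd
    have k10 := congrArg (fun w : GL (Fin 2) F => w 1 0) hkd
    simp at k01 k10
    obtain ⟨⟨b1, b2⟩, rfl⟩ := mem_dg
      ((mul_eq_zero.1 (show (2 : F) * k 0 1 = 0 by linear_combination -k01)).resolve_left h2)
      ((mul_eq_zero.1 (show (2 : F) * k 1 0 = 0 by linear_combination k10)).resolve_left h2)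
    have hy2 : p (dg (b1, b2)) * p (dg (b1, b2)) = ps p (b1 * b2) * p (dg (b1 / b2, (b1 / b2)⁻¹)) := by
      rw [ps_apply, ← map_mul, ← map_mul, ← map_mul, ← map_mul]
      congr 2
      ext <;> simp <;> field_simp
    obtain ⟨w, hw⟩ := conj_ps p hc ho χ hle hχ hact x' (b1 * b2)
    have hgδ : g * (δ * δ) * g⁻¹ = ps p (w * ((b1 * b2) ^ r)⁻¹) := by
      have A : g * ps p e1 * g⁻¹ = (x' : G) * p (dg (b1, b2)) * (x' : G)⁻¹ := by
        rw [hk, ← he1, hx'def]; group
      have B : g * ps p (s' c) * g⁻¹ = p (dg (b1, b2)) ^ r := by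
        rw [hk, hsr, map_pow, ← MulAut.conj_apply, map_pow, MulAut.conj_apply]
      have A2 : g * ps p e1 * g⁻¹ * (g * ps p e1 * g⁻¹) =
          ps p w * p (dg (s' (b1 / b2), s' (b1 / b2)⁻¹)) := by
        rw [A, show ∀ X Y : G, X * Y * X⁻¹ * (X * Y * X⁻¹) = X * (Y * Y) * X⁻¹ from fun X Y => by group, hy2,
          show ∀ X Y Z : G, X * (Y * Z) * X⁻¹ = X * Y * X⁻¹ * (X * Z * X⁻¹) from fun X Y Z => by group, hw]
        exact congrArg (ps p w * ·) (hDact' _)
      have B2 : g * ps p (s' c) * g⁻¹ * (g * ps p (s' c) * g⁻¹) =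
          ps p ((b1 * b2) ^ r) * p (dg (s' (b1 / b2), s' (b1 / b2)⁻¹)) := by
        rw [B, ← Commute.mul_pow (Commute.refl _), hy2, Commute.mul_pow (ps_comm p _ _), ← map_pow, ← map_pow,
          ← map_pow, hsr, hsr]
        rfl
      have hδ2 : δ * δ = ps p e1 * ps p e1 * (ps p (s' c) * ps p (s' c))⁻¹ := by
        rw [hδ]
        simp only [← map_mul, ← map_inv (ps p)]
        congr 1
        rw [map_mul s', _root_.mul_inv_rev]; ac_rfl
      rw [hδ2, show ∀ P Q : G, g * (P * P * (Q * Q)⁻¹) * g⁻¹ =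
        g * P * g⁻¹ * (g * P * g⁻¹) * (g * Q * g⁻¹ * (g * Q * g⁻¹))⁻¹ from fun P Q => by group, A2, B2,
        _root_.mul_inv_rev, show ps p (w * ((b1 * b2) ^ r)⁻¹) = ps p w * (ps p ((b1 * b2) ^ r))⁻¹ by
          rw [map_mul, map_inv]]
      group
    have hδe : δ = ps p (e1 * (s' c)⁻¹) := by rw [hδ, map_mul, map_inv]
    have hoddc : Odd (orderOf (ps p c)) := hc'.of_dvd_nat (orderOf_map_dvd _ c)
    have hδo : orderOf δ ∣ orderOf (ps p c) := orderOf_dvd_of_pow_eq_one (by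
      rw [hδe, ← map_pow, mul_pow, map_mul, map_pow, map_pow, map_inv, ← he1, ← MulAut.conj_apply, ← map_pow (MulAut.conj (x : G)),
        pow_orderOf_eq_one, map_one, one_mul, inv_pow, hsr, map_pow, ← pow_mul, mul_comm, pow_mul,
        pow_orderOf_eq_one, one_pow, inv_one])
    have h1 : δ * δ = 1 := by
      have hδ2e : δ * δ = ps p (e1 * (s' c)⁻¹ * (e1 * (s' c)⁻¹)) := by rw [hδe, ← map_mul]
      rw [hδ2e] at hgδ ⊢
      refine hinv _ _ ?_ hgδ
      rw [← hδ2e]
      exact hoddc.of_dvd_nat ((orderOf_dvd_of_pow_eq_one (by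
        rw [Commute.mul_pow (Commute.refl δ), pow_orderOf_eq_one, one_mul])).trans hδo)
    have h3 : δ = 1 := by
      refine orderOf_eq_one_iff.1 (Nat.eq_one_of_dvd_coprimes (Nat.coprime_two_right.2 (hoddc.of_dvd_nat hδo))
        dvd_rfl (orderOf_dvd_of_pow_eq_one (by rw [pow_two]; exact h1)))
    rw [he1]
    exact mul_inv_eq_one.1 (hδ ▸ h3)
  -- `dg (c, 1)`
  have hone : ∀ c : Fˣ, (x : G) * p (dg (c, 1)) * (x : G)⁻¹ = p (dg (s' c, 1)) := by
    have hodd : ∀ c : Fˣ, Odd (orderOf c) → (x : G) * p (dg (c, 1)) * (x : G)⁻¹ = p (dg (s' c, 1)) := by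
      intro c hc'
      obtain ⟨l, hl⟩ := hc'
      obtain ⟨e, he⟩ : ∃ e, c ^ (l + 1) = e := ⟨_, rfl⟩
      have hsq : e * e = c := by
        rw [← he, ← pow_add, show l + 1 + (l + 1) = orderOf c + 1 by omega, pow_succ, pow_orderOf_eq_one, one_mul]
      have hsplit : ∀ e : Fˣ, p (dg (e * e, 1)) = ps p e * p (dg (e, e⁻¹)) := fun e => by
        rw [ps_apply, ← map_mul, ← map_mul]; simp
      rw [← hsq, hsplit, show ∀ X Y Z : G, X * (Y * Z) * X⁻¹ = X * Y * X⁻¹ * (X * Z * X⁻¹) from fun X Y Z => by group,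
        hscal e ((show Odd (orderOf c) from ⟨l, hl⟩).of_dvd_nat (he ▸ orderOf_pow_dvd (l + 1))), hDact, map_mul s',
        hsplit, map_inv s']
    intro c
    obtain ⟨k, m, hm, hkm⟩ := Nat.exists_eq_two_pow_mul_odd (orderOf_pos c).ne'
    obtain ⟨y, hy, c2, hc2, rfl⟩ : ∃ y, Odd (orderOf y) ∧ ∃ c2, c2 ^ 2 ^ k = 1 ∧ y * c2 = c := by
      obtain ⟨A, B, hAB⟩ : ∃ A B : ℤ, (A * (2 ^ k : ℕ) + B * m : ℤ) = 1 := by
        have hcop : IsCoprime ((2 ^ k : ℕ) : ℤ) (m : ℤ) :=
          Nat.Coprime.isCoprime ((Nat.coprime_two_left.2 hm).pow_left k)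
        obtain ⟨A, B, h⟩ := hcop
        exact ⟨A, B, h⟩
      refine ⟨c ^ (A * (2 ^ k : ℕ)), hm.of_dvd_nat (orderOf_dvd_of_pow_eq_one ?_), c ^ (B * m), ?_, ?_⟩
      · rw [← zpow_natCast, ← _root_.zpow_mul, mul_assoc, ← Nat.cast_mul, ← hkm, mul_comm, _root_.zpow_mul, zpow_natCast,
          pow_orderOf_eq_one, _root_.one_zpow]
      · rw [← zpow_natCast, ← _root_.zpow_mul, mul_assoc, ← Nat.cast_mul, mul_comm m, ← hkm, mul_comm, _root_.zpow_mul,
          zpow_natCast, pow_orderOf_eq_one, _root_.one_zpow]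
      · rw [← _root_.zpow_add, hAB, zpow_one]
    -- the part of 2-power order is fixed
    have hN : Odd (orderOf σ) := hχodd x
    have hfix : s' c2 = c2 := by
      rw [hsr]
      refine pow_eq_self hc2 hN ?_
      refine Units.ext ?_
      have h := U3Field.frob_pow hrp hi (orderOf σ) (c2 : F)
      rw [pow_orderOf_eq_one] at h
      rw [Units.val_pow_eq_pow_val, show r ^ orderOf σ = r0 ^ (i * orderOf σ) by rw [← pow_mul]]
      exact h.symm
    have hc2' : (x : G) * p (dg (c2, 1)) * (x : G)⁻¹ = p (dg (c2, 1)) := by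
      obtain ⟨k1, hk1⟩ := conj_mem p hc ho χ hle hχ hact x (y := p (dg (c2, 1))) ⟨_, rfl⟩
      obtain ⟨l, hl⟩ : ∃ l, p (k1 * (dg (c2, 1))⁻¹) = ps p l := by
        refine exists_ps p hc ho fun h hh => ?_
        -- both act alike on `SL(2, q)`
        set h0 := (dg (c2, 1))⁻¹ * h * dg (c2, 1) with hh0
        have hdet0 : (h0 : Matrix (Fin 2) (Fin 2) F).det = 1 := by
          rw [hh0, det_conj'', hh]
        -- `h₁` with `x p h₁ x⁻¹ = p h0`
        set h1 := mpF σ⁻¹ ((dg d)⁻¹ * h0 * dg d) with hh1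
        have hdet1 : (h1 : Matrix (Fin 2) (Fin 2) F).det = 1 := by
          rw [hh1]
          exact det_mp _ (by rw [det_conj'', hdet0])
        have hx1 : (x : G) * p h1 * (x : G)⁻¹ = p h0 := by
          rw [hd _ hdet1, hh1, ← mp_mul, mul_inv_cancel, mp_one]
          congr 1; group
        set h2' := dg (c2, 1) * h1 * (dg (c2, 1))⁻¹
        have hdet2 : (h2' : Matrix (Fin 2) (Fin 2) F).det = 1 := by
          simp only [h2']; rw [det_conj', hdet1]
        have hx2 : p k1 * p h0 * (p k1)⁻¹ = p h := by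
          rw [hk1, ← hx1, show ∀ X Y Z : G, X * Y * X⁻¹ * (X * Z * X⁻¹) * (X * Y * X⁻¹)⁻¹ =
            X * (Y * Z * Y⁻¹) * X⁻¹ from fun X Y Z => by group, ← map_inv, ← map_mul, ← map_mul,
            show dg (c2, 1) * h1 * (dg (c2, 1))⁻¹ = h2' from rfl, hd _ hdet2]
          congr 1
          have e : mpF σ (dg (c2, 1)) = dg (c2, 1) := by
            rw [mp_dg, map_one]
            exact congrArg (fun w => dg (w, 1)) hfix
          rw [show mpF σ h2' = mpF σ (dg (c2, 1)) * mpF σ h1 * (mpF σ (dg (c2, 1)))⁻¹ by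
              simp only [h2', map_mul, map_inv],
            e, hh1, ← mp_mul, mul_inv_cancel, mp_one]
          have hcm : dg d * dg (c2, 1) = dg (c2, 1) * dg d := by rw [← map_mul, ← map_mul, mul_comm]
          calc dg d * (dg (c2, 1) * ((dg d)⁻¹ * h0 * dg d) * (dg (c2, 1))⁻¹) * (dg d)⁻¹
              = dg d * dg (c2, 1) * ((dg d)⁻¹ * h0 * dg d) * (dg d * dg (c2, 1))⁻¹ := by group
            _ = h := by rw [hcm, hh0]; group
        show p (k1 * (dg (c2, 1))⁻¹) * p h = p h * p (k1 * (dg (c2, 1))⁻¹)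
        rw [← mul_inv_eq_iff_eq_mul]
        refine Eq.trans ?_ hx2
        rw [hh0]; simp only [map_mul, map_inv]; group
      have hk1' : p k1 = ps p l * p (dg (c2, 1)) := by rw [← hl, map_mul, map_inv, inv_mul_cancel_right]
      rw [hk1] at hk1'
      have hε2 : ps p l ^ 2 ^ k = 1 := by
        have h := congrArg (· ^ 2 ^ k) hk1'
        simp only [Commute.mul_pow (ps_comm p l _)] at h
        rw [← MulAut.conj_apply, ← map_pow, ← map_pow p, ← map_pow dg, Prod.pow_mk, hc2, one_pow,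
          show ((1 : Fˣ), (1 : Fˣ)) = 1 from rfl, map_one dg, map_one, mul_one, map_one] at h
        exact h.symm
      have hεfix := fix_two p hc ho χ hle hχ hact x hx hε2
      have hit : ∀ j : ℕ, (x : G) ^ j * p (dg (c2, 1)) * ((x : G) ^ j)⁻¹ = ps p l ^ j * p (dg (c2, 1)) := fun j => by
        induction j with
        | zero => simp
        | succ j ih =>
          rw [pow_succ' (x : G), _root_.mul_inv_rev, show (x : G) * (x : G) ^ j * p (dg (c2, 1)) * (((x : G) ^ j)⁻¹ * (x : G)⁻¹) =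
            (x : G) * ((x : G) ^ j * p (dg (c2, 1)) * ((x : G) ^ j)⁻¹) * (x : G)⁻¹ by group, ih,
            ← MulAut.conj_apply, map_mul, map_pow, MulAut.conj_apply, MulAut.conj_apply, hεfix, hk1', pow_succ,
            mul_assoc]
      have h := hit (orderOf x)
      rw [← Subgroup.coe_pow, pow_orderOf_eq_one, Subgroup.coe_one, one_mul, inv_one, mul_one] at h
      have hεN : ps p l ^ orderOf x = 1 := right_eq_mul.1 h
      have hε1 : ps p l = 1 := orderOf_eq_one_iff.1 (Nat.eq_one_of_dvd_coprimes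
        ((Nat.coprime_two_left.2 hx).pow_left k) (orderOf_dvd_of_pow_eq_one hε2) (orderOf_dvd_of_pow_eq_one hεN))
      rw [hk1', hε1, one_mul]
    have hsp : dg (y * c2, (1 : Fˣ)) = (dg (y, 1) * dg (c2, 1) : GL (Fin 2) F) := by rw [← map_mul]; simp
    rw [hsp, map_mul p, show ∀ X Y Z : G, X * (Y * Z) * X⁻¹ = X * Y * X⁻¹ * (X * Z * X⁻¹) from fun X Y Z => by group,
      hodd y hy, hc2', ← map_mul p, map_mul s', hfix]
    congr 1
    rw [← map_mul]; simp
  have hsplit : dg (a, b) = (dg (a * b, (1 : Fˣ)) * dg (b⁻¹, b) : GL (Fin 2) F) := by rw [← map_mul]; simp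
  rw [hsplit, map_mul p, show ∀ X Y Z : G, X * (Y * Z) * X⁻¹ = X * Y * X⁻¹ * (X * Z * X⁻¹) from fun X Y Z => by group,
    hone, show dg (b⁻¹, b) = dg (b⁻¹, b⁻¹⁻¹) by rw [inv_inv], hDact, ← map_mul p, ← map_mul dg]
  congr 2
  ext <;> simp [s', mul_comm, mul_assoc]

/-- **The action on all of `GL(2, q)`.** -/
theorem act_full (x : ↥(centralizer ({z} : Set G))) : ∃ g0 : GL (Fin 2) F, ∀ h : GL (Fin 2) F,
    (x : G) * p h * (x : G)⁻¹ = p (g0 * mpF (χ x) h * g0⁻¹) := by
  classical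
  let P : ↥(centralizer ({z} : Set G)) → Prop := fun x => ∃ g0 : GL (Fin 2) F, ∀ h : GL (Fin 2) F,
    (x : G) * p h * (x : G)⁻¹ = p (g0 * mpF (χ x) h * g0⁻¹)
  have hmul : ∀ x y, P x → P y → P (x * y) := by
    rintro x y ⟨g1, h1⟩ ⟨g2, h2⟩
    refine ⟨g1 * mpF (χ x) g2, fun h => ?_⟩
    rw [Subgroup.coe_mul, show (x : G) * y * p h * ((x : G) * y)⁻¹ = (x : G) * ((y : G) * p h * (y : G)⁻¹) * (x : G)⁻¹ by group,
      h2, h1]
    congr 1
    rw [map_mul χ, mp_mul]
    simp only [map_mul, map_inv, _root_.mul_inv_rev, mul_assoc]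
  have hrange : ∀ x, χ x = 1 → P x := fun x hx => by
    obtain ⟨k, hk⟩ := (hχ x).1 hx
    exact ⟨k, fun h => by rw [hx, mp_one, map_mul, map_mul, map_inv, hk]⟩
  have hcase : ∀ x : ↥(centralizer ({z} : Set G)), Commute (x : G) (p gs) → P x := by
    intro x hxs
    obtain ⟨k, m, hm, hkm⟩ := Nat.exists_eq_two_pow_mul_odd (orderOf_pos x).ne'
    obtain ⟨A, B, hAB⟩ := Nat.Coprime.isCoprime ((Nat.coprime_two_left.2 hm).pow_left k)
    have hsplit : x = x ^ (A * (2 ^ k : ℕ)) * x ^ (B * m) := by rw [← _root_.zpow_add, hAB, zpow_one]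
    rw [hsplit]
    refine hmul _ _ ?_ (hrange _ ?_)
    · set y := x ^ (A * (2 ^ k : ℕ))
      have hy : Odd (orderOf y) := hm.of_dvd_nat (orderOf_dvd_of_pow_eq_one (by
        show (x ^ (A * (2 ^ k : ℕ))) ^ m = 1
        rw [← zpow_natCast, ← _root_.zpow_mul, mul_assoc, ← Nat.cast_mul, ← hkm, mul_comm, _root_.zpow_mul, zpow_natCast,
          pow_orderOf_eq_one, _root_.one_zpow]))
      have hys : Commute (y : G) (p gs) := by rw [Subgroup.coe_zpow]; exact hxs.zpow_left _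
      obtain ⟨d, hd⟩ := act_torus p hc ho χ hle hχ hact h5 h2 y hys hy
      refine ⟨dg d, fun h => ?_⟩
      set δ := GeneralLinearGroup.det h
      set h1 := h * (dg (δ, 1))⁻¹
      have hdet1 : (h1 : Matrix (Fin 2) (Fin 2) F).det = 1 := by
        simp [h1, δ, det_mul, det_fin_two_of, mul_inv_cancel₀ (GeneralLinearGroup.det_ne_zero h)]
      have hh : h = h1 * dg (δ, 1) := by simp [h1]
      rw [hh, map_mul p, show ∀ X Y Z : G, X * (Y * Z) * X⁻¹ = X * Y * X⁻¹ * (X * Z * X⁻¹) from fun X Y Z => by group,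
        hd _ hdet1, act_diag p hc ho χ hle hχ hχodd hact h5 h2 hgz hgs hfree hpz hinv y hys hy, ← map_mul]
      congr 1
      show _ = dg d * mpF (χ y) (h1 * dg (δ, 1)) * (dg d)⁻¹
      rw [show mpF (χ y) (h1 * dg (δ, 1)) = mpF (χ y) h1 * mpF (χ y) (dg (δ, 1)) from map_mul _ _ _, mp_dg]
      have hcm : ∀ e : Fˣ × Fˣ, dg e * (dg d)⁻¹ = (dg d)⁻¹ * dg e := fun e => by
        rw [← map_inv, ← map_mul, ← map_mul, mul_comm]
      simp only [mul_assoc, hcm]
    · have h2' : χ (x ^ (B * m)) ^ 2 ^ k = 1 := by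
        rw [← map_pow, ← zpow_natCast, ← _root_.zpow_mul, mul_assoc, ← Nat.cast_mul, mul_comm m, ← hkm, mul_comm, _root_.zpow_mul,
          zpow_natCast, pow_orderOf_eq_one, _root_.one_zpow, map_one]
      exact orderOf_eq_one_iff.1 (Nat.eq_one_of_dvd_coprimes
        ((Nat.coprime_two_right.2 (hχodd _)).pow_right k) dvd_rfl (orderOf_dvd_of_pow_eq_one h2'))
  -- remove the inner part
  obtain ⟨g0, hg0⟩ := hact x
  set c : ↥(centralizer ({z} : Set G)) := ⟨p g0, hle ⟨_, rfl⟩⟩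
  set x1 := c⁻¹ * x
  have hx1 : x = c * x1 := by simp [x1]
  suffices P x1 by
    have h := hmul c x1 (hrange c ((hχ c).2 ⟨_, rfl⟩)) this
    rwa [← hx1] at h
  have hσ : ∀ h : GL (Fin 2) F, (h : Matrix (Fin 2) (Fin 2) F).det = 1 →
      (x1 : G) * p h * (x1 : G)⁻¹ = p (mpF (χ x) h) := fun h hh => by
    show (p g0)⁻¹ * (x : G) * p h * ((p g0)⁻¹ * (x : G))⁻¹ = _
    rw [show (p g0)⁻¹ * (x : G) * p h * ((p g0)⁻¹ * (x : G))⁻¹ = (p g0)⁻¹ * ((x : G) * p h * (x : G)⁻¹) * p g0 by group,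
      hg0 h hh, map_mul, map_mul, map_inv]
    group
  obtain ⟨k1, hk1⟩ := conj_mem p hc ho χ hle hχ hact x1 (y := p gs) ⟨_, rfl⟩
  obtain ⟨l, hl⟩ : ∃ l, p (k1 * gs⁻¹) = ps p l := by
    refine exists_ps p hc ho fun h hh => ?_
    set h0 := gs⁻¹ * h * gs with hh0
    set h1 := mpF (χ x)⁻¹ h0 with hh1
    have hdet1 : (h1 : Matrix (Fin 2) (Fin 2) F).det = 1 := by
      rw [hh1]
      exact det_mp _ (by rw [hh0, det_conj'', hh])
    have e1 : (x1 : G) * p h1 * (x1 : G)⁻¹ = p h0 := by rw [hσ _ hdet1, hh1, ← mp_mul, mul_inv_cancel, mp_one]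
    have e : mpF (χ x) (gs : GL (Fin 2) F) = gs := ext2 (by simp) (by simp) (by simp) (by simp)
    have e2 : p k1 * p h0 * (p k1)⁻¹ = p h := by
      rw [hk1, ← e1, show ∀ X Y Z : G, X * Y * X⁻¹ * (X * Z * X⁻¹) * (X * Y * X⁻¹)⁻¹ =
        X * (Y * Z * Y⁻¹) * X⁻¹ from fun X Y Z => by group, ← map_inv, ← map_mul, ← map_mul,
        hσ _ (by rw [det_conj', hdet1])]
      congr 1
      show mpF (χ x) (gs * h1 * gs⁻¹) = h
      rw [show mpF (χ x) (gs * h1 * gs⁻¹) = mpF (χ x) gs * mpF (χ x) h1 * (mpF (χ x) gs)⁻¹ by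
        simp only [map_mul, map_inv], e, hh1, ← mp_mul, mul_inv_cancel, mp_one, hh0]
      group
    show p (k1 * gs⁻¹) * p h = p h * p (k1 * gs⁻¹)
    rw [← mul_inv_eq_iff_eq_mul]
    refine Eq.trans ?_ e2
    rw [hh0]; simp only [map_mul, map_inv]; group
  have hk1' : (x1 : G) * p gs * (x1 : G)⁻¹ = ps p l * p gs := by
    rw [← hk1, ← hl, map_mul, map_inv, inv_mul_cancel_right]
  have hl2 : p (dg (l * l, l * l)) = 1 := by
    have h := congrArg (· ^ 2) hk1'
    simp only [Commute.mul_pow (ps_comm p l gs)] at h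
    rw [← MulAut.conj_apply, ← map_pow, ← map_pow p gs, pow_two gs, gs_sq, map_one, map_one, mul_one, pow_two,
      ← map_mul] at h
    exact h.symm
  have hlast : ps p l = 1 ∨ ps p l = z := by
    have hk : dg (l * l, l * l) ∈ p.ker := hl2
    obtain ⟨j, hj⟩ := ho
    have hpow : (l * l) ^ (2 * j + 1) = 1 := by
      have h : dg (l * l, l * l) ^ (2 * j + 1) = (1 : GL (Fin 2) F) := by
        rw [← hj]
        exact congrArg Subtype.val (pow_card_eq_one' (x := (⟨_, hk⟩ : p.ker)))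
      rw [← map_pow] at h
      exact (Prod.ext_iff.1 (dg_injective (h.trans (map_one _).symm))).1
    set l' := l ^ (2 * j + 1)
    have hl' : l' * l' = 1 := by rw [← mul_pow]; exact hpow
    have hps : ps p l' = ps p l := by
      rw [map_pow, pow_succ, pow_mul, pow_two, ← map_mul, ps_apply, hl2, one_pow, one_mul]
    rcases mul_self_eq_one_iff.1 (show (l' : F) * l' = 1 by simpa using congrArg Units.val hl') with h | h
    · left; rw [← hps, show l' = 1 from Units.ext h, map_one]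
    · right; rw [← hps, show l' = -1 from Units.ext h, ps_apply, ← hpz]
  rcases hlast with h | h
  · refine hcase x1 ?_
    show (x1 : G) * p gs = p gs * (x1 : G)
    rw [← mul_inv_eq_iff_eq_mul, hk1', h, one_mul]
  · set cw : ↥(centralizer ({z} : Set G)) := ⟨p ww, hle ⟨_, rfl⟩⟩
    have hx2 : P (cw * x1) := hcase _ (by
      show p ww * (x1 : G) * p gs = p gs * (p ww * (x1 : G))
      rw [← mul_inv_eq_iff_eq_mul, show p ww * (x1 : G) * p gs * (p ww * (x1 : G))⁻¹ =
        p ww * ((x1 : G) * p gs * (x1 : G)⁻¹) * (p ww)⁻¹ by group, hk1', h, ← hpz, ← map_mul, ← map_inv, ← map_mul,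
        ← map_mul]
      congr 1
      rw [mul_inv_eq_iff_eq_mul]
      exact ext2 (by simp) (by simp) (by simp) (by simp))
    have h := hmul cw⁻¹ (cw * x1) (hrange _ ((hχ _).2 (inv_mem (show p ww ∈ p.range from ⟨_, rfl⟩)))) hx2
    rwa [inv_mul_cancel_left] at h

/-- **The hypothesis of the recognition.** -/
theorem exists_hyp_plus : ∃ H : LThreeRec.Hyp F G, H.t = z ∧ H.π = p := by
  classical
  haveI := Fact.mk Nat.prime_two
  haveI : Finite (F ≃+* F) := Finite.of_injective (fun σ => (σ : F → F)) DFunLike.coe_injective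
  have hnormal : (p.range.subgroupOf (centralizer ({z} : Set G))) = χ.ker := by
    ext c; rw [mem_subgroupOf, MonoidHom.mem_ker, hχ]
  refine ⟨{
    π := p
    ker_le := hc
    ker_odd := ho
    range_le := by rw [hpz]; exact hle
    odd_index := ?_
    field := fun x hx => ?_
    two_ne := h2 }, hpz, rfl⟩
  · rw [hpz, relIndex, hnormal, index_ker]
    refine Nat.odd_iff.2 (Nat.two_dvd_ne_zero.1 fun h => ?_)
    obtain ⟨⟨e, c, rfl⟩, he⟩ := exists_prime_orderOf_dvd_card' 2 h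
    have he' : orderOf (χ c) = 2 := (Subgroup.orderOf_coe _).trans he
    exact absurd (he' ▸ hχodd c) (by decide)
  · rw [hpz] at hx
    obtain ⟨g0, hg0⟩ := act_full p hc ho χ hle hχ hχodd hact h5 h2 hgz hgs hfree hpz hinv ⟨x, hx⟩
    exact ⟨g0, χ ⟨x, hx⟩, hg0, fun he => (hχ ⟨x, hx⟩).1 (RingEquiv.ext he)⟩

end Cfsg.Agent.SDBudget
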