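import Cfsg.Agent.Lib.SDBudget.EndModel
import Cfsg.Agent.Lib.LThreeRec.Matrix

/-!
# `GL(2, q)` has the shape (endgame of the SD / wreathed keystone, sign `+`)

* `shapeGL` : `GL(2, q)` with `2 ^ n ∥ q - 1` has the shape with `Σ` the odd scalars;
* `exists_piGL` : so it maps onto a group of that shape, with central odd kernel, extending the given
  isomorphism of `SL(2, q)`.
-/

set_option autoImplicit false
set_option linter.unusedSectionVars false

namespace Cfsg.Agent.SDBudget

open Subgroup Matrix Cfsg.Agent.PSL2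
open Cfsg.Agent.AutPSL (semi semiSL)

universe u

variable {F : Type} [Field F] [Finite F]

theorem toGL_coe (s : SL2 F) : ((Matrix.SpecialLinearGroup.toGL s : GL (Fin 2) F) : Matrix (Fin 2) (Fin 2) F) = s.1 := rfl

theorem toGL_semiSL (g : GL (Fin (0 + 2)) F) (s : SL2 F) :
    (Matrix.SpecialLinearGroup.toGL (semiSL g (RingEquiv.refl F) s) : GL (Fin 2) F) =
      g * Matrix.SpecialLinearGroup.toGL s * g⁻¹ := by
  refine Units.ext ?_
  rw [toGL_coe, AutPSL.semiSL_coe, RingEquiv.coe_refl, Matrix.map_id, Units.val_mul, Units.val_mul, toGL_coe]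

variable (hodd : Odd (Nat.card F)) {n m : ℕ} (hn : 1 ≤ n) (hq : Nat.card F - 1 = 2 ^ n * m) (hm : Odd m)
include hodd hn hq hm

/-- `GL(2, q)` has the shape. -/
theorem exists_shapeGL : ∃ T : Shape (GL (Fin 2) F) F n,
    Nat.card T.Sig = m ∧ ∀ x, (T.e.symm x : GL (Fin 2) F) = Matrix.SpecialLinearGroup.toGL x := by
  haveI := Fintype.ofFinite F
  haveI : IsCyclic Fˣ := inferInstance
  have hm0 : 0 < m := hm.pos
  obtain ⟨w, hw⟩ := IsCyclic.exists_generator (α := Fˣ)
  have hwo : orderOf w = 2 ^ n * m := by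
    rw [orderOf_eq_card_of_forall_mem_zpowers hw, Nat.card_units, hq]
  set ζ : Fˣ := w ^ m with hζdef
  have hζ : orderOf ζ = 2 ^ n := by
    rw [hζdef, orderOf_pow_of_dvd hm0.ne' (hwo ▸ dvd_mul_left m _), hwo, Nat.mul_div_cancel _ hm0]
  set ξ : Fˣ := w ^ 2 ^ n with hξdef
  have hξ : orderOf ξ = m := by
    rw [hξdef, orderOf_pow_of_dvd (by positivity) (hwo ▸ dvd_mul_right _ m), hwo,
      Nat.mul_div_cancel_left _ (by positivity)]
  set a : GL (Fin 2) F := LThreeRec.dg (ζ, 1) with hadef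
  have hpow : ∀ k : ℕ, a ^ k = LThreeRec.dg (ζ ^ k, 1) := fun k => by
    rw [hadef, ← map_pow, Prod.pow_mk, one_pow]
  have hsc : Function.Injective (GeneralLinearGroup.scalar (Fin 2) : Fˣ →* GL (Fin 2) F) :=
    GLOrder.scalar_injective
  set Sg : Subgroup (GL (Fin 2) F) := zpowers (GeneralLinearGroup.scalar (Fin 2) ξ) with hSg
  have hSgc : Nat.card Sg = m := by
    rw [hSg, Nat.card_zpowers, orderOf_injective _ hsc, hξ]
  have hinj : Function.Injective (Matrix.SpecialLinearGroup.toGL : SL2 F →* GL (Fin 2) F) := fun x y h =>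
    Subtype.ext (congrArg Units.val h :)
  set j : SL2 F →* GL (Fin 2) F := Matrix.SpecialLinearGroup.toGL with hj
  have hNn : (j.range).Normal := by
    have : j.range = (GeneralLinearGroup.det : GL (Fin 2) F →* Fˣ).ker := by
      ext g
      constructor
      · rintro ⟨s, rfl⟩
        exact Units.ext s.2
      · intro hg
        exact ⟨⟨g.1, congrArg Units.val hg⟩, Units.ext rfl⟩
    rw [this]; infer_instance
  have hcomm : ∀ g : GL (Fin 2) F, (∀ x ∈ j.range, Commute g x) →
      g 0 1 = 0 ∧ g 1 0 = 0 ∧ g 0 0 = g 1 1 := fun g hg => by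
    have h1 := hg (LThreeRec.u 1) ⟨⟨!![1, 1; 0, 1], by simp [Matrix.det_fin_two_of]⟩, Units.ext rfl⟩
    have h2 := hg (LThreeRec.v 1) ⟨⟨!![1, 0; 1, 1], by simp [Matrix.det_fin_two_of]⟩, Units.ext rfl⟩
    have e00 := congrArg (fun k : GL (Fin 2) F => k 0 0) h1.eq
    have e01 := congrArg (fun k : GL (Fin 2) F => k 0 1) h1.eq
    have f00 := congrArg (fun k : GL (Fin 2) F => k 0 0) h2.eq
    simp at e00 e01 f00
    exact ⟨f00, e00, by linear_combination e01⟩
  refine ⟨{ N := j.range
            normal := hNn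
            e := (MonoidHom.ofInjective hinj).symm
            a := a
            pow_eq := by rw [hpow, ← hζ, pow_orderOf_eq_one]; exact map_one _
            Sig := Sg
            sig_le := by
              rw [hSg, GeneralLinearGroup.center_eq_range_scalar, zpowers_le]
              exact ⟨ξ, rfl⟩
            sig_odd := by rw [hSgc]; exact hm
            sig_cyclic := inferInstance
            card_eq := by
              rw [GLOrder.card_GL_two, GLOrder.card_SL_two, hSgc, hq]; ring
            g := a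
            act := fun x => ?_
            faithful := fun k hk => ?_
            outer := fun h1 y hy hc => ?_ }, hSgc, fun x => rfl⟩
  · apply hinj
    show (Matrix.SpecialLinearGroup.toGL ((MonoidHom.ofInjective hinj).symm _) : GL (Fin 2) F) = _
    rw [toGL_semiSL]
    have e1 : ∀ y : j.range, (Matrix.SpecialLinearGroup.toGL ((MonoidHom.ofInjective hinj).symm y) : GL (Fin 2) F) = y := fun y =>
      congrArg Subtype.val ((MonoidHom.ofInjective hinj).apply_symm_apply y)
    rw [e1, e1]
  · obtain ⟨-, -, h⟩ := hcomm _ hk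
    rw [hpow] at h
    simp at h
    rw [← hζ, orderOf_dvd_iff_pow_eq_one]
    exact Units.ext (by simpa using h)
  · obtain ⟨s, rfl⟩ := hy
    obtain ⟨h01, h10, h00⟩ := hcomm _ hc
    have hζ1 : (ζ : F) = -1 := by
      have h2 : (ζ : F) * ζ = 1 := by
        rw [← Units.val_mul, ← pow_two, ← pow_one 2, ← h1, ← hζ, pow_orderOf_eq_one, Units.val_one]
      rcases mul_self_eq_one_iff.1 h2 with h | h
      · exfalso
        rw [show ζ = 1 from Units.ext h, orderOf_one, h1] at hζ
        exact absurd hζ (by norm_num)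
      · exact h
    have hdet : (j s * a : GL (Fin 2) F).1.det = -1 := by
      rw [Units.val_mul, Matrix.det_mul, show (j s : GL (Fin 2) F).1.det = 1 from s.2, one_mul, hadef,
        LThreeRec.dg_coe, Matrix.det_fin_two_of, hζ1]
      simp
    rw [Matrix.det_fin_two, h01, h10, ← h00] at hdet
    have h4 : IsSquare (-1 : F) := ⟨(j s * a : GL (Fin 2) F) 0 0, by rw [← hdet]; ring⟩
    have h3 := (FiniteField.isSquare_neg_one_iff (F := F)).1 h4
    rw [h1, pow_one] at hq
    rw [← Nat.card_eq_fintype_card] at h3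
    obtain ⟨l, hl⟩ := hm
    have := Finite.one_lt_card (α := F)
    omega

/-- `GL(2, q)` maps onto a group of the shape whose `Σ` has order dividing `q - 1`. -/
theorem exists_piGL {M : Type u} [Group M] [Finite M] (S : Shape M F n) (hdvd : Nat.card S.Sig ∣ Nat.card F - 1) :
    ∃ π : GL (Fin 2) F →* M, Function.Surjective π ∧ π.ker ≤ center (GL (Fin 2) F) ∧ Odd (Nat.card π.ker) ∧
      ∀ x : SL2 F, π (Matrix.SpecialLinearGroup.toGL x) = S.e.symm x := by
  obtain ⟨T, hTm, hT⟩ := exists_shapeGL hodd hn hq hm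
  have hdvd' : Nat.card S.Sig ∣ Nat.card T.Sig := by
    rw [hTm]
    rw [hq] at hdvd
    exact (Nat.Coprime.pow_right n (Nat.coprime_two_right.2 S.sig_odd)).dvd_of_dvd_mul_left hdvd
  obtain ⟨f, k, hfs, hfk, hf⟩ := Shape.exists_hom T hodd S hn hdvd'
  refine ⟨f.comp (MulAut.conj (k⁻¹ : GL (Fin 2) F)).toMonoidHom, hfs.comp (MulEquiv.surjective _), ?_, ?_, fun x => ?_⟩
  · intro g hg
    have h1 : k⁻¹ * g * k⁻¹⁻¹ ∈ center (GL (Fin 2) F) := T.sig_le (hfk hg)
    have h2 := Subgroup.Normal.conj_mem inferInstance _ h1 k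
    rwa [show k * (k⁻¹ * g * k⁻¹⁻¹) * k⁻¹ = g by group] at h2
  · refine T.sig_odd.of_dvd_nat ?_
    rw [← MonoidHom.comap_ker, Nat.card_congr (Equiv.subtypeEquiv (MulAut.conj (k⁻¹ : GL (Fin 2) F)).toEquiv
      fun _ => Iff.rfl : (f.ker.comap _ : Subgroup _) ≃ f.ker)]
    exact card_dvd_of_le hfk
  · show f (k⁻¹ * Matrix.SpecialLinearGroup.toGL x * k⁻¹⁻¹) = _
    rw [← toGL_semiSL, ← hT, hf, semiSL_refl_mul, mul_inv_cancel, semiSL_refl_one]
    rfl

end Cfsg.Agent.SDBudget
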