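import Cfsg.Agent.Lib.SDBudget.EndModel
import Cfsg.Agent.Lib.U3Order.SU2
import Mathlib.FieldTheory.Finite.GaloisField

/-!
# `GU(2, q)` has the shape (endgame of the SD / wreathed keystone, sign `-`)

* `aa` : `ζ ↦` the element of `U2` of determinant `ζ` with axes `(1, 1)`, `(1, -1)`;
* `slK` : `SL(2, F) →* U2 K q`, `|F| = q`, `|K| = q ^ 2`;
* `exists_shapeGU`, `exists_piGU` : `U2 K q` with `2 ^ n ∥ q + 1` has the shape, and maps onto a group of that
  shape with scalar kernel of odd order, extending the given isomorphism of `SL(2, q)`.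
-/

set_option autoImplicit false
set_option linter.unusedSectionVars false

namespace Cfsg.Agent.SDBudget

open Subgroup Cfsg.Agent.PSL2 Cfsg.Agent.U3Recog Cfsg.Agent.Unitary
open Cfsg.Agent.AutPSL (semi semiSL)

universe u v

variable {K : Type v} [Field K] [Fintype K] {q : ℕ} (hK : Fintype.card K = q ^ 2)

theorem pow_q_of_norm_one {z : K} (hz : z ^ (q + 1) = 1) : z ^ q = z⁻¹ :=
  eq_inv_of_mul_eq_one_left (by rwa [← pow_succ])

variable (h2 : (2 : K) ≠ 0)

include hK h2 in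
theorem aa_conds {z : K} (hz : z ^ (q + 1) = 1) :
    (z + 1) / 2 * ((z - 1) / 2) ^ q + (z - 1) / 2 * ((z + 1) / 2) ^ q = 0 ∧
    (z + 1) / 2 * ((z + 1) / 2) ^ q + (z - 1) / 2 * ((z - 1) / 2) ^ q = 1 := by
  have e1 := pow_q_of_norm_one hz
  have hz0 : z ≠ 0 := fun h => by simp [h] at hz
  constructor <;>
    rw [div_pow, div_pow, add_pow_q hK, sub_pow_q hK, e1, one_pow, two_pow_q hK] <;> field_simp <;> ring

/-- The element of determinant `z` with axes `(1, 1)` and `(1, -1)`. -/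
noncomputable def aaEl (z : K) (hz : z ^ (q + 1) = 1) : U2 K q :=
  mk4 hK ((z + 1) / 2) ((z - 1) / 2) ((z - 1) / 2) ((z + 1) / 2) (aa_conds hK h2 hz).1
    (by rw [add_comm]; exact (aa_conds hK h2 hz).1) (aa_conds hK h2 hz).2

/-- The homomorphism `ζ ↦ aaEl ζ`. -/
noncomputable def aa : rootsOfUnity (q + 1) K →* U2 K q where
  toFun z := aaEl hK h2 ((z : Kˣ) : K) (by rw [← Units.val_pow_eq_pow_val, (mem_rootsOfUnity _ _).1 z.2, Units.val_one])
  map_one' := by
    obtain ⟨a, b, c, d⟩ := mk4_entries hK ((1 + 1) / 2 : K) ((1 - 1) / 2) ((1 - 1) / 2) ((1 + 1) / 2)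
      (aa_conds hK h2 (one_pow _)).1 (by rw [add_comm]; exact (aa_conds hK h2 (one_pow _)).1)
      (aa_conds hK h2 (one_pow _)).2
    apply ext4 <;> simp only [aaEl, OneMemClass.coe_one, Units.val_one, a, b, c, d, e00_one, e01_one, e10_one,
      e11_one] <;> field_simp <;> ring
  map_mul' z z' := by
    apply ext4 <;> simp only [e00_mul, e01_mul, e10_mul, e11_mul] <;>
      simp [aaEl, mk4, e00, e01, e10, e11, mat, Matrix.GeneralLinearGroup.mkOfDetNeZero] <;>
      field_simp <;> ring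

theorem aa_entries (z : rootsOfUnity (q + 1) K) :
    e00 (aa hK h2 z) = (((z : Kˣ) : K) + 1) / 2 ∧ e01 (aa hK h2 z) = (((z : Kˣ) : K) - 1) / 2 ∧
      e10 (aa hK h2 z) = (((z : Kˣ) : K) - 1) / 2 ∧ e11 (aa hK h2 z) = (((z : Kˣ) : K) + 1) / 2 := by
  simp [aa, aaEl, mk4, e00, e01, e10, e11, mat, Matrix.GeneralLinearGroup.mkOfDetNeZero]

theorem det2_aa (z : rootsOfUnity (q + 1) K) : det2 (aa hK h2 z) = ((z : Kˣ) : K) := by
  obtain ⟨a, b, c, d⟩ := aa_entries hK h2 z
  rw [det2, a, b, c, d]; field_simp; ring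

section SL

variable {F : Type} [Field F] (ι : F ≃+* fixedField hK) {δ : K} (hδ0 : δ ≠ 0) (hδ : δ ^ q = -δ)

/-- `SL(2, F)` inside `U2 K q`. -/
noncomputable def slK : SL2 F →* U2 K q :=
  (slHom hK hδ0 hδ).comp (Matrix.SpecialLinearGroup.map (ι : F →+* fixedField hK))

theorem slK_entries (x : SL2 F) :
    e00 (slK hK ι hδ0 hδ x) = (ι (x.1 0 0) : K) ∧ e01 (slK hK ι hδ0 hδ x) = (ι (x.1 0 1) : K) * δ ∧
      e10 (slK hK ι hδ0 hδ x) = (ι (x.1 1 0) : K) / δ ∧ e11 (slK hK ι hδ0 hδ x) = (ι (x.1 1 1) : K) :=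
  slEl_entries hK hδ0 hδ _

theorem slK_injective : Function.Injective (slK hK ι hδ0 hδ) := fun x y h => by
  obtain ⟨a, b, c, d⟩ := slK_entries hK ι hδ0 hδ x
  obtain ⟨a', b', c', d'⟩ := slK_entries hK ι hδ0 hδ y
  refine Subtype.ext (Matrix.ext fun i j => ι.injective (Subtype.ext ?_))
  fin_cases i <;> fin_cases j
  · exact a.symm.trans ((congrArg e00 h).trans a')
  · exact mul_right_cancel₀ hδ0 (b.symm.trans ((congrArg e01 h).trans b'))
  · exact (div_left_inj' hδ0).1 (c.symm.trans ((congrArg e10 h).trans c'))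
  · exact d.symm.trans ((congrArg e11 h).trans d')

theorem range_slK : ∀ u : U2 K q, u ∈ (slK hK ι hδ0 hδ).range ↔ det2 u = 1 := fun u => by
  rw [← mem_range_slHom hK hδ0 hδ]
  constructor
  · rintro ⟨x, rfl⟩; exact ⟨_, rfl⟩
  · rintro ⟨y, rfl⟩
    refine ⟨Matrix.SpecialLinearGroup.map (ι.symm : fixedField hK →+* F) y, congrArg (slHom hK hδ0 hδ) ?_⟩
    exact Subtype.ext (Matrix.ext fun i j => ι.apply_symm_apply _)

variable [Finite F] (hodd : Odd (Nat.card F)) {n m : ℕ} (hn : 1 ≤ n) (hq : q + 1 = 2 ^ n * m) (hm : Odd m)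
include h2 hodd hn hq hm

/-- `U2` has the shape. -/
theorem exists_shapeGU : ∃ T : Shape (U2 K q) F n, Nat.card T.Sig = m ∧
    (∀ x, (T.e.symm x : U2 K q) = slK hK ι hδ0 hδ x) ∧
    ∀ u ∈ T.Sig, e01 u = 0 ∧ e10 u = 0 ∧ e00 u = e11 u := by
  classical
  haveI := Fintype.ofFinite F
  have hm0 : 0 < m := hm.pos
  have hF : Nat.card F = q := (Nat.card_congr ι.toEquiv).trans (card_fixedField hK)
  have hμ : Nat.card (rootsOfUnity (q + 1) K) = q + 1 := by
    refine Eq.trans (Nat.card_congr ?_) (card_norm_one hK)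
    exact {
      toFun := fun z => ⟨((z : Kˣ) : K), by
        rw [← Units.val_pow_eq_pow_val, (mem_rootsOfUnity _ _).1 z.2, Units.val_one]⟩
      invFun := fun x => rootsOfUnity.mkOfPowEq x.1 x.2
      left_inv := fun z => Subtype.ext (Units.ext rfl)
      right_inv := fun x => Subtype.ext rfl }
  obtain ⟨w, hw⟩ := IsCyclic.exists_generator (α := rootsOfUnity (q + 1) K)
  have hwo : orderOf w = 2 ^ n * m := by rw [orderOf_eq_card_of_forall_mem_zpowers hw, hμ, hq]
  set ζ := w ^ m with hζdef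
  have hζ : orderOf ζ = 2 ^ n := by
    rw [hζdef, orderOf_pow_of_dvd hm0.ne' (hwo ▸ dvd_mul_left m _), hwo, Nat.mul_div_cancel _ hm0]
  set ξ := w ^ 2 ^ n with hξdef
  have hξ : orderOf ξ = m := by
    rw [hξdef, orderOf_pow_of_dvd (by positivity) (hwo ▸ dvd_mul_right _ m), hwo,
      Nat.mul_div_cancel_left _ (by positivity)]
  set z : K := ((ξ : Kˣ) : K) with hz
  have hz0 : z ≠ 0 := (ξ : Kˣ).ne_zero
  have hz1 : z ^ (q + 1) = 1 := by
    rw [hz, ← Units.val_pow_eq_pow_val, (mem_rootsOfUnity _ _).1 ξ.2, Units.val_one]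
  let sc : U2 K q := dd hK (ξ : Kˣ)
  have hsc : e00 sc = z ∧ e01 sc = 0 ∧ e10 sc = 0 ∧ e11 sc = z := by
    obtain ⟨a, b, c, d⟩ := dd_entries hK (q := q) (ξ : Kˣ)
    exact ⟨a, b, c, by rw [d, ← hz, pow_q_of_norm_one hz1, inv_inv]⟩
  have hscal : ∀ u ∈ zpowers sc, e01 u = 0 ∧ e10 u = 0 ∧ e00 u = e11 u := by
    intro u hu
    obtain ⟨k, rfl⟩ := mem_powers_iff_mem_zpowers.2 hu
    simp only []
    clear hu
    induction k with
    | zero => simp
    | succ k ih =>
      obtain ⟨a, b, c⟩ := ih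
      obtain ⟨a', b', c', d'⟩ := hsc
      simp only [pow_succ] at *
      simp [a, b, c, a', b', c', d']
  set j := slK hK ι hδ0 hδ with hj
  have hNn : j.range.Normal := ⟨fun u hu v => by
    rw [range_slK] at hu ⊢
    rw [det2_mul, det2_mul, hu, mul_one, ← det2_mul, mul_inv_cancel, det2_one]⟩
  have hcomm : ∀ u : U2 K q, (∀ x ∈ j.range, Commute u x) → e01 u = 0 ∧ e10 u = 0 ∧ e00 u = e11 u := by
    intro u hu
    let xu : SL2 F := ⟨!![1, 1; 0, 1], by simp [Matrix.det_fin_two_of]⟩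
    let xl : SL2 F := ⟨!![1, 0; 1, 1], by simp [Matrix.det_fin_two_of]⟩
    obtain ⟨a, b, c, d⟩ := slK_entries hK ι hδ0 hδ xu
    obtain ⟨a', b', c', d'⟩ := slK_entries hK ι hδ0 hδ xl
    have h1 := hu (j xu) ⟨xu, rfl⟩
    have h1' := hu (j xl) ⟨xl, rfl⟩
    have f00 := congrArg e00 h1.eq
    have f01 := congrArg e01 h1.eq
    have g00 := congrArg e00 h1'.eq
    simp only [hj, e00_mul, e01_mul, e10_mul, a, b, c, d, a', b', c', d'] at f00 f01 g00
    simp [xu, xl, hδ0] at f00 f01 g00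
    exact ⟨g00, f00, mul_right_cancel₀ hδ0 (by linear_combination f01)⟩
  set a : U2 K q := aa hK h2 ζ with ha
  set ζK : K := ((ζ : Kˣ) : K)
  have hζn : ζK ^ q = ζK⁻¹ := pow_q_of_norm_one (by
    rw [← Units.val_pow_eq_pow_val, (mem_rootsOfUnity _ _).1 ζ.2, Units.val_one])
  have hζ0 : ζK ≠ 0 := (ζ : Kˣ).ne_zero
  -- the diagonal automorphism of `a`
  obtain ⟨μ, hμ0, hμp, hμs⟩ : ∃ μ : K, μ ≠ 0 ∧ (μ * ((ζK + 1) / 2)) ^ q = μ * ((ζK + 1) / 2) ∧
      (μ * ((ζK - 1) / 2) * δ) ^ q = μ * ((ζK - 1) / 2) * δ := by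
    by_cases h1 : ζK + 1 = 0
    · have hq0 : q ≠ 0 := fun h => by
        rw [h, zero_pow two_ne_zero] at hK; exact Fintype.card_ne_zero hK
      refine ⟨δ, hδ0, by rw [h1]; simp [zero_pow hq0], ?_⟩
      rw [mul_pow, mul_pow, div_pow, sub_pow_q hK, hζn, two_pow_q hK, hδ, one_pow,
        show ζK = -1 by linear_combination h1]
      ring
    · refine ⟨2 / (ζK + 1), div_ne_zero h2 h1, ?_, ?_⟩
      · rw [show 2 / (ζK + 1) * ((ζK + 1) / 2) = 1 by field_simp, one_pow]
      · have h1' : 1 + ζK ≠ 0 := by rwa [add_comm]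
        rw [mul_pow, mul_pow, div_pow, div_pow, sub_pow_q hK, add_pow_q hK, hζn, hδ, two_pow_q hK, one_pow]
        field_simp
        ring
  let gp : F := ι.symm ⟨μ * ((ζK + 1) / 2), hμp⟩
  let gs : F := ι.symm ⟨μ * ((ζK - 1) / 2) / δ, by
    show (μ * ((ζK - 1) / 2) / δ) ^ q = μ * ((ζK - 1) / 2) / δ
    have h := hμs
    rw [mul_pow, hδ] at h
    rw [div_pow, hδ, show (μ * ((ζK - 1) / 2)) ^ q = -(μ * ((ζK - 1) / 2)) from
      mul_right_cancel₀ hδ0 (by linear_combination -h), neg_div_neg_eq]⟩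
  let gt : F := ι.symm ⟨μ * ((ζK - 1) / 2) * δ, hμs⟩
  have ep : (ι gp : K) = μ * ((ζK + 1) / 2) := congrArg Subtype.val (ι.apply_symm_apply _)
  have es : (ι gs : K) = μ * ((ζK - 1) / 2) / δ := congrArg Subtype.val (ι.apply_symm_apply _)
  have et : (ι gt : K) = μ * ((ζK - 1) / 2) * δ := congrArg Subtype.val (ι.apply_symm_apply _)
  have hdet : gp * gp - gs * gt ≠ 0 := fun h => by
    have h' := congrArg (fun x : F => (ι x : K)) h
    simp only [map_sub, map_mul, map_zero, AddSubgroupClass.coe_sub, MulMemClass.coe_mul,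
      ZeroMemClass.coe_zero, ep, es, et] at h'
    refine mul_ne_zero (mul_ne_zero hμ0 hμ0) hζ0 ?_
    rw [← h']; field_simp; ring
  let g : GL (Fin (0 + 2)) F := Matrix.GeneralLinearGroup.mkOfDetNeZero !![gp, gs; gt, gp]
    (by rwa [Matrix.det_fin_two_of])
  have hact : ∀ x : SL2 F, j (semiSL g (RingEquiv.refl F) x) * a = a * j x := fun x => by
    set y := semiSL g (RingEquiv.refl F) x with hy
    have h1 : y.1 * (g : Matrix (Fin 2) (Fin 2) F) = (g : Matrix (Fin 2) (Fin 2) F) * x.1 := by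
      rw [hy, AutPSL.semiSL_coe, RingEquiv.coe_refl, Matrix.map_id, mul_assoc,
        show ((g⁻¹ : GL (Fin (0 + 2)) F) : Matrix (Fin 2) (Fin 2) F) * (g : Matrix (Fin 2) (Fin 2) F) = 1 from
          g.inv_mul, mul_one]
    have k00 := congrArg (fun m : Matrix (Fin 2) (Fin 2) F => (ι (m 0 0) : K)) h1
    have k01 := congrArg (fun m : Matrix (Fin 2) (Fin 2) F => (ι (m 0 1) : K)) h1
    have k10 := congrArg (fun m : Matrix (Fin 2) (Fin 2) F => (ι (m 1 0) : K)) h1
    have k11 := congrArg (fun m : Matrix (Fin 2) (Fin 2) F => (ι (m 1 1) : K)) h1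
    simp [g, Matrix.mul_apply, Fin.sum_univ_two, Matrix.GeneralLinearGroup.mkOfDetNeZero, ep, es, et]
      at k00 k01 k10 k11
    field_simp at k00 k01 k10 k11
    obtain ⟨a0, b0, c0, d0⟩ := slK_entries hK ι hδ0 hδ x
    obtain ⟨a1, b1, c1, d1⟩ := slK_entries hK ι hδ0 hδ y
    obtain ⟨p0, p1, p2, p3⟩ := aa_entries hK h2 ζ
    apply ext4 <;> simp only [hj, ha, e00_mul, e01_mul, e10_mul, e11_mul, a0, b0, c0, d0, a1, b1, c1, d1, p0, p1, p2, p3] <;>
      field_simp
    · first | linear_combination k00 | linear_combination δ * k00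
    · first | linear_combination k01 | linear_combination δ * k01
    · first | linear_combination k10 | linear_combination δ * k10
    · first | linear_combination k11 | linear_combination δ * k11
  have hcardSg : Nat.card (zpowers sc) = m := by
    rw [Nat.card_zpowers, orderOf_injective _ (dd_injective hK), Subgroup.orderOf_coe, hξ]
  refine ⟨{ N := j.range
            normal := hNn
            e := (MonoidHom.ofInjective (slK_injective hK ι hδ0 hδ)).symm
            a := a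
            pow_eq := by rw [ha, ← map_pow, ← hζ, pow_orderOf_eq_one, map_one]
            Sig := zpowers sc
            sig_le := zpowers_le.2 (mem_center_iff.2 fun u => by
              obtain ⟨a', b', c', d'⟩ := hsc
              apply ext4 <;> simp [a', b', c', d'] <;> ring)
            sig_odd := by rw [hcardSg]; exact hm
            sig_cyclic := inferInstance
            card_eq := by
              rw [card_U2 hK h2, GLOrder.card_SL_two, hF, hcardSg, hq]; ring
            g := g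
            act := fun x => ?_
            faithful := fun k hk => ?_
            outer := fun h1 y hy hc => ?_ }, hcardSg, fun x => rfl, hscal⟩
  · rw [MulEquiv.symm_apply_eq]
    refine Subtype.ext ?_
    obtain ⟨x', rfl⟩ := (MonoidHom.ofInjective (slK_injective hK ι hδ0 hδ)).surjective x
    rw [MulEquiv.symm_apply_apply]
    show a * j x' * a⁻¹ = j _
    rw [← hact, mul_inv_cancel_right]
  · obtain ⟨h, -, -⟩ := hcomm _ hk
    rw [ha, ← map_pow, (aa_entries hK h2 _).2.1, div_eq_zero_iff, or_iff_left h2, sub_eq_zero] at h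
    rw [← hζ, orderOf_dvd_iff_pow_eq_one]
    exact Subtype.ext (Units.ext h)
  · obtain ⟨s, rfl⟩ := hy
    obtain ⟨h01, h10, h00⟩ := hcomm _ hc
    have hζ1 : ζK = -1 := by
      have h2' : ζK * ζK = 1 := by
        have h3 : ζ * ζ = 1 := by
          rw [← pow_two]
          exact orderOf_dvd_iff_pow_eq_one.1 (by rw [hζ, h1, pow_one])
        exact congrArg (fun z : rootsOfUnity (q + 1) K => ((z : Kˣ) : K)) h3
      rcases mul_self_eq_one_iff.1 h2' with h | h
      · exfalso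
        rw [show ζ = 1 from Subtype.ext (Units.ext h), orderOf_one, h1] at hζ
        exact absurd hζ (by norm_num)
      · exact h
    have hd : det2 (j s * a) = -1 := by
      rw [det2_mul, ((range_slK hK ι hδ0 hδ) (j s)).1 ⟨s, rfl⟩, one_mul, det2_aa, ← hζ1]
    have hn' := (eqs hK (j s * a)).2.2.1
    rw [det2, h01, h10, ← h00] at hd
    rw [h10, ← h00, zero_mul, add_zero, ← pow_succ'] at hn'
    set l := e00 (j s * a)
    have hl : l ^ 2 = -1 := by linear_combination hd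
    obtain ⟨i, hi⟩ := hm
    rw [h1, pow_one] at hq
    rw [hq, pow_mul, hl, hi, pow_succ, pow_mul, neg_one_sq, one_pow, one_mul] at hn'
    exact h2 (by linear_combination -hn')

/-- `U2` maps onto a group of the shape whose `Σ` has order dividing `q + 1`. -/
theorem exists_piGU {M : Type u} [Group M] [Finite M] (S : Shape M F n) (hdvd : Nat.card S.Sig ∣ q + 1) :
    ∃ π : U2 K q →* M, Function.Surjective π ∧ (∀ g ∈ π.ker, e01 g = 0 ∧ e10 g = 0 ∧ e00 g = e11 g) ∧
      Odd (Nat.card π.ker) ∧ ∃ k : GL (Fin (0 + 2)) F, ∀ x : SL2 F,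
        π (slK hK ι hδ0 hδ x) = S.e.symm (semiSL k (RingEquiv.refl F) x) := by
  obtain ⟨T, hTm, hT, hTs⟩ := exists_shapeGU hK h2 ι hδ0 hδ hodd hn hq hm
  have hdvd' : Nat.card S.Sig ∣ Nat.card T.Sig := by
    rw [hTm]
    rw [hq] at hdvd
    exact (Nat.Coprime.pow_right n (Nat.coprime_two_right.2 S.sig_odd)).dvd_of_dvd_mul_left hdvd
  obtain ⟨f, k, hfs, hfk, hf⟩ := Shape.exists_hom T hodd S hn hdvd'
  exact ⟨f, hfs, fun g hg => hTs g (hfk hg), T.sig_odd.of_dvd_nat (card_dvd_of_le hfk), k,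
    fun x => by rw [← hT, hf]⟩

end SL

end Cfsg.Agent.SDBudget
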