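import Cfsg.Agent.Lib.SDBudget.EndField
import Cfsg.Agent.Lib.LThreeRec.Centre

/-!
# The index of the involution centraliser with a field part (endgame)

* `card_class` : the non-central involutions of `C(z)` are the images of one class of involutions;
* `card_plus`, `card_minus` : there are `q (q + δ)` of them, and `|C(z) : C(U)|` is that number;
* `index_eq` : with the formula of Brauer (either sign), `|G : C(z)| = q ^ 2 (q ^ 2 + δ q + 1)` for `5 ≤ q`.
-/

set_option autoImplicit false
set_option linter.unusedSectionVars false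
set_option linter.style.haveILetI false

namespace Cfsg.Agent.SDBudget

open Subgroup Cfsg.Agent.PSL2 Cfsg.Agent.U3Recog Cfsg.Agent.Unitary

universe u v w

variable {G : Type u} [Group G] [Finite G]

/-- The involutions of `C(z)` other than `z`, from those of a group over it. -/
theorem card_class {X : Type w} [Group X] [Finite X] {z : G} (p : X →* G) (hc : p.ker ≤ center X)
    (ho : Odd (Nat.card p.ker)) (hle : p.range ≤ centralizer ({z} : Set G))
    (hin : ∀ c ∈ centralizer ({z} : Set G), c * c = 1 → c ∈ p.range)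
    (d : X) (hd : d * d = 1) (hd1 : d ≠ 1) (hdz : p d ≠ z)
    (htrans : ∀ g : X, g * g = 1 → g ≠ 1 → p g ≠ z → IsConj d g) :
    Nat.card {x : centralizer ({z} : Set G) // orderOf x = 2 ∧ (x : G) ≠ z} *
        Nat.card (centralizer ({d} : Set X)) = Nat.card X ∧
      ∀ U : Subgroup G, IsKleinFour U → z ∈ U → z ≠ 1 →
        Nat.card {x : centralizer ({z} : Set G) // orderOf x = 2 ∧ (x : G) ≠ z} *
          Nat.card (centralizer (U : Set G)) = Nat.card (centralizer ({z} : Set G)) := by
  classical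
  haveI := Fintype.ofFinite X
  haveI : Fintype (centralizer ({z} : Set G)) := Fintype.ofFinite _
  set S := {x : centralizer ({z} : Set G) // orderOf x = 2 ∧ (x : G) ≠ z}
  have hk1 : ∀ k ∈ p.ker, k * k = 1 → k = 1 := fun k hk h => by
    have h1 : orderOf (⟨k, hk⟩ : p.ker) ∣ 2 := orderOf_dvd_of_pow_eq_one (Subtype.ext (by rw [pow_two]; exact h))
    exact congrArg Subtype.val (orderOf_eq_one_iff.1
      (Nat.eq_one_of_dvd_coprimes (Nat.coprime_two_left.2 ho) h1 (orderOf_dvd_natCard _)))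
  have hinj : ∀ g g' : X, g * g = 1 → g' * g' = 1 → p g = p g' → g = g' := fun g g' hg hg' h => by
    have hk : g⁻¹ * g' ∈ p.ker := by rw [MonoidHom.mem_ker, map_mul, map_inv, h, inv_mul_cancel]
    have hcm := mem_center_iff.1 (hc hk) g
    have hgi : g⁻¹ = g := inv_eq_of_mul_eq_one_right hg
    refine inv_mul_eq_one.1 (hk1 _ hk ?_)
    rw [hgi] at hcm ⊢
    calc g * g' * (g * g') = g * g' * g * g' := by simp [mul_assoc]
      _ = g * (g * g') * g' := by rw [← hcm]
      _ = 1 := by rw [← mul_assoc g g g', hg, one_mul, hg']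
  have hconj : ∀ g, IsConj d g → g * g = 1 ∧ g ≠ 1 ∧ p g ≠ z := fun g hg => by
    obtain ⟨x, rfl⟩ := isConj_iff.1 hg
    refine ⟨?_, fun h => hd1 ?_, fun h => hdz ?_⟩
    · rw [show x * d * x⁻¹ * (x * d * x⁻¹) = x * (d * d) * x⁻¹ by group, hd, mul_one, mul_inv_cancel]
    · exact conj_eq_one_iff.1 h
    · have hz : Commute (p x) z := mem_centralizer_singleton_iff.1 (hle ⟨x, rfl⟩)
      rw [map_mul, map_mul, map_inv, mul_inv_eq_iff_eq_mul, ← hz.eq] at h
      exact mul_left_cancel h
  let f : {g : X // IsConj d g} → S := fun g => ⟨⟨p g, hle ⟨g, rfl⟩⟩, by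
    rw [Subgroup.orderOf_mk]
    refine orderOf_eq_prime (by rw [pow_two, ← map_mul, (hconj g g.2).1, map_one]) fun h =>
      (hconj g g.2).2.1 (hk1 _ h (hconj g g.2).1), (hconj g g.2).2.2⟩
  have hf : Function.Bijective f := by
    refine ⟨fun g g' h => Subtype.ext (hinj _ _ (hconj g g.2).1 (hconj g' g'.2).1
      (congrArg (fun x : S => (x.1 : G)) h)), fun x => ?_⟩
    have hx2 : (x.1 : G) * x.1 = 1 := by
      rw [← pow_two]; exact orderOf_dvd_iff_pow_eq_one.1 (by rw [Subgroup.orderOf_coe, x.2.1])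
    obtain ⟨g, hg⟩ := hin _ x.1.2 hx2
    obtain ⟨m, hm⟩ := ho
    have hk : g * g ∈ p.ker := by rw [MonoidHom.mem_ker, map_mul, hg, hx2]
    set g' := g * (g * g) ^ m
    have hg' : g' * g' = 1 := by
      have hcg : Commute g ((g * g) ^ m) := ((Commute.refl g).mul_right (Commute.refl g)).pow_right m
      calc g' * g' = g * g * ((g * g) ^ m * (g * g) ^ m) := by
            simp only [g']
            rw [mul_assoc, ← mul_assoc ((g * g) ^ m), ← hcg.eq]
            simp [mul_assoc]
        _ = 1 := by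
            rw [← pow_add, ← pow_succ', show m + m + 1 = 2 * m + 1 by ring, ← hm]
            exact congrArg Subtype.val (pow_card_eq_one' (x := (⟨g * g, hk⟩ : p.ker)))
    have hp : p g' = x.1 := by rw [map_mul, map_pow, MonoidHom.mem_ker.1 hk, one_pow, mul_one, hg]
    refine ⟨⟨g', htrans g' hg' (fun h => ?_) (hp ▸ x.2.2)⟩, Subtype.ext (Subtype.ext hp)⟩
    have h1 := x.2.1
    rw [h, map_one] at hp
    rw [show x.1 = 1 from Subtype.ext hp.symm, orderOf_one] at h1
    exact absurd h1 (by norm_num)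
  refine ⟨?_, fun U hU hzU hz1 => ?_⟩
  · rw [← Nat.card_congr (Equiv.ofBijective f hf)]
    exact Cfsg.Agent.Char.card_conjugates_mul_card_centralizer d
  haveI : Fintype U := Fintype.ofFinite U
  obtain ⟨u, huU, hu1, huz⟩ : ∃ u ∈ U, u ≠ 1 ∧ u ≠ z := by
    by_contra h
    push Not at h
    have hsub : (U : Set G) ⊆ {1, z} := fun y hy => by
      by_cases h1 : y = 1
      · exact Or.inl h1
      · exact Or.inr (h y hy h1)
    have := (Set.ncard_le_ncard hsub (Set.toFinite _)).trans ((Set.ncard_insert_le _ _).trans (le_of_eq (congrArg (· + 1) (Set.ncard_singleton z))))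
    rw [← Nat.card_coe_set_eq, show Nat.card (U : Set G) = 4 from hU.card_four] at this
    omega
  have hsq : ∀ y ∈ U, y * y = 1 := fun y hy =>
    congrArg Subtype.val (IsKleinFour.mul_self (G := U) ⟨y, hy⟩)
  have hcomm : ∀ x ∈ U, ∀ y ∈ U, x * y = y * x := fun x hx y hy => by
    have h := hsq _ (mul_mem hx hy)
    calc x * y = (y * x) * ((x * y) * (x * y)) := by
          rw [show y * x * (x * y * (x * y)) = y * (x * x) * y * (x * y) by group, hsq x hx, mul_one, hsq y hy,
            one_mul]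
      _ = y * x := by rw [h, mul_one]
  have huC : u ∈ centralizer ({z} : Set G) := mem_centralizer_singleton_iff.2 (hcomm u huU z hzU)
  have huS : orderOf (⟨u, huC⟩ : centralizer ({z} : Set G)) = 2 := by
    rw [Subgroup.orderOf_mk]; exact orderOf_eq_prime (by rw [pow_two]; exact hsq u huU) hu1
  have e1 : Nat.card S = Nat.card {x : centralizer ({z} : Set G) // IsConj ⟨u, huC⟩ x} := by
    refine Nat.card_congr (Equiv.subtypeEquivRight fun x => ⟨fun hx => ?_, fun hx => ?_⟩)
    · obtain ⟨a, ha⟩ := hf.2 ⟨⟨u, huC⟩, huS, huz⟩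
      obtain ⟨b, hb⟩ := hf.2 ⟨x, hx⟩
      have hab : IsConj (p.codRestrict _ (fun y => hle ⟨y, rfl⟩) a.1) (p.codRestrict _ (fun y => hle ⟨y, rfl⟩) b.1) :=
        MonoidHom.map_isConj _ (a.2.symm.trans b.2)
      rw [show p.codRestrict _ (fun y => hle ⟨y, rfl⟩) a.1 = ⟨u, huC⟩ from congrArg Subtype.val ha,
        show p.codRestrict _ (fun y => hle ⟨y, rfl⟩) b.1 = x from congrArg Subtype.val hb] at hab
      exact hab
    · obtain ⟨c, rfl⟩ := isConj_iff.1 hx
      refine ⟨by rw [← MulAut.conj_apply, (MulAut.conj c).orderOf_eq, huS], fun e => huz ?_⟩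
      have hcz : (c : G) * z = z * (c : G) := mem_centralizer_singleton_iff.1 c.2
      have e' : u = (c : G)⁻¹ * (c * ⟨u, huC⟩ * c⁻¹ : centralizer ({z} : Set G)) * c := by simp [mul_assoc]
      rw [e', e, mul_assoc, ← hcz, ← mul_assoc, inv_mul_cancel, one_mul]
  have hcases : ∀ y ∈ U, y = 1 ∨ y = z ∨ y = u ∨ y = z * u := by
    have hT : ({1, z, u, z * u} : Set G) ⊆ U := by
      rintro y (rfl | rfl | rfl | rfl)
      exacts [one_mem U, hzU, huU, mul_mem hzU huU]
    have hzu1 : z * u ≠ 1 := fun h => huz ((mul_left_cancel (h.trans (hsq z hzU).symm)))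
    have h4 : ({1, z, u, z * u} : Set G).ncard = 4 := by
      rw [Set.ncard_insert_of_notMem (by simp [eq_comm (a := (1 : G)), hz1, hu1, hzu1]),
        Set.ncard_insert_of_notMem (by simp [eq_comm (a := z), huz, hu1]),
        Set.ncard_pair (by simp [hz1])]
    have heq := Set.eq_of_subset_of_ncard_le hT (by
      rw [h4, ← Nat.card_coe_set_eq]; exact hU.card_four.le) (Set.toFinite _)
    intro y hy
    rw [← SetLike.mem_coe, ← heq] at hy
    simpa using hy
  have e2 : Nat.card (centralizer (U : Set G)) =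
      Nat.card (centralizer ({⟨u, huC⟩} : Set (centralizer ({z} : Set G)))) := by
    refine Nat.card_congr
      { toFun := fun x => ⟨⟨x, mem_centralizer_singleton_iff.2 (mem_centralizer_iff.1 x.2 _ hzU).symm⟩,
          mem_centralizer_singleton_iff.2 (Subtype.ext (mem_centralizer_iff.1 x.2 u huU).symm)⟩
        invFun := fun x => ⟨((x : centralizer ({z} : Set G)) : G), mem_centralizer_iff.2 fun y hy => ?_⟩
        left_inv := fun x => rfl
        right_inv := fun x => rfl }
    have hzc : Commute z ((x : centralizer ({z} : Set G)) : G) :=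
      (mem_centralizer_singleton_iff.1 (x : centralizer ({z} : Set G)).2).symm
    have huc : Commute u ((x : centralizer ({z} : Set G)) : G) :=
      (congrArg Subtype.val (mem_centralizer_singleton_iff.1 x.2)).symm
    rcases hcases y hy with rfl | rfl | rfl | rfl
    · rw [one_mul, mul_one]
    · exact hzc.eq
    · exact huc.eq
    · exact (hzc.mul_left huc).eq
  rw [e1, e2]
  exact Cfsg.Agent.Char.card_conjugates_mul_card_centralizer _

/-- From the formula of Brauer to the index. -/
theorem index_eq {C : Subgroup G} {q N K : ℕ} (hq : 5 ≤ q) {δ : ℤ} (hδ : δ = 1 ∨ δ = -1)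
    (hN : (N : ℤ) = q * (q + δ)) (hNK : N * K = Nat.card C)
    (he : ∃ ε : ℤ, (ε = 1 ∨ ε = -1) ∧ (Nat.card G : ℤ) * (K : ℤ) ^ 2 * ((q : ℤ) - ε) ^ 2 =
      (Nat.card C : ℤ) ^ 3 * ((q : ℤ) ^ 2 - ε * q + 1)) :
    (C.index : ℤ) = (q : ℤ) ^ 2 * ((q : ℤ) ^ 2 + δ * q + 1) := by
  obtain ⟨ε, hε, he⟩ := he
  set J : ℤ := (C.index : ℤ)
  set Q : ℤ := (q : ℤ) with hQ
  have hQ5 : 5 ≤ Q := by rw [hQ]; exact_mod_cast hq
  have hC : (Nat.card C : ℤ) ≠ 0 := by exact_mod_cast Nat.card_pos.ne'
  have hC' : (N : ℤ) * (K : ℤ) = (Nat.card C : ℤ) := by exact_mod_cast hNK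
  have hG : (Nat.card G : ℤ) = (Nat.card C : ℤ) * J := by simp only [J]; exact_mod_cast (card_mul_index C).symm
  have hK : (K : ℤ) ≠ 0 := fun h => hC (by rw [← hC', h, mul_zero])
  have key : J * (Q - ε) ^ 2 = (N : ℤ) ^ 2 * (Q ^ 2 - ε * Q + 1) := by
    refine mul_left_cancel₀ (mul_ne_zero hC (pow_ne_zero 2 hK)) ?_
    rw [hG] at he
    linear_combination he - (Nat.card C : ℤ) * (Q ^ 2 - ε * Q + 1) *
      ((N : ℤ) * K + (Nat.card C : ℤ)) * hC'
  rw [hN] at key
  by_cases hsign : ε = -δ
  · subst hsign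
    refine mul_right_cancel₀ (pow_ne_zero 2 (show Q + δ ≠ 0 by rcases hδ with h | h <;> omega)) ?_
    linear_combination key
  · exfalso
    obtain rfl : ε = δ := by rcases hε with h | h <;> rcases hδ with h' | h' <;> omega
    -- `(Q - δ) ^ 2` would divide four
    have hd : Q - ε ∣ 4 := by
      have h1 : Q - ε ∣ (Q * (Q + ε)) ^ 2 * (Q ^ 2 - ε * Q + 1) := ⟨J * (Q - ε), by rw [← key]; ring⟩
      have h2 : Q - ε ∣ (Q * (Q + ε)) ^ 2 * (Q ^ 2 - ε * Q + 1) - (ε * (ε + ε)) ^ 2 * 1 := by
        refine (Int.modEq_iff_dvd).1 (Int.ModEq.symm ?_)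
        have e : Q ≡ ε [ZMOD Q - ε] := Int.ModEq.symm (Int.modEq_iff_dvd.2 dvd_rfl)
        have := (((e.mul (e.add_right ε)).pow 2).mul (((e.pow 2).sub (e.mul_left ε)).add_right 1))
        rwa [show ε ^ 2 - ε * ε + 1 = 1 by ring] at this
      have h3 := Int.dvd_sub h1 h2
      rcases hε with rfl | rfl <;> simpa using h3
    have hle := Int.le_of_dvd (by norm_num) hd
    rcases hε with rfl | rfl
    · have hQ' : Q = 5 := by omega
      rw [hQ'] at key
      norm_num at key
      omega
    · omega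

section Plus

variable {F : Type} [Field F] [Fintype F]

/-- The involutions of `GL(2, q)` other than `-1` form one class. -/
theorem gl_involution_conj (h2 : (2 : F) ≠ 0) {g : GL (Fin 2) F} (hg : g * g = 1) (hg1 : g ≠ 1)
    (hgz : g ≠ LThreeRec.gt) : IsConj (LThreeRec.dG (1, -1)) g := by
  set M : Matrix (Fin 2) (Fin 2) F := (g : Matrix (Fin 2) (Fin 2) F) with hM
  have h' := congrArg (fun x : GL (Fin 2) F => (x : Matrix (Fin 2) (Fin 2) F)) hg
  have a := congrFun (congrFun h' 0) 0
  have b := congrFun (congrFun h' 0) 1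
  have c := congrFun (congrFun h' 1) 0
  have e := congrFun (congrFun h' 1) 1
  simp [Matrix.mul_apply, Fin.sum_univ_two, ← hM] at a b c e
  have htr : M 1 1 = -M 0 0 := by
    by_contra hne'
    have hne'' : M 0 0 + M 1 1 ≠ 0 := fun h => hne' (by linear_combination h)
    have b0 : M 0 1 = 0 := (mul_eq_zero.1 (show (M 0 0 + M 1 1) * M 0 1 = 0 by linear_combination b)).resolve_left hne''
    have c0 : M 1 0 = 0 := (mul_eq_zero.1 (show (M 0 0 + M 1 1) * M 1 0 = 0 by linear_combination c)).resolve_left hne''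
    have h1 : (M 0 0 - 1) * (M 0 0 + 1) = 0 := by linear_combination a - M 1 0 * b0
    have he : (M 0 0 - M 1 1) * (M 0 0 + M 1 1) = 0 := by linear_combination a - e
    have hee : M 1 1 = M 0 0 := by linear_combination -((mul_eq_zero.1 he).resolve_right hne'')
    rcases mul_eq_zero.1 h1 with h | h
    · refine hg1 (LThreeRec.ext2 ?_ ?_ ?_ ?_) <;> simp [← hM, b0, c0, hee, sub_eq_zero.1 h]
    · refine hgz ?_
      refine LThreeRec.ext2 ?_ ?_ ?_ ?_ <;> simp [← hM, b0, c0, hee, eq_neg_of_add_eq_zero_left h]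
  have key : ∃ P : Matrix (Fin 2) (Fin 2) F, P.det ≠ 0 ∧ M * P = P * !![1, 0; 0, -1] := by
    by_cases hb : M 0 1 = 0
    · have h1 : (M 0 0 - 1) * (M 0 0 + 1) = 0 := by linear_combination a - M 1 0 * hb
      rcases mul_eq_zero.1 h1 with h | h
      · refine ⟨!![2, 0; M 1 0, 1], by simpa [Matrix.det_fin_two_of] using h2, ?_⟩
        ext i j
        fin_cases i <;> fin_cases j <;>
          simp [Matrix.mul_apply, Fin.sum_univ_two, htr, hb, sub_eq_zero.1 h] <;> ring
      · refine ⟨!![0, 2; 1, -M 1 0], by simpa [Matrix.det_fin_two_of] using h2, ?_⟩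
        ext i j
        fin_cases i <;> fin_cases j <;>
          simp [Matrix.mul_apply, Fin.sum_univ_two, htr, hb, eq_neg_of_add_eq_zero_left h] <;> ring
    · refine ⟨!![M 0 1, M 0 1; 1 - M 0 0, -1 - M 0 0], ?_, ?_⟩
      · rw [Matrix.det_fin_two_of, show M 0 1 * (-1 - M 0 0) - M 0 1 * (1 - M 0 0) = -(2 * M 0 1) by ring]
        exact neg_ne_zero.2 (mul_ne_zero h2 hb)
      · ext i j
        fin_cases i <;> fin_cases j <;> simp [Matrix.mul_apply, Fin.sum_univ_two, htr] <;>
          first | linear_combination a | linear_combination -a | ring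
  obtain ⟨P, hP, hMP⟩ := key
  refine isConj_iff.2 ⟨Matrix.GeneralLinearGroup.mkOfDetNeZero P hP, mul_inv_eq_iff_eq_mul.2 (Units.ext ?_)⟩
  show P * ((LThreeRec.dG (1, -1) : GL (Fin 2) F) : Matrix (Fin 2) (Fin 2) F) = M * P
  rw [hMP]
  simp [LThreeRec.dG]

/-- **Sign `+`.** -/
theorem card_plus (h2 : (2 : F) ≠ 0) {z : G} (p : GL (Fin 2) F →* G) (hpz : p LThreeRec.gt = z)
    (hc : p.ker ≤ center (GL (Fin 2) F)) (ho : Odd (Nat.card p.ker))
    (hle : p.range ≤ centralizer ({z} : Set G))
    (hin : ∀ c ∈ centralizer ({z} : Set G), c * c = 1 → c ∈ p.range) :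
    ∃ N : ℕ, N = Fintype.card F * (Fintype.card F + 1) ∧
      ∀ U : Subgroup G, IsKleinFour U → z ∈ U → z ≠ 1 →
        N * Nat.card (centralizer (U : Set G)) = Nat.card (centralizer ({z} : Set G)) := by
  classical
  set q := Fintype.card F with hq
  have hq1 : 1 < q := Fintype.one_lt_card
  set d : GL (Fin 2) F := LThreeRec.dG (1, -1) with hd
  have hne : (-1 : F) ≠ 1 := fun h => h2 (by linear_combination -h)
  have hdd : d * d = 1 := by rw [hd, ← map_mul]; simp [← Prod.one_eq_mk]
  have hd1 : d ≠ 1 := fun h => hne (by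
    have := congrArg (fun g : GL (Fin 2) F => (g : Matrix (Fin 2) (Fin 2) F) 1 1) h
    simpa [hd, LThreeRec.dG] using this)
  have hk1 : ∀ k ∈ p.ker, k * k = 1 → k = 1 := fun k hk h => by
    have h1 : orderOf (⟨k, hk⟩ : p.ker) ∣ 2 := orderOf_dvd_of_pow_eq_one (Subtype.ext (by rw [pow_two]; exact h))
    exact congrArg Subtype.val (orderOf_eq_one_iff.1
      (Nat.eq_one_of_dvd_coprimes (Nat.coprime_two_left.2 ho) h1 (orderOf_dvd_natCard _)))
  have hdz : p d ≠ z := fun h => by
    rw [← hpz] at h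
    have hg : (LThreeRec.gt : GL (Fin 2) F) = LThreeRec.dG (-1, -1) :=
      LThreeRec.ext2 (by simp [LThreeRec.dG]) (by simp [LThreeRec.dG]) (by simp [LThreeRec.dG]) (by simp [LThreeRec.dG])
    rw [hg] at h
    have hk : d * LThreeRec.dG (-1, -1) ∈ p.ker := by
      rw [MonoidHom.mem_ker, map_mul, h, ← map_mul, ← map_mul]
      simp [← Prod.one_eq_mk]
    have := hk1 _ hk (by rw [hd, ← map_mul, ← map_mul]; simp [← Prod.one_eq_mk])
    have h' := congrArg (fun g : GL (Fin 2) F => (g : Matrix (Fin 2) (Fin 2) F) 0 0) this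
    simp [hd, ← map_mul, LThreeRec.dG] at h'
    exact hne h'
  have htrans : ∀ g : GL (Fin 2) F, g * g = 1 → g ≠ 1 → p g ≠ z → IsConj d g := fun g hg hg1 hgz =>
    gl_involution_conj h2 hg hg1 fun h => hgz (by rw [h, hpz])
  obtain ⟨h1, h3⟩ := card_class p hc ho hle hin d hdd hd1 hdz htrans
  refine ⟨_, ?_, h3⟩
  have hcent : Nat.card (centralizer ({d} : Set (GL (Fin 2) F))) = (q - 1) * (q - 1) := by
    have e : centralizer ({d} : Set (GL (Fin 2) F)) = (LThreeRec.dG (F := F)).range := by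
      ext g
      rw [mem_centralizer_singleton_iff]
      constructor
      · intro h
        have h' := congrArg (fun x : GL (Fin 2) F => (x : Matrix (Fin 2) (Fin 2) F)) h
        have a := congrFun (congrFun h' 0) 1
        have b := congrFun (congrFun h' 1) 0
        simp [hd, LThreeRec.dG, Matrix.mul_apply, Fin.sum_univ_two] at a b
        have a0 : (g : Matrix (Fin 2) (Fin 2) F) 0 1 = 0 :=
          (mul_eq_zero.1 (show (2 : F) * (g : Matrix (Fin 2) (Fin 2) F) 0 1 = 0 by linear_combination -a)).resolve_left h2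
        have b0 : (g : Matrix (Fin 2) (Fin 2) F) 1 0 = 0 :=
          (mul_eq_zero.1 (show (2 : F) * (g : Matrix (Fin 2) (Fin 2) F) 1 0 = 0 by linear_combination b)).resolve_left h2
        have hdet : (g : Matrix (Fin 2) (Fin 2) F).det ≠ 0 := (Matrix.GeneralLinearGroup.det g).ne_zero
        rw [Matrix.det_fin_two, a0, zero_mul, sub_zero] at hdet
        refine ⟨(Units.mk0 _ (left_ne_zero_of_mul hdet), Units.mk0 _ (right_ne_zero_of_mul hdet)), ?_⟩
        refine LThreeRec.ext2 ?_ ?_ ?_ ?_ <;> simp [LThreeRec.dG, a0, b0]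
      · rintro ⟨y, rfl⟩
        rw [hd, ← map_mul, ← map_mul, mul_comm]
    have hinj : Function.Injective (LThreeRec.dG (F := F)) := fun x y h => by
      have a := congrArg (fun g : GL (Fin 2) F => (g : Matrix (Fin 2) (Fin 2) F) 0 0) h
      have b := congrArg (fun g : GL (Fin 2) F => (g : Matrix (Fin 2) (Fin 2) F) 1 1) h
      exact Prod.ext (Units.ext (by simpa [LThreeRec.dG] using a)) (Units.ext (by simpa [LThreeRec.dG] using b))
    rw [e, ← Nat.card_congr (MonoidHom.ofInjective hinj).toEquiv, Nat.card_prod, Nat.card_units,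
      Nat.card_eq_fintype_card]
  have hGL : Nat.card (GL (Fin 2) F) = (q ^ 2 - 1) * (q ^ 2 - q) := by
    rw [Matrix.card_GL_field, Fin.prod_univ_two, ← hq]; simp
  rw [hcent, hGL] at h1
  obtain ⟨w, hw⟩ : ∃ w, q = w + 1 := ⟨q - 1, by omega⟩
  rw [hw] at h1 ⊢
  refine Nat.eq_of_mul_eq_mul_right (Nat.mul_pos (show 0 < w by omega) (show 0 < w by omega)) ?_
  rw [Nat.add_sub_cancel] at h1
  rw [h1, show (w + 1) ^ 2 - 1 = w * (w + 2) from Nat.sub_eq_of_eq_add (by ring),
    show (w + 1) ^ 2 - (w + 1) = w * (w + 1) from Nat.sub_eq_of_eq_add (by ring)]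
  ring

end Plus

section Minus

variable {K : Type v} [Field K] [Fintype K] {q : ℕ} (hK : Fintype.card K = q ^ 2)

/-- **Sign `-`.** -/
theorem card_minus (h2 : (2 : K) ≠ 0) {z : G} (p : U2 K q →* G) (hpz : p (negOne hK) = z)
    (hs : ∀ g ∈ p.ker, e01 g = 0 ∧ e10 g = 0 ∧ e00 g = e11 g) (ho : Odd (Nat.card p.ker))
    (hle : p.range ≤ centralizer ({z} : Set G))
    (hin : ∀ c ∈ centralizer ({z} : Set G), c * c = 1 → c ∈ p.range) :
    ∃ N : ℕ, N = q * (q - 1) ∧
      ∀ U : Subgroup G, IsKleinFour U → z ∈ U → z ≠ 1 →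
        N * Nat.card (centralizer (U : Set G)) = Nat.card (centralizer ({z} : Set G)) := by
  classical
  have hc : p.ker ≤ center (U2 K q) := fun g hg => mem_center_iff.2 fun u => by
    obtain ⟨a, b, c⟩ := hs g hg
    apply ext4 <;> simp [a, b, ← c] <;> ring
  set d : U2 K q := wn hK with hd
  obtain ⟨w0, w1, w2, w3⟩ := wn_entries hK (q := q)
  obtain ⟨n0, n1, n2, n3⟩ := negOne_entries hK (q := q)
  have hdd : d * d = 1 := wn_mul_self hK
  have hd1 : d ≠ 1 := fun h => by simpa [hd, w1] using congrArg e01 h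
  have hdz : p d ≠ z := fun h => by
    have hk : d⁻¹ * negOne hK ∈ p.ker := by rw [MonoidHom.mem_ker, map_mul, map_inv, h, hpz, inv_mul_cancel]
    have := (hs _ hk).1
    rw [inv_eq_of_mul_eq_one_right hdd] at this
    simp [hd, w0, w1, n1, n3] at this
  have htrans : ∀ g : U2 K q, g * g = 1 → g ≠ 1 → p g ≠ z → IsConj d g := fun g hg hg1 hgz => by
    obtain ⟨v, hv, he⟩ := exists_involution hK h2 hg hg1 fun h => hgz (by rw [h, hpz])
    exact isConj_iff.2 ⟨_, he.symm⟩
  obtain ⟨h1, h3⟩ := card_class p hc ho hle hin d hdd hd1 hdz htrans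
  refine ⟨_, ?_, h3⟩
  have hcent : Nat.card (centralizer ({d} : Set (U2 K q))) = (q + 1) * (q + 1) := by
    have hmem : ∀ g, g ∈ centralizer ({d} : Set (U2 K q)) ↔ e00 g = e11 g ∧ e01 g = e10 g := fun g => by
      rw [mem_centralizer_singleton_iff]
      constructor
      · intro h
        have a := congrArg e01 h
        have b := congrArg e00 h
        simp [hd, w0, w1, w2, w3] at a b
        exact ⟨by linear_combination a, by linear_combination b⟩
      · rintro ⟨a, b⟩
        apply ext4 <;> simp [hd, w0, w1, w2, w3, a, b]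
    have hnorm : ∀ g ∈ centralizer ({d} : Set (U2 K q)),
        (e00 g + e01 g) ^ (q + 1) = 1 ∧ (e00 g - e01 g) ^ (q + 1) = 1 := fun g hg => by
      obtain ⟨a, b⟩ := (hmem g).1 hg
      obtain ⟨h1, -, h3, -⟩ := eqs hK g
      rw [← b] at h1 h3
      rw [← a] at h3
      rw [pow_succ, pow_succ, add_pow_q hK, sub_pow_q hK]
      exact ⟨by linear_combination h3 + h1, by linear_combination h3 - h1⟩
    let inv : {x : K // x ^ (q + 1) = 1} × {x : K // x ^ (q + 1) = 1} → centralizer ({d} : Set (U2 K q)) :=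
      fun lm => ⟨mk4 hK ((lm.1.1 + lm.2.1) / 2) ((lm.1.1 - lm.2.1) / 2) ((lm.1.1 - lm.2.1) / 2)
        ((lm.1.1 + lm.2.1) / 2)
        (by
          have hl : lm.1.1 * lm.1.1 ^ q = 1 := by rw [← pow_succ']; exact lm.1.2
          have hm : lm.2.1 * lm.2.1 ^ q = 1 := by rw [← pow_succ']; exact lm.2.2
          rw [div_pow, div_pow, add_pow_q hK, sub_pow_q hK, two_pow_q hK]
          field_simp
          linear_combination 2 * hl - 2 * hm)
        (by
          have hl : lm.1.1 * lm.1.1 ^ q = 1 := by rw [← pow_succ']; exact lm.1.2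
          have hm : lm.2.1 * lm.2.1 ^ q = 1 := by rw [← pow_succ']; exact lm.2.2
          rw [div_pow, div_pow, add_pow_q hK, sub_pow_q hK, two_pow_q hK]
          field_simp
          linear_combination 2 * hl - 2 * hm)
        (by
          have hl : lm.1.1 * lm.1.1 ^ q = 1 := by rw [← pow_succ']; exact lm.1.2
          have hm : lm.2.1 * lm.2.1 ^ q = 1 := by rw [← pow_succ']; exact lm.2.2
          rw [div_pow, div_pow, add_pow_q hK, sub_pow_q hK, two_pow_q hK]
          field_simp
          linear_combination 2 * hl + 2 * hm), by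
        rw [hmem]
        obtain ⟨a, b, c, e⟩ : _ ∧ _ ∧ _ ∧ _ := mk4_entries hK _ _ _ _ _ _ _
        exact ⟨a.trans e.symm, b.trans c.symm⟩⟩
    have hbij : Function.Bijective inv := by
      refine ⟨fun x y h => ?_, fun g => ?_⟩
      · have a := congrArg (fun g : centralizer ({d} : Set (U2 K q)) => e00 g.1) h
        have b := congrArg (fun g : centralizer ({d} : Set (U2 K q)) => e01 g.1) h
        simp [inv, mk4_entries hK] at a b
        field_simp at a b
        exact Prod.ext (Subtype.ext (mul_left_cancel₀ h2 (by linear_combination a + b)))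
          (Subtype.ext (mul_left_cancel₀ h2 (by linear_combination a - b)))
      · obtain ⟨hl, hm⟩ := hnorm g g.2
        obtain ⟨a, b⟩ := (hmem g).1 g.2
        refine ⟨(⟨_, hl⟩, ⟨_, hm⟩), Subtype.ext ?_⟩
        apply ext4 <;> simp [inv, mk4_entries hK, ← a, ← b] <;> field_simp <;> ring
    rw [← Nat.card_congr (Equiv.ofBijective inv hbij), Nat.card_prod, card_norm_one hK]
  rw [hcent, card_U2 hK h2] at h1
  have hq := two_le_q hK
  refine Nat.eq_of_mul_eq_mul_right (Nat.mul_pos (Nat.succ_pos q) (Nat.succ_pos q)) (h1.trans ?_)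
  rw [show q ^ 2 - 1 = (q + 1) * (q - 1) by simpa using Nat.sq_sub_sq q 1, Nat.succ_eq_add_one]
  ring

end Minus

end Cfsg.Agent.SDBudget
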