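import Cfsg.Agent.Lib.SDBudget.EndPlus
import Cfsg.Agent.Lib.SDBudget.EndGU

/-!
# The centraliser of `z` as an image of `GU(2, q)` with field automorphisms (endgame, sign `-`)

Same as `EndPlus`, for `|F| = q`, `|K| = q ^ 2`, core of order dividing `q + 1`.
-/

set_option autoImplicit false
set_option linter.unusedSectionVars false
set_option linter.style.haveILetI false

namespace Cfsg.Agent.SDBudget

open Subgroup Cfsg.Agent.PSL2 Cfsg.Agent.U3Recog Cfsg.Agent.Unitary
open Cfsg.Agent.AutPSL (semi semiSL)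

universe u v w

variable {C : Type w} [Group C] [Finite C] {H : Type u} [Group H] [Finite H] {F : Type} [Field F] [Fintype F]
  {N : Subgroup H} [hNn : N.Normal] (e : N ≃* SL2 F) (hodd : Odd (Nat.card F))
  (π : C →* H) (hπ : Function.Surjective π) (hker : Odd (Nat.card π.ker))
  (hcore : ∀ x ∈ π.ker, ∀ y, π y ∈ (fieldPart e hodd).ker → Commute x y) (hcyc : IsCyclic π.ker)
  {S : Sylow 2 H} {z : C} (hA : QGroup.Amb S (π z)) (hz : ∀ y, Commute z y) (hz2 : z * z = 1)
  {n m : ℕ} (hn : 1 ≤ n) {a : C} (hD : DiagElem e hodd S n (π a)) (ha : a ^ 2 ^ n = 1)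
  {K : Type v} [Field K] [Fintype K] {q : ℕ} (hK : Fintype.card K = q ^ 2) (h2 : (2 : K) ≠ 0)
  (ι : F ≃+* fixedField hK) {δ : K} (hδ0 : δ ≠ 0) (hδ : δ ^ q = -δ)

include hA hz hz2 hπ hker hcore hcyc hn hD ha h2

/-- **The image of `GU(2, q)`.** -/
theorem exists_pi_minus (hq : q + 1 = 2 ^ n * m) (hm : Odd m) (hdvd : Nat.card π.ker ∣ m) :
    ∃ p : U2 K q →* C, p.range = (fieldPart e hodd).ker.comap π ∧
      (∀ g ∈ p.ker, e01 g = 0 ∧ e10 g = 0 ∧ e00 g = e11 g) ∧ Odd (Nat.card p.ker) ∧ p (negOne hK) = z ∧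
      ∀ c : C, ∃ g : GL (Fin (0 + 2)) F, ∀ x : SL2 F,
        c * p (slK hK ι hδ0 hδ x) * c⁻¹ = p (slK hK ι hδ0 hδ (semiSL g (fieldPart e hodd (π c)) x)) := by
  have hqF : Nat.card F = q := (Nat.card_congr ι.toEquiv).trans (card_fixedField hK)
  have hdq : Nat.card π.ker ∣ q + 1 := hq ▸ hdvd.trans (dvd_mul_left m _)
  obtain ⟨T, hTc, -, hTπ, hTn⟩ := exists_shape e hodd π hπ hker (Or.inr (by rw [hqF]; exact hdq))
    (fun x hx o ho => (hcore o ho x (le_ker e hodd hx)).symm) hA hD ha hcyc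
    fun o ho => (hcore o ho a hD.diag).symm
  obtain ⟨f, hfs, hfk, hfo, k, hf⟩ := exists_piGU hK h2 ι hδ0 hδ hodd hn hq hm T (by rw [hTc]; exact hdq)
  set p : U2 K q →* C := ((fieldPart e hodd).ker.comap π).subtype.comp f with hp
  have hker' : p.ker = f.ker := by
    ext g
    rw [hp, MonoidHom.mem_ker, MonoidHom.mem_ker, MonoidHom.comp_apply, Subgroup.coe_subtype, OneMemClass.coe_eq_one]
  have hpv : ∀ x, p (slK hK ι hδ0 hδ x) = ((T.e.symm (semiSL k (RingEquiv.refl F) x) :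
      ((fieldPart e hodd).ker.comap π : Subgroup C)) : C) := fun x =>
    congrArg ((fieldPart e hodd).ker.comap π).subtype (hf x)
  refine ⟨p, ?_, hker' ▸ hfk, hker' ▸ hfo, ?_, fun c => ?_⟩
  · rw [hp, MonoidHom.range_comp, MonoidHom.range_eq_top.2 hfs, ← MonoidHom.range_eq_map, range_subtype]
  · have h1 : slK hK ι hδ0 hδ (-1) = negOne hK := by
      obtain ⟨a0, b0, c0, d0⟩ := slK_entries hK ι hδ0 hδ (-1)
      obtain ⟨n0, n1, n2, n3⟩ := negOne_entries hK (q := q)
      apply ext4 <;> simp [a0, b0, c0, d0, n0, n1, n2, n3]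
    have h3 : semiSL k (RingEquiv.refl F) (-1 : SL2 F) = (-1 : SL2 F) := by
      refine Subtype.ext ?_
      rw [AutPSL.semiSL_coe, RingEquiv.coe_refl, Matrix.map_id]
      show _ * (-1 : Matrix (Fin 2) (Fin 2) F) * _ = (-1 : Matrix (Fin 2) (Fin 2) F)
      rw [mul_neg_one, neg_mul, ← Units.val_mul, mul_inv_cancel, Units.val_one]
    rw [← h1]
    refine eq_z_of_map π hA hz hz2 ?_ ?_ hker
    · rw [← map_mul, ← map_mul, neg_mul_neg, one_mul, map_one, map_one]
    · rw [hpv, h3, hTπ]; exact symm_neg_one e hodd π hA hz2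
  · obtain ⟨g, σ, hgσ, hq'⟩ := QGroup.exists_semiSL hodd (QGroup.rhoSL e (π c))
    have hσ : fieldPart e hodd (π c) = σ := fieldAt_eq e hodd hq'
    refine ⟨k⁻¹ * (g * Matrix.GeneralLinearGroup.map (σ : F →+* F) k), fun x => ?_⟩
    rw [hσ, hpv, hpv]
    have e1 : semiSL k (RingEquiv.refl F) (semiSL (k⁻¹ * (g * Matrix.GeneralLinearGroup.map (σ : F →+* F) k)) σ x) =
        semiSL g σ (semiSL k (RingEquiv.refl F) x) := by
      rw [AutPSL.semiSL_mul, AutPSL.semiSL_mul]
      rw [show σ.trans (RingEquiv.refl F) = σ from RingEquiv.ext fun _ => rfl,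
        show (RingEquiv.refl F).trans σ = σ from RingEquiv.ext fun _ => rfl]
      rw [show (Matrix.GeneralLinearGroup.map ((RingEquiv.refl F : F ≃+* F) : F →+* F))
        (k⁻¹ * (g * Matrix.GeneralLinearGroup.map (σ : F →+* F) k)) =
          k⁻¹ * (g * Matrix.GeneralLinearGroup.map (σ : F →+* F) k) from Units.ext (Matrix.map_id _)]
      rw [mul_inv_cancel_left]
    rw [e1]
    set y := semiSL k (RingEquiv.refl F) x
    set L := T.N.map ((fieldPart e hodd).ker.comap π).subtype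
    have hl : ∀ y, ((T.e.symm y : ((fieldPart e hodd).ker.comap π : Subgroup C)) : C) ∈ L :=
      fun y => mem_map_of_mem _ (T.e.symm y).2
    obtain ⟨w, hw, hwe⟩ := hTn.conj_mem _ (hl y) c
    rw [← hwe]
    show (w : C) = _
    have key : π (w : C) = (e.symm (semiSL g σ y) : H) := by
      rw [show (w : C) = c * ((T.e.symm y : ((fieldPart e hodd).ker.comap π : Subgroup C)) : C) * c⁻¹ from hwe,
        map_mul, map_mul, map_inv, hTπ, ← hgσ]
      obtain ⟨y', hy'⟩ := e.surjective y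
      rw [← hy', QGroup.rhoSL_apply, e.symm_apply_apply, e.symm_apply_apply, MulAut.conjNormal_apply]
    have h4 : T.e ⟨w, hw⟩ = semiSL g σ y := by
      refine e.symm.injective (Subtype.ext ?_)
      rw [← hTπ, T.e.symm_apply_apply, key]
    rw [← h4, T.e.symm_apply_apply]

end Cfsg.Agent.SDBudget
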