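import Cfsg.Agent.Lib.SDBudget.EndConj
import Cfsg.Agent.Lib.QGroup.Structure
import Mathlib.GroupTheory.SemidirectProduct

/-!
# The shape `(SL(2, q) ⋊ ⟨a⟩) × Σ` (endgame of the SD / wreathed keystone)

`Shape M F n`: a normal `SL(2, q)`, an element `a` of order `2 ^ n` acting as a diagonal automorphism of
this order, outer when `n = 1`, and a central cyclic `Σ` of odd order, of the product order.

`Shape.exists_hom`: a group of such shape maps onto any other one whose `Σ` has dividing order, with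
kernel inside `Σ`.
-/

set_option autoImplicit false
set_option linter.unusedSectionVars false

namespace Cfsg.Agent.SDBudget

open Subgroup Cfsg.Agent.PSL2
open Cfsg.Agent.AutPSL (semi semiSL semi_eq_semi semi_eq_one_iff)
open Cfsg.Agent.SylowCyclicSuzuki (autQ)

universe u v

variable {F : Type} [Field F] [Finite F]

/-- Semilinear automorphisms of `SL₂` agree if they agree on `PSL₂`. -/
theorem semiSL_congr (hodd : Odd (Nat.card F)) {g h : GL (Fin (0 + 2)) F} {σ τ : F ≃+* F}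
    (hst : semi g σ = semi h τ) : (semiSL g σ : MulAut (SL2 F)) = semiSL h τ :=
  QGroup.autQ_injective hodd (by rw [QGroup.autQ_semiSL, QGroup.autQ_semiSL, hst])

theorem semiSL_refl_one : (semiSL (1 : GL (Fin (0 + 2)) F) (RingEquiv.refl F) : MulAut (SL2 F)) = 1 :=
  MulEquiv.ext fun _ => QGroup.semiSL_one_fix fun _ _ => rfl

theorem semiSL_refl_mul (g h : GL (Fin (0 + 2)) F) (x : SL2 F) :
    semiSL g (RingEquiv.refl F) (semiSL h (RingEquiv.refl F) x) = semiSL (g * h) (RingEquiv.refl F) x := by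
  rw [AutPSL.semiSL_mul]
  rfl

/-- A cyclic group maps onto one of dividing order. -/
theorem exists_surjective_of_dvd {A B : Type*} [Group A] [Group B] [Finite A] [Finite B] [IsCyclic A] [IsCyclic B]
    (h : Nat.card B ∣ Nat.card A) : ∃ f : A →* B, Function.Surjective f := by
  obtain ⟨a, ha⟩ := IsCyclic.exists_generator (α := A)
  obtain ⟨b, hb⟩ := IsCyclic.exists_generator (α := B)
  have hord : orderOf b ∣ orderOf a := by
    rwa [orderOf_eq_card_of_forall_mem_zpowers ha, orderOf_eq_card_of_forall_mem_zpowers hb]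
  refine ⟨monoidHomOfForallMemZpowers ha hord, fun y => ?_⟩
  obtain ⟨k, rfl⟩ := hb y
  exact ⟨a ^ k, by rw [map_zpow, monoidHomOfForallMemZpowers_apply_gen]⟩

/-- The shape of `C(z)` without field automorphisms, and of `GL₂ / Z`, `GU₂ / Z`. -/
structure Shape (M : Type u) [Group M] (F : Type) [Field F] (n : ℕ) where
  N : Subgroup M
  normal : N.Normal
  e : N ≃* SL2 F
  a : M
  pow_eq : a ^ 2 ^ n = 1
  Sig : Subgroup M
  sig_le : Sig ≤ center M
  sig_odd : Odd (Nat.card Sig)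
  sig_cyclic : IsCyclic Sig
  card_eq : Nat.card M = Nat.card (SL2 F) * 2 ^ n * Nat.card Sig
  g : GL (Fin (0 + 2)) F
  act : ∀ x : N, e ⟨a * x * a⁻¹, normal.conj_mem _ x.2 a⟩ = semiSL g (RingEquiv.refl F) (e x)
  faithful : ∀ k : ℕ, (∀ x ∈ N, Commute (a ^ k) x) → 2 ^ n ∣ k
  outer : n = 1 → ∀ y ∈ N, ¬ ∀ x ∈ N, Commute (y * a) x

namespace Shape

variable {M : Type u} [Group M] [Finite M] {n : ℕ} (S : Shape M F n) (hodd : Odd (Nat.card F))

theorem act_pow (k : ℕ) (x : S.N) :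
    S.e ⟨S.a ^ k * x * (S.a ^ k)⁻¹, S.normal.conj_mem _ x.2 _⟩ = semiSL (S.g ^ k) (RingEquiv.refl F) (S.e x) := by
  induction k generalizing x with
  | zero =>
    rw [pow_zero S.g, semiSL_refl_one]
    show S.e _ = S.e x
    congr 1
    exact Subtype.ext (by simp)
  | succ k ih =>
    rw [pow_succ S.g, ← semiSL_refl_mul, ← S.act x, ← ih]
    congr 1
    exact Subtype.ext (by simp [pow_succ, mul_assoc])

theorem commute_iff (k : ℕ) :
    (∀ x ∈ S.N, Commute (S.a ^ k) x) ↔ (semiSL (S.g ^ k) (RingEquiv.refl F) : MulAut (SL2 F)) = 1 := by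
  constructor
  · intro h
    refine MulEquiv.ext fun y => ?_
    obtain ⟨x, rfl⟩ := S.e.surjective y
    rw [← S.act_pow k x]
    show S.e _ = S.e x
    congr 1
    exact Subtype.ext (mul_inv_eq_iff_eq_mul.2 (h x x.2).eq)
  · intro h x hx
    have h1 := S.act_pow k ⟨x, hx⟩
    rw [h] at h1
    exact mul_inv_eq_iff_eq_mul.1 (congrArg Subtype.val (S.e.injective h1))

include hodd

theorem pow_mem_center_iff (k : ℕ) : S.g ^ k ∈ center (GL (Fin (0 + 2)) F) ↔ 2 ^ n ∣ k := by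
  have h : S.g ^ k ∈ center (GL (Fin (0 + 2)) F) ↔
      (semiSL (S.g ^ k) (RingEquiv.refl F) : MulAut (SL2 F)) = 1 := by
    constructor
    · intro hc
      rw [← semiSL_refl_one]
      refine semiSL_congr hodd (semi_eq_semi.2 ⟨rfl, ?_⟩)
      rw [mul_one]; exact inv_mem hc
    · intro h1
      have := congrArg autQ h1
      rw [map_one, QGroup.autQ_semiSL, semi_eq_one_iff] at this
      exact this.2
  rw [h, ← S.commute_iff]
  exact ⟨S.faithful k, fun ⟨l, hl⟩ x _ => by rw [hl, pow_mul, S.pow_eq, one_pow]; exact Commute.one_left x⟩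

theorem orderOf_a : orderOf S.a = 2 ^ n :=
  Nat.dvd_antisymm (orderOf_dvd_of_pow_eq_one S.pow_eq) (S.faithful _ fun x _ => by
    rw [pow_orderOf_eq_one]; exact Commute.one_left x)

theorem not_square (h1 : n = 1) : ¬ IsSquare (S.g : Matrix (Fin (0 + 2)) (Fin (0 + 2)) F).det := by
  intro hsq
  obtain ⟨y, hy⟩ := (QGroup.mem_range_conj_iff S.g).2 hsq
  obtain ⟨s, rfl⟩ := QuotientGroup.mk_surjective y
  have he : (semiSL S.g (RingEquiv.refl F) : MulAut (SL2 F)) = MulAut.conj s :=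
    QGroup.autQ_injective hodd (by rw [QGroup.autQ_semiSL, hy, SylowCyclicSuzuki.autQ_conj])
  refine S.outer h1 _ (inv_mem (S.e.symm s).2) fun x hx => ?_
  have h2 := S.act ⟨x, hx⟩
  rw [he, MulAut.conj_apply] at h2
  have h3 := congrArg S.e.symm h2
  simp only [map_mul, map_inv, MulEquiv.symm_apply_apply] at h3
  have h4 : S.a * x * S.a⁻¹ = (S.e.symm s : M) * x * (S.e.symm s : M)⁻¹ := congrArg Subtype.val h3
  show _ = _
  calc ((S.e.symm s : M))⁻¹ * S.a * x = (S.e.symm s : M)⁻¹ * (S.a * x * S.a⁻¹) * S.a := by group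
    _ = x * ((S.e.symm s : M)⁻¹ * S.a) := by rw [h4]; group

theorem eq_one_of_pow_mem {k : ℕ} (hk : S.a ^ k ∈ S.N) : S.a ^ k = 1 := by
  by_contra hne
  haveI := Fact.mk Nat.prime_two
  obtain ⟨i, -, hi⟩ := (Nat.dvd_prime_pow Nat.prime_two).1
    ((orderOf_pow_dvd k).trans (S.orderOf_a hodd).dvd)
  obtain ⟨i, rfl⟩ : ∃ j, i = j + 1 := Nat.exists_eq_succ_of_ne_zero fun h0 => hne
    (orderOf_eq_one_iff.1 (by rw [hi, h0, pow_zero]))
  have ho : orderOf (S.a ^ (k * 2 ^ i)) = 2 := by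
    rw [pow_mul, orderOf_pow_of_dvd (pow_ne_zero _ two_ne_zero) (hi ▸ ⟨2, pow_succ 2 i⟩), hi, pow_succ,
      Nat.mul_div_cancel_left _ (by positivity)]
  have hmem : S.a ^ (k * 2 ^ i) ∈ S.N := by rw [pow_mul]; exact S.N.pow_mem hk _
  have hneg : S.e ⟨_, hmem⟩ = -1 := by
    have h2 : (2 : F) ≠ 0 := two_ne_zero_iff_odd.2 hodd
    refine (GLOrder.SL2_eq_one_or_neg_one_of_sq h2 ?_).resolve_left fun h1 => ?_
    · rw [← map_mul, ← map_one S.e]
      refine congrArg S.e (Subtype.ext ?_)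
      show S.a ^ (k * 2 ^ i) * S.a ^ (k * 2 ^ i) = 1
      rw [← pow_two]; exact orderOf_dvd_iff_pow_eq_one.1 ho.dvd
    · rw [← map_one S.e] at h1
      have h3 : S.a ^ (k * 2 ^ i) = 1 := congrArg Subtype.val (S.e.injective h1)
      rw [h3, orderOf_one] at ho
      omega
  have hd := S.faithful (k * 2 ^ i) fun x hx => by
    have h1 : S.e ⟨_, hmem⟩ * S.e ⟨x, hx⟩ = S.e ⟨x, hx⟩ * S.e ⟨_, hmem⟩ := by
      rw [hneg, neg_one_mul, mul_neg_one]
    rw [← map_mul, ← map_mul] at h1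
    exact congrArg Subtype.val (S.e.injective h1)
  obtain ⟨l, hl⟩ := hd
  rw [hl, pow_mul, S.pow_eq, one_pow, orderOf_one] at ho
  omega

theorem sig_inf {s : M} (hs : s ∈ S.Sig) (hN : s ∈ S.N) : s = 1 := by
  have h2 : (2 : F) ≠ 0 := two_ne_zero_iff_odd.2 hodd
  have hc : S.e ⟨s, hN⟩ ∈ center (SL2 F) := mem_center_iff.2 fun y => by
    obtain ⟨x, rfl⟩ := S.e.surjective y
    rw [← map_mul, ← map_mul]
    exact congrArg S.e (Subtype.ext (mem_center_iff.1 (S.sig_le hs) (x : M)))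
  have h1 : S.e ⟨s, hN⟩ * S.e ⟨s, hN⟩ = 1 := by
    obtain ⟨r, hr, hre⟩ := Matrix.SpecialLinearGroup.mem_center_iff.1 hc
    refine Subtype.ext ?_
    rw [Matrix.SpecialLinearGroup.coe_mul, ← hre, ← map_mul, ← pow_two]
    rw [Fintype.card_fin] at hr
    rw [hr]
    simp
  rw [← map_mul, ← map_one S.e] at h1
  have h3 : s * s = 1 := congrArg Subtype.val (S.e.injective h1)
  obtain ⟨m, hm⟩ := S.sig_odd
  have h4 : s ^ (2 * m + 1) = 1 := by rw [← hm]; exact congrArg Subtype.val (pow_card_eq_one' (x := (⟨s, hs⟩ : S.Sig)))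
  rwa [pow_succ, pow_mul, pow_two, h3, one_pow, one_mul] at h4

theorem eq_one_of_mul {x : M} (hx : x ∈ S.N) {k : ℕ} {s : M} (hs : s ∈ S.Sig) (h : x * S.a ^ k * s = 1) :
    x = 1 ∧ S.a ^ k = 1 ∧ s = 1 := by
  obtain ⟨m, hm⟩ := S.sig_odd
  have hs1 : s ^ Nat.card S.Sig = 1 := congrArg Subtype.val (pow_card_eq_one' (x := (⟨s, hs⟩ : S.Sig)))
  have hks : S.a ^ k * s ∈ S.N := by
    have : S.a ^ k * s = x⁻¹ := eq_inv_of_mul_eq_one_right (by rw [← mul_assoc]; exact h)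
    rw [this]; exact inv_mem hx
  have hpow := S.N.pow_mem hks (Nat.card S.Sig)
  have hc : Commute (S.a ^ k) s := mem_center_iff.1 (S.sig_le hs) _
  rw [hc.mul_pow, hs1, mul_one, ← pow_mul] at hpow
  have h1 := S.eq_one_of_pow_mem hodd hpow
  have hk : S.a ^ k = 1 := by
    rw [← orderOf_dvd_iff_pow_eq_one, S.orderOf_a hodd] at h1 ⊢
    exact Nat.Coprime.dvd_of_dvd_mul_right (Nat.Coprime.pow_left _ (Nat.coprime_two_left.2 S.sig_odd)) h1
  rw [hk, one_mul] at hks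
  have hs0 := S.sig_inf hodd hs hks
  rw [hk, hs0, mul_one, mul_one] at h
  exact ⟨h, hk, hs0⟩

theorem exists_decomp (m : M) : ∃ x ∈ S.N, ∃ k : ℕ, ∃ s ∈ S.Sig, m = x * S.a ^ k * s := by
  haveI := S.normal
  let j : S.N × Fin (2 ^ n) × S.Sig → M := fun p => (p.1 : M) * S.a ^ (p.2.1 : ℕ) * (p.2.2 : M)
  have hj : Function.Injective j := by
    rintro ⟨x, k, s⟩ ⟨x', k', s'⟩ h
    simp only [j] at h
    -- compare
    wlog hle : (k : ℕ) ≤ k' generalizing x k s x' k' s'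
    · exact (this x' k' s' x k s h.symm (by omega)).symm
    obtain ⟨l, hl⟩ := Nat.exists_eq_add_of_le hle
    have hcs : ∀ y : M, y * (s : M)⁻¹ = (s : M)⁻¹ * y := fun y => mem_center_iff.1 (S.sig_le (inv_mem s.2)) y
    have hmem : S.a ^ (k : ℕ) * ((x : M)⁻¹ * x') * (S.a ^ (k : ℕ))⁻¹ ∈ S.N :=
      S.normal.conj_mem _ (mul_mem (inv_mem x.2) x'.2) _
    have h1 : (S.a ^ (k : ℕ))⁻¹ * ((x : M)⁻¹ * x') * S.a ^ (k : ℕ) * S.a ^ l * ((s' : M) * (s : M)⁻¹) = 1 := by
      rw [hl, pow_add] at h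
      calc _ = (S.a ^ (k : ℕ))⁻¹ * (x : M)⁻¹ * ((x' : M) * (S.a ^ (k : ℕ) * S.a ^ l) * s') * (s : M)⁻¹ := by group
        _ = 1 := by rw [← h]; group
    obtain ⟨e1, e2, e3⟩ := S.eq_one_of_mul hodd
      (by simpa using S.normal.conj_mem _ (mul_mem (inv_mem x.2) x'.2) (S.a ^ (k : ℕ))⁻¹)
      (mul_mem s'.2 (inv_mem s.2)) h1
    have hx : x = x' := by
      refine Subtype.ext (inv_mul_eq_one.1 ?_)
      have := congrArg (fun y => S.a ^ (k : ℕ) * y * (S.a ^ (k : ℕ))⁻¹) e1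
      simpa [mul_assoc] using this
    have hk : k = k' := by
      rw [← orderOf_dvd_iff_pow_eq_one, S.orderOf_a hodd] at e2
      have := Nat.eq_zero_of_dvd_of_lt e2 (by have := k'.2; omega)
      exact Fin.ext (by omega)
    exact Prod.ext hx (Prod.ext hk (Subtype.ext (mul_inv_eq_one.1 e3).symm))
  have hcard : Nat.card (S.N × Fin (2 ^ n) × S.Sig) = Nat.card M := by
    rw [Nat.card_prod, Nat.card_prod, Nat.card_fin, Nat.card_congr S.e.toEquiv, S.card_eq, mul_assoc]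
  obtain ⟨⟨x, k, s⟩, rfl⟩ := ((Nat.bijective_iff_injective_and_card j).2 ⟨hj, hcard⟩).2 m
  exact ⟨x, x.2, k, s, s.2, rfl⟩

variable {M' : Type v} [Group M'] [Finite M'] (S' : Shape M' F n)

/-- **Groups of the same shape map onto one another.** -/
theorem exists_hom (hn : 1 ≤ n) (hdvd : Nat.card S'.Sig ∣ Nat.card S.Sig) :
    ∃ (f : M →* M') (k : GL (Fin (0 + 2)) F), Function.Surjective f ∧ f.ker ≤ S.Sig ∧
      ∀ x : SL2 F, f (S.e.symm x) = S'.e.symm (semiSL k (RingEquiv.refl F) x) := by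
  have h2 : (2 : F) ≠ 0 := two_ne_zero_iff_odd.2 hodd
  haveI := S.normal
  haveI := S'.normal
  haveI := Fintype.ofFinite F
  haveI := S.sig_cyclic
  haveI := S'.sig_cyclic
  obtain ⟨j, hj, k, hk⟩ := exists_conj_pow h2 hn (g := S.g) (g' := S'.g) (S.pow_mem_center_iff hodd)
    (S'.pow_mem_center_iff hodd) (S.not_square hodd) (S'.not_square hodd)
  have hθ : ∀ x : SL2 F, semiSL k (RingEquiv.refl F) (semiSL S.g (RingEquiv.refl F) x) =
      semiSL (S'.g ^ j) (RingEquiv.refl F) (semiSL k (RingEquiv.refl F) x) := by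
    intro x
    rw [semiSL_refl_mul, semiSL_refl_mul]
    refine DFunLike.congr_fun (semiSL_congr hodd (semi_eq_semi.2 ⟨rfl, ?_⟩)) x
    rw [show (k * S.g)⁻¹ * (S'.g ^ j * k) = k⁻¹ * ((S'.g ^ j)⁻¹ * (k * S.g * k⁻¹))⁻¹ * k⁻¹⁻¹ by group]
    exact Subgroup.Normal.conj_mem inferInstance _ (inv_mem hk) _
  obtain ⟨fs, hfs⟩ := exists_surjective_of_dvd (A := S.Sig) (B := S'.Sig) hdvd
  set gen : zpowers S.a := ⟨S.a, mem_zpowers _⟩
  have hgen : ∀ y : zpowers S.a, y ∈ zpowers gen := fun ⟨y, hy⟩ => by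
    obtain ⟨i, rfl⟩ := hy
    exact ⟨i, Subtype.ext (by simp [gen])⟩
  have hgo : orderOf gen = 2 ^ n := by
    rw [← orderOf_injective _ (zpowers S.a).subtype_injective]; exact S.orderOf_a hodd
  have hord : orderOf (S'.a ^ j) ∣ orderOf gen := by
    rw [hgo]; exact (orderOf_pow_dvd j).trans (S'.orderOf_a hodd).dvd
  set fg := monoidHomOfForallMemZpowers hgen hord with hfg
  let fn : SL2 F →* M' := (S'.N.subtype.comp S'.e.symm.toMonoidHom).comp
    (semiSL k (RingEquiv.refl F) : SL2 F ≃* SL2 F).toMonoidHom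
  let φ : zpowers S.a →* MulAut (SL2 F) := (QGroup.rhoSL S.e).comp (zpowers S.a).subtype
  have hgenφ : ∀ x, φ gen x = semiSL S.g (RingEquiv.refl F) x := fun x => by
    obtain ⟨y, rfl⟩ := S.e.surjective x
    show QGroup.rhoSL S.e S.a (S.e y) = _
    rw [QGroup.rhoSL_apply, ← S.act y]
    congr 1
  have hcomp : ∀ (y : zpowers S.a) (x : SL2 F), fn (φ y x) = fg y * fn x * (fg y)⁻¹ := by
    intro y
    obtain ⟨i, rfl⟩ := mem_powers_iff_mem_zpowers.2 (hgen y)
    induction i with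
    | zero => intro x; simp
    | succ i ih =>
      intro x
      have hbase : ∀ x, fn (φ gen x) = fg gen * fn x * (fg gen)⁻¹ := fun x => by
        rw [hfg, monoidHomOfForallMemZpowers_apply_gen, hgenφ]
        show ((S'.e.symm (semiSL k (RingEquiv.refl F) (semiSL S.g (RingEquiv.refl F) x)) : S'.N) : M') = _
        rw [hθ]
        set w := semiSL k (RingEquiv.refl F) x
        have := S'.act_pow j (S'.e.symm w)
        rw [S'.e.apply_symm_apply] at this
        rw [← this, S'.e.symm_apply_apply]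
        rfl
      simp only [pow_succ, map_mul, MulAut.mul_apply]
      simp only [] at ih
      rw [ih, hbase]
      group
  have hcompM : ∀ (y : zpowers S.a) (x : SL2 F),
      (S.e.symm (φ y x) : M) = (y : M) * (S.e.symm x : M) * (y : M)⁻¹ := fun y x => by
    obtain ⟨w, rfl⟩ := S.e.surjective x
    show (S.e.symm (QGroup.rhoSL S.e (y : M) (S.e w)) : M) = _
    rw [QGroup.rhoSL_apply, S.e.symm_apply_apply, S.e.symm_apply_apply, MulAut.conjNormal_apply]
  let L : SL2 F ⋊[φ] zpowers S.a →* M' := SemidirectProduct.lift fn fg fun y => MonoidHom.ext fun x => hcomp y x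
  let L0 : SL2 F ⋊[φ] zpowers S.a →* M := SemidirectProduct.lift (S.N.subtype.comp S.e.symm.toMonoidHom)
    (zpowers S.a).subtype fun y => MonoidHom.ext fun x => hcompM y x
  let P : (SL2 F ⋊[φ] zpowers S.a) × S.Sig →* M' := L.noncommCoprod (S'.Sig.subtype.comp fs)
    fun p s => mem_center_iff.1 (S'.sig_le (fs s).2) _
  let P0 : (SL2 F ⋊[φ] zpowers S.a) × S.Sig →* M := L0.noncommCoprod S.Sig.subtype
    fun p s => mem_center_iff.1 (S.sig_le s.2) _
  have hP0v : ∀ p, P0 p = (S.e.symm p.1.left : M) * (p.1.right : M) * (p.2 : M) := fun p => rfl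
  have hPv : ∀ p, P p = fn p.1.left * fg p.1.right * (fs p.2 : M') := fun p => rfl
  have hP0 : Function.Bijective P0 := by
    refine ⟨(injective_iff_map_eq_one P0).2 fun ⟨⟨x, y⟩, s⟩ h => ?_, fun m => ?_⟩
    · obtain ⟨i, hi⟩ := mem_powers_iff_mem_zpowers.2 y.2
      rw [hP0v] at h
      simp only [← hi] at h
      obtain ⟨e1, e2, e3⟩ := S.eq_one_of_mul hodd (S.e.symm x).2 s.2 h
      refine Prod.ext (SemidirectProduct.ext ?_ (Subtype.ext (hi.symm.trans e2))) (Subtype.ext e3)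
      exact S.e.symm.injective (Subtype.ext (e1.trans (by simp)))
    · obtain ⟨x, hx, i, s, hs, rfl⟩ := S.exists_decomp hodd m
      exact ⟨⟨⟨S.e ⟨x, hx⟩, ⟨S.a ^ i, pow_mem (mem_zpowers _) i⟩⟩, ⟨s, hs⟩⟩, by
        rw [hP0v]; simp⟩
  let E := MulEquiv.ofBijective P0 hP0
  refine ⟨P.comp E.symm.toMonoidHom, k, ?_, ?_, fun x => ?_⟩
  · intro m
    obtain ⟨x, hx, i, s, hs, rfl⟩ := S'.exists_decomp hodd m
    obtain ⟨i', hi'⟩ := exists_pow_eq_self_of_coprime (x := S'.a) (n := j)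
      (by rw [S'.orderOf_a hodd]; exact Nat.Coprime.pow_right _ (Nat.coprime_two_right.2 hj))
    obtain ⟨s0, hs0⟩ := hfs ⟨s, hs⟩
    set p : (SL2 F ⋊[φ] zpowers S.a) × S.Sig :=
      ⟨⟨(semiSL k (RingEquiv.refl F) : SL2 F ≃* SL2 F).symm (S'.e ⟨x, hx⟩), gen ^ (i' * i)⟩, s0⟩
    refine ⟨E p, ?_⟩
    show P (E.symm (E p)) = _
    rw [E.symm_apply_apply, hPv]
    simp only [p, fn, MonoidHom.comp_apply, MulEquiv.coe_toMonoidHom, MulEquiv.apply_symm_apply,
      MulEquiv.symm_apply_apply, Subgroup.coe_subtype, hs0]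
    rw [map_pow, hfg, monoidHomOfForallMemZpowers_apply_gen, pow_mul, hi']
  · intro m hm
    obtain ⟨⟨⟨x, y⟩, s⟩, rfl⟩ := hP0.2 m
    have h1 : P ⟨⟨x, y⟩, s⟩ = 1 := by
      have : E.symm (P0 ⟨⟨x, y⟩, s⟩) = ⟨⟨x, y⟩, s⟩ := E.symm_apply_apply _
      rw [MonoidHom.mem_ker, MonoidHom.comp_apply, MulEquiv.coe_toMonoidHom, this] at hm
      exact hm
    obtain ⟨i, rfl⟩ := mem_powers_iff_mem_zpowers.2 (hgen y)
    rw [hPv] at h1
    simp only [map_pow] at h1
    rw [hfg, monoidHomOfForallMemZpowers_apply_gen, ← pow_mul] at h1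
    obtain ⟨e1, e2, -⟩ := S'.eq_one_of_mul hodd (S'.e.symm _).2 (fs s).2 h1
    have hx1 : x = 1 := (semiSL k (RingEquiv.refl F) : SL2 F ≃* SL2 F).injective
      (S'.e.symm.injective (Subtype.ext (e1.trans (by simp))))
    have hy1 : S.a ^ i = 1 := by
      rw [← orderOf_dvd_iff_pow_eq_one, S'.orderOf_a hodd] at e2
      rw [← orderOf_dvd_iff_pow_eq_one, S.orderOf_a hodd]
      exact Nat.Coprime.dvd_of_dvd_mul_left (Nat.Coprime.pow_left _ (Nat.coprime_two_left.2 hj)) e2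
    rw [hP0v, hx1, map_one]
    simp [gen, hy1]
  · have h1 : P0 ⟨SemidirectProduct.inl x, 1⟩ = S.e.symm x := by rw [hP0v]; simp
    show P (E.symm (S.e.symm x : M)) = _
    rw [← h1, show E.symm (P0 ⟨SemidirectProduct.inl x, 1⟩) = ⟨SemidirectProduct.inl x, 1⟩ from
      E.symm_apply_apply _, hPv]
    simp [fn]

end Shape

end Cfsg.Agent.SDBudget
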