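import Cfsg.Agent.Lib.SDBudget.EndCentC
import Cfsg.Agent.Lib.SDBudget.EndGL

/-!
# The centraliser of `z` as an image of `GL(2, q)` with field automorphisms (endgame, sign `+`)

`C` is the centraliser, `π : C → C / O(C)`; the core is central in the diagonal part, cyclic, of order
dividing `q - 1`.  Then `GL(2, q)` maps onto the diagonal part with odd central kernel, `-1 ↦ z`, and
every element of `C` acts on the image of `SL(2, q)` semilinearly, with its field part.
-/

set_option autoImplicit false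
set_option linter.unusedSectionVars false
set_option linter.style.haveILetI false

namespace Cfsg.Agent.SDBudget

open Subgroup Cfsg.Agent.PSL2
open Cfsg.Agent.AutPSL (semi semiSL)

universe u w

variable {C : Type w} [Group C] [Finite C] {H : Type u} [Group H] [Finite H] {F : Type} [Field F] [Fintype F]
  {N : Subgroup H} [hNn : N.Normal] (e : N ≃* SL2 F) (hodd : Odd (Nat.card F))
  (π : C →* H) (hπ : Function.Surjective π) (hker : Odd (Nat.card π.ker))
  (hcore : ∀ x ∈ π.ker, ∀ y, π y ∈ (fieldPart e hodd).ker → Commute x y) (hcyc : IsCyclic π.ker)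
  {S : Sylow 2 H} {z : C} (hA : QGroup.Amb S (π z)) (hz : ∀ y, Commute z y) (hz2 : z * z = 1)
  {n m : ℕ} (hn : 1 ≤ n) {a : C} (hD : DiagElem e hodd S n (π a)) (ha : a ^ 2 ^ n = 1)

include hA hz hz2

include hodd in
omit [Finite C] hz in
theorem symm_neg_one : (e.symm (-1) : H) = π z := by
  obtain ⟨z₀, -, -, hu⟩ := QGroup.exists_involution e hodd
  have hzN := QGroup.z_mem e hA hodd
  have h2 : (2 : F) ≠ 0 := two_ne_zero_iff_odd.2 hodd
  have ho : orderOf (e.symm (-1) : H) = 2 := by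
    rw [Subgroup.orderOf_coe, MulEquiv.orderOf_eq]
    refine orderOf_eq_prime (by rw [pow_two, neg_mul_neg, one_mul]) fun e0 => ?_
    have := congrArg (fun g : SL2 F => g.1 0 0) e0
    simp at this
    exact h2 (by linear_combination -this)
  rw [hu _ (e.symm (-1)).2 ho, hu _ hzN hA.z2]

/-- A lift of `-1` with square one is `z`. -/
theorem eq_z_of_map {x : C} (hx : x * x = 1) (h : π x = π z) (hker : Odd (Nat.card π.ker)) : x = z := by
  have h1 : x * z⁻¹ ∈ π.ker := by rw [MonoidHom.mem_ker, map_mul, map_inv, h, mul_inv_cancel]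
  have hzi : z⁻¹ = z := inv_eq_of_mul_eq_one_right hz2
  have h2 : (x * z⁻¹) * (x * z⁻¹) = 1 := by
    rw [hzi, mul_assoc, ← mul_assoc z x z, (hz x).eq, mul_assoc x z z, hz2, mul_one, hx]
  have h3 : orderOf (⟨_, h1⟩ : π.ker) ∣ 2 := orderOf_dvd_of_pow_eq_one (Subtype.ext (by rw [pow_two]; exact h2))
  have h4 : (⟨_, h1⟩ : π.ker) = 1 := orderOf_eq_one_iff.1 (Nat.eq_one_of_dvd_coprimes
    (Nat.coprime_two_left.2 hker) h3 (orderOf_dvd_natCard _))
  rw [← mul_inv_eq_one]
  exact congrArg Subtype.val h4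

include hπ hker hcore hcyc hn hD ha

/-- **The image of `GL(2, q)`.** -/
theorem exists_pi_plus (hq : Nat.card F - 1 = 2 ^ n * m) (hm : Odd m) (hdvd : Nat.card π.ker ∣ m) :
    ∃ p : GL (Fin 2) F →* C, p.range = (fieldPart e hodd).ker.comap π ∧
      p.ker ≤ center (GL (Fin 2) F) ∧ Odd (Nat.card p.ker) ∧ p (Matrix.SpecialLinearGroup.toGL (-1)) = z ∧
      ∀ c : C, ∃ g : GL (Fin (0 + 2)) F, ∀ x : SL2 F,
        c * p (Matrix.SpecialLinearGroup.toGL x) * c⁻¹ =
          p (Matrix.SpecialLinearGroup.toGL (semiSL g (fieldPart e hodd (π c)) x)) := by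
  have hdq : Nat.card π.ker ∣ Nat.card F - 1 := hq ▸ hdvd.trans (dvd_mul_left m _)
  obtain ⟨T, hTc, hTS, hTπ, hTn⟩ := exists_shape e hodd π hπ hker (Or.inl hdq)
    (fun x hx o ho => (hcore o ho x (le_ker e hodd hx)).symm) hA hD ha hcyc
    fun o ho => (hcore o ho a hD.diag).symm
  obtain ⟨f, hfs, hfk, hfo, hf⟩ := exists_piGL hodd hn hq hm T (hTc ▸ hdq)
  set p : GL (Fin 2) F →* C := ((fieldPart e hodd).ker.comap π).subtype.comp f with hp
  have hker' : p.ker = f.ker := by
    ext g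
    rw [hp, MonoidHom.mem_ker, MonoidHom.mem_ker, MonoidHom.comp_apply, Subgroup.coe_subtype, OneMemClass.coe_eq_one]
  have hpv : ∀ x, p (Matrix.SpecialLinearGroup.toGL x) = ((T.e.symm x : ((fieldPart e hodd).ker.comap π : Subgroup C)) : C) := fun x =>
    congrArg ((fieldPart e hodd).ker.comap π).subtype (hf x)
  refine ⟨p, ?_, hker' ▸ hfk, hker' ▸ hfo, ?_, fun c => ?_⟩
  · rw [hp, MonoidHom.range_comp, MonoidHom.range_eq_top.2 hfs, ← MonoidHom.range_eq_map, range_subtype]
  · refine eq_z_of_map π hA hz hz2 ?_ ?_ hker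
    · rw [← map_mul, ← map_mul, neg_mul_neg, one_mul, map_one, map_one]
    · rw [hpv, hTπ]; exact symm_neg_one e hodd π hA hz2
  · obtain ⟨g, σ, hgσ, hq'⟩ := QGroup.exists_semiSL hodd (QGroup.rhoSL e (π c))
    have hσ : fieldPart e hodd (π c) = σ := fieldAt_eq e hodd hq'
    refine ⟨g, fun x => ?_⟩
    rw [hσ, hpv, hpv]
    set L := T.N.map ((fieldPart e hodd).ker.comap π).subtype
    have hl : ∀ y, ((T.e.symm y : ((fieldPart e hodd).ker.comap π : Subgroup C)) : C) ∈ L := fun y => mem_map_of_mem _ (T.e.symm y).2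
    obtain ⟨w, hw, hwe⟩ := hTn.conj_mem _ (hl x) c
    rw [← hwe]
    show (w : C) = _
    have key : π (w : C) = (e.symm (semiSL g σ x) : H) := by
      rw [show (w : C) = c * ((T.e.symm x : ((fieldPart e hodd).ker.comap π : Subgroup C)) : C) * c⁻¹ from hwe, map_mul, map_mul, map_inv, hTπ, ← hgσ]
      obtain ⟨y, rfl⟩ := e.surjective x
      rw [QGroup.rhoSL_apply, e.symm_apply_apply, e.symm_apply_apply, MulAut.conjNormal_apply]
    have h1 : T.e ⟨w, hw⟩ = semiSL g σ x := by
      refine e.symm.injective (Subtype.ext ?_)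
      rw [← hTπ, T.e.symm_apply_apply, key]
    rw [← h1, T.e.symm_apply_apply]

end Cfsg.Agent.SDBudget
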