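import Cfsg.Agent.EqLemmas
import Mathlib.NumberTheory.Multiplicity
import Mathlib.FieldTheory.Finite.Basic

/-!
# Field-freeness of the swap on `C(z) ∩ C(t)` (helper87, S0507 / S0523)

`C₀ ⊴ C(z)` with abelian quotient `χ`, `φ : C₀ →* H`, a swap `g` of `z` and `t`, `X = C(z) ∩ C(t)`.

* `conj_mem_of_cube`: if no element outside `C₀` acts on the torus with `(σ - 1) ^ 3 = 0`, then `g`
  keeps `X ∩ C₀` inside `C₀`, provided the kernel at `t` is centralised modulo the kernel at `z`;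
* `exists_cube_ne`: that hypothesis from a power action on a torus of order `o`;
* `not_dvd_cube`: the arithmetic, `o` the odd part of `a ^ r - 1`.
-/

set_option autoImplicit false

open scoped commutatorElement

namespace Cfsg.Agent.SDBudget

open Subgroup

/-- The odd part of `a ^ r - 1` does not divide `(a ^ j - 1) ^ 3`. -/
theorem not_dvd_cube (a : ℤ) (r j o k : ℕ) (ha : 3 ≤ |a|) (hao : Odd a) (hr : r.Prime) (hr2 : r ≠ 2)
    (hj : ¬ r ∣ j) (ho : (a ^ r - 1).natAbs = 2 ^ k * o) : ¬ (o : ℤ) ∣ (a ^ j - 1) ^ 3 := by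
  haveI := Fact.mk hr
  have hro : Odd r := hr.odd_of_ne_two hr2
  set S : ℤ := ∑ i ∈ Finset.range r, a ^ i with hS
  have hSm : S * (a - 1) = a ^ r - 1 := geom_sum_mul a r
  have hr3 : 3 ≤ r := by have := hr.two_le; omega
  -- `r ^ 2` does not divide `S`
  have hsq : ¬ (r : ℤ) ^ 2 ∣ S := by
    intro h
    have h1 : (r : ℤ) ∣ a - 1 := by
      have e : ((S * (a - 1) : ℤ) : ZMod r) = 0 := by
        rw [ZMod.intCast_zmod_eq_zero_iff_dvd]
        exact dvd_mul_of_dvd_left (dvd_trans (dvd_pow_self _ two_ne_zero) h) _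
      rw [hSm] at e
      push_cast at e
      rw [ZMod.pow_card] at e
      rw [← ZMod.intCast_zmod_eq_zero_iff_dvd]
      push_cast
      exact e
    obtain ⟨b, hb⟩ := h1
    have h2 := odd_sq_dvd_geom_sum₂_sub (R := ℤ) 1 b hro
    simp only [one_pow, mul_one, show (1 : ℤ) + (r : ℤ) * b = a by linarith] at h2
    have h3 := (dvd_sub_right h).1 h2
    rw [pow_two] at h3
    have := Int.le_of_dvd (by exact_mod_cast hr.pos) h3
    have : (r : ℤ) * r ≥ 3 * r := by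
      have : (3 : ℤ) ≤ r := by exact_mod_cast hr3
      nlinarith
    omega
  -- `S` is larger than `r`
  have hbig : (r : ℤ) < |S| := by
    have h1 : (2 * r : ℤ) ≤ |a| ^ (r - 1) := by
      have h2 : 2 * r ≤ 3 ^ (r - 1) := by
        have h3 : ∀ m : ℕ, 2 * (m + 3) ≤ 3 ^ (m + 2) := fun m => by
          induction m with
          | zero => norm_num
          | succ m ih => rw [show m + 1 + 2 = (m + 2) + 1 by omega, pow_succ]; omega
        have h4 := h3 (r - 3)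
        rwa [show r - 3 + 3 = r by omega, show r - 3 + 2 = r - 1 by omega] at h4
      calc (2 * r : ℤ) ≤ 3 ^ (r - 1) := by exact_mod_cast h2
        _ ≤ |a| ^ (r - 1) := pow_le_pow_left₀ (by norm_num) ha _
    have h2 : |a| ^ r - 1 ≤ |S * (a - 1)| := by
      rw [hSm, ← abs_pow]
      have := abs_sub_abs_le_abs_sub (a ^ r) 1
      simpa using this
    have h3 : |a - 1| ≤ |a| + 1 := by
      have := abs_sub a 1
      simpa using this
    have h4 : |a| ^ r = |a| ^ (r - 1) * |a| := by rw [← pow_succ, show r - 1 + 1 = r by omega]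
    rw [abs_mul] at h2
    by_contra hle
    push Not at hle
    have h5 : |S| * |a - 1| ≤ r * (|a| + 1) := mul_le_mul hle h3 (abs_nonneg _) (by positivity)
    have h6 : (3 : ℤ) ≤ r := by exact_mod_cast hr3
    nlinarith
  -- a primitive prime
  obtain ⟨l, hl, hlS, hlr⟩ : ∃ l : ℕ, l.Prime ∧ (l : ℤ) ∣ S ∧ l ≠ r := by
    by_contra hno
    push Not at hno
    have hS0 : S.natAbs ≠ 0 := by
      rw [Ne, Int.natAbs_eq_zero]
      rintro h
      rw [h] at hbig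
      simp at hbig
      omega
    have e := Nat.eq_prime_pow_of_unique_prime_dvd hS0 (p := r)
      fun {d} hd hdS => hno d hd (Int.natCast_dvd.2 hdS)
    have hk : S.natAbs.primeFactorsList.length ≤ 1 := by
      by_contra hk
      refine hsq (Int.dvd_natAbs.1 ?_)
      rw [e]
      push_cast
      exact pow_dvd_pow _ (by omega)
    have : (S.natAbs : ℤ) ≤ r := by
      rw [e]
      exact_mod_cast (Nat.pow_le_pow_right hr.pos hk).trans (pow_one r).le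
    rw [Int.natCast_natAbs] at this
    omega
  haveI := Fact.mk hl
  -- `l` is odd
  have hSodd : Odd S := by
    have h1 : ∀ n : ℕ, Odd (∑ i ∈ Finset.range n, a ^ i) ↔ Odd n := fun n => by
      induction n with
      | zero => simp
      | succ n ih =>
        rw [Finset.sum_range_succ, Nat.odd_add_one, ← ih, Int.odd_add']
        simp [hao.pow]
    exact (hS ▸ (h1 r).2 hro)
  have hl2 : l ≠ 2 := by
    rintro rfl
    exact (Int.not_even_iff_odd.2 hSodd) (even_iff_two_dvd.2 (by exact_mod_cast hlS))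
  intro hdvd
  have hlo : (l : ℤ) ∣ (o : ℤ) := by
    have h1 : (l : ℤ) ∣ a ^ r - 1 := hSm ▸ dvd_mul_of_dvd_left hlS _
    have h2 : l ∣ 2 ^ k * o := ho ▸ Int.natCast_dvd.1 h1
    rcases hl.dvd_mul.1 h2 with h | h
    · exact absurd ((Nat.prime_dvd_prime_iff_eq hl Nat.prime_two).1 (hl.dvd_of_dvd_pow h)) hl2
    · exact_mod_cast h
  have hj1 : (l : ℤ) ∣ a ^ j - 1 :=
    (Nat.prime_iff_prime_int.1 hl).dvd_of_dvd_pow (dvd_trans hlo hdvd)
  rw [← ZMod.intCast_zmod_eq_zero_iff_dvd] at hj1 hlS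
  have hr1 : ((a : ZMod l)) ^ r = 1 := by
    have := congrArg (fun x : ℤ => (x : ZMod l)) hSm
    push_cast at this
    rw [hlS, zero_mul] at this
    exact sub_eq_zero.1 this.symm
  push_cast at hj1
  have ha1 : (a : ZMod l) = 1 := by
    have h1 := orderOf_dvd_of_pow_eq_one hr1
    rcases (Nat.dvd_prime hr).1 h1 with h | h
    · exact orderOf_eq_one_iff.1 h
    · exact absurd (h ▸ orderOf_dvd_of_pow_eq_one (sub_eq_zero.1 hj1)) hj
  rw [hS] at hlS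
  push_cast at hlS
  simp only [ha1, one_pow, Finset.sum_const, Finset.card_range, nsmul_eq_mul, mul_one] at hlS
  exact hlr ((Nat.prime_dvd_prime_iff_eq hl hr).1 ((ZMod.natCast_eq_zero_iff r l).1 hlS))

variable {G : Type*} [Group G] {H : Type*} [Group H] {C₀ : Subgroup G}

/-- A power action on a torus of order `o` is not unipotent of degree three. -/
theorem exists_cube_ne {φ : C₀ →* H} {Z : Subgroup H} (hZ : ∀ h ∈ Z, ∀ h' : H, Commute h h')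
    (X : Subgroup G) (y : G) (hy : y ∈ X) (hn : ∀ x ∈ C₀, y * x * y⁻¹ ∈ C₀) (m : ℤ) (o : ℕ)
    (hm : ∀ x (hx : x ∈ C₀), x ∈ X → φ ⟨y * x * y⁻¹, hn x hx⟩ * (φ ⟨x, hx⟩ ^ m)⁻¹ ∈ Z)
    (hgen : ∃ x, ∃ hx : x ∈ C₀, x ∈ X ∧ ∀ i : ℤ, φ ⟨x, hx⟩ ^ i ∈ Z → (o : ℤ) ∣ i)
    (ho : ¬ (o : ℤ) ∣ (m - 1) ^ 3) :
    ∃ x ∈ C₀, x ∈ X ∧ ∀ h : ⁅⁅⁅x, y⁆, y⁆, y⁆ ∈ C₀, φ ⟨_, h⟩ ≠ 1 := by
  have step : ∀ (x : G) (hx : x ∈ C₀), x ∈ X → ∃ hc : ⁅x, y⁆ ∈ C₀, ⁅x, y⁆ ∈ X ∧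
      φ ⟨_, hc⟩ * (φ ⟨x, hx⟩ ^ (1 - m))⁻¹ ∈ Z := fun x hx hxX => by
    have hc : ⁅x, y⁆ ∈ C₀ := by
      rw [commutatorElement_def, show x * y * x⁻¹ * y⁻¹ = x * (y * x⁻¹ * y⁻¹) by group]
      exact C₀.mul_mem hx (hn _ (C₀.inv_mem hx))
    refine ⟨hc, ?_, ?_⟩
    · rw [commutatorElement_def]
      exact X.mul_mem (X.mul_mem (X.mul_mem hxX hy) (X.inv_mem hxX)) (X.inv_mem hy)
    have e : (⟨⁅x, y⁆, hc⟩ : C₀) = ⟨x, hx⟩ * ⟨y * x * y⁻¹, hn x hx⟩⁻¹ := by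
      apply Subtype.ext
      simp [commutatorElement_def, mul_assoc]
    rw [e, map_mul, map_inv]
    set h := φ ⟨x, hx⟩ with hh
    have hz := hm x hx hxX
    set w := φ ⟨y * x * y⁻¹, hn x hx⟩ with hw
    have hc' : Commute (w * (h ^ m)⁻¹) (h ^ (1 - m))⁻¹ := hZ _ hz _
    have e' : h * w⁻¹ * (h ^ (1 - m))⁻¹ = (w * (h ^ m)⁻¹)⁻¹ := by
      rw [← zpow_neg, ← zpow_neg, mul_inv_rev, ← zpow_neg, neg_neg] at *
      calc h * w⁻¹ * h ^ (-(1 - m)) = h ^ (1 - m) * (h ^ m * w⁻¹) * h ^ (-(1 - m)) := by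
            rw [← mul_assoc (h ^ (1 - m)), ← zpow_add, show 1 - m + m = (1 : ℤ) by ring, zpow_one]
        _ = h ^ (1 - m) * ((w * h ^ (-m))⁻¹ * h ^ (-(1 - m))) := by
            rw [mul_inv_rev, ← zpow_neg, neg_neg, mul_assoc]
        _ = h ^ (1 - m) * (h ^ (-(1 - m)) * (w * h ^ (-m))⁻¹) := by rw [hc'.inv_left.eq]
        _ = _ := by rw [← mul_assoc, ← zpow_add, add_neg_cancel, zpow_zero, one_mul, mul_inv_rev,
              ← zpow_neg, neg_neg]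
    rw [e']
    exact Z.inv_mem hz
  -- powers of congruent elements are congruent
  have pow_cong : ∀ (a b : H) (i : ℤ), a * b⁻¹ ∈ Z → a ^ i * (b ^ i)⁻¹ ∈ Z := fun a b i hab => by
    have hc : Commute (a * b⁻¹) b := hZ _ hab _
    have e : a ^ i = (a * b⁻¹) ^ i * b ^ i := by rw [← hc.mul_zpow, inv_mul_cancel_right]
    rw [e, mul_inv_cancel_right]
    exact Z.zpow_mem hab i
  obtain ⟨x, hx, hxX, hxo⟩ := hgen
  refine ⟨x, hx, hxX, fun h h1 => ho ?_⟩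
  obtain ⟨c1, X1, e1⟩ := step x hx hxX
  obtain ⟨c2, X2, e2⟩ := step _ c1 X1
  obtain ⟨c3, -, e3⟩ := step _ c2 X2
  rw [h1, one_mul, inv_mem_iff] at e3
  set b := φ ⟨x, hx⟩
  have f1 : φ ⟨_, c2⟩ * (b ^ ((1 - m) ^ 2))⁻¹ ∈ Z := by
    have := Z.mul_mem e2 (pow_cong _ _ (1 - m) e1)
    rw [← zpow_mul, mul_assoc, inv_mul_cancel_left] at this
    rwa [pow_two]
  have f2 := pow_cong _ _ (1 - m) f1
  rw [← zpow_mul, ← pow_succ] at f2
  have f3 : b ^ ((1 - m) ^ 3) ∈ Z := by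
    have := Z.mul_mem (Z.inv_mem f2) e3
    rwa [mul_inv_rev, inv_inv, mul_assoc, inv_mul_cancel, mul_one] at this
  have := hxo _ f3
  rwa [show (1 - m) ^ 3 = -((m - 1) ^ 3) by ring, dvd_neg] at this

/-- **Field-freeness**: the swap keeps the torus part of `C(z) ∩ C(t)` inside `C₀`. -/
theorem conj_mem_of_cube {A : Type*} [CommGroup A] {z t g : G} (χ : centralizer ({z} : Set G) →* A)
    (hC₀ : ∀ x (hx : x ∈ centralizer ({z} : Set G)), x ∈ C₀ ↔ χ ⟨x, hx⟩ = 1)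
    (φ : C₀ →* H) (hgz : g * z * g⁻¹ = t) (hgt : g * t * g⁻¹ = z)
    (htor : ∀ (x y : C₀), Commute t (x : G) → Commute t (y : G) → Commute z (x : G) →
      Commute z (y : G) → Commute (φ x) (φ y))
    (hker : ∀ a b : G, Commute z a → Commute t a → Commute z b → Commute t b → a ∈ C₀ → b ∉ C₀ →
      (∀ h : g * a * g⁻¹ ∈ C₀, φ ⟨_, h⟩ = 1) → g * a * g⁻¹ ∈ C₀ → g * b * g⁻¹ ∈ C₀ →
      ∀ h : ⁅a, b⁆ ∈ C₀, φ ⟨_, h⟩ = 1)
    (hcube : ∀ y : G, Commute z y → Commute t y → y ∉ C₀ →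
      ∃ x ∈ C₀, x ∈ centralizer ({z} : Set G) ⊓ centralizer ({t} : Set G) ∧
        ∀ h : ⁅⁅⁅x, y⁆, y⁆, y⁆ ∈ C₀, φ ⟨_, h⟩ ≠ 1)
    (x : G) (hx : x ∈ C₀) (hzx : Commute z x) (htx : Commute t x) : g * x * g⁻¹ ∈ C₀ := by
  set M := centralizer ({z} : Set G) ⊓ centralizer ({t} : Set G) with hM
  have hmem : ∀ w, w ∈ M ↔ Commute z w ∧ Commute t w := fun w => by
    simp only [hM, mem_inf, mem_centralizer_singleton_iff]
    exact ⟨fun h => ⟨h.1.symm, h.2.symm⟩, fun h => ⟨h.1.eq.symm, h.2.eq.symm⟩⟩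
  have hgM : ∀ w, w ∈ M → g * w * g⁻¹ ∈ M := fun w hw => by
    obtain ⟨h1, h2⟩ := (hmem w).1 hw
    refine (hmem _).2 ⟨?_, ?_⟩
    · rw [← hgt]; exact h2.map (MulAut.conj g)
    · rw [← hgz]; exact h1.map (MulAut.conj g)
  have hcomm : ∀ a b, a ∈ M → b ∈ M → ⁅a, b⁆ ∈ C₀ := fun a b ha hb => by
    have hM' : ⁅a, b⁆ ∈ M := by
      rw [commutatorElement_def]
      exact M.mul_mem (M.mul_mem (M.mul_mem ha hb) (M.inv_mem ha)) (M.inv_mem hb)
    refine (hC₀ _ hM'.1).2 ?_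
    have e : (⟨⁅a, b⁆, hM'.1⟩ : centralizer ({z} : Set G)) = ⁅(⟨a, ha.1⟩ : centralizer ({z} : Set G)), ⟨b, hb.1⟩⁆ := Subtype.ext rfl
    rw [e, map_commutatorElement, commutatorElement_eq_one_iff_mul_comm, mul_comm]
  by_contra hne
  set y := g * x * g⁻¹ with hy
  have hxM : x ∈ M := (hmem x).2 ⟨hzx, htx⟩
  have hyM : y ∈ M := hgM x hxM
  obtain ⟨hzy, hty⟩ := (hmem y).1 hyM
  obtain ⟨e, heC, heM, he⟩ := hcube y hzy hty hne
  -- pull back by `g`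
  set g2 := g * g with hg2
  have hg2z : g2 * z * g2⁻¹ = z := by
    rw [hg2, show g * g * z * (g * g)⁻¹ = g * (g * z * g⁻¹) * g⁻¹ by group, hgz, hgt]
  have hnorm : ∀ w, w ∈ C₀ → Commute z w → g2 * w * g2⁻¹ ∈ C₀ := fun w hw hzw => by
    have hg2m : g2 ∈ centralizer ({z} : Set G) := mem_centralizer_singleton_iff.2 (by
      calc g2 * z = g2 * z * g2⁻¹ * g2 := by group
        _ = z * g2 := by rw [hg2z])
    have hwm : w ∈ centralizer ({z} : Set G) := mem_centralizer_singleton_iff.2 hzw.eq.symm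
    have hm := (centralizer ({z} : Set G)).mul_mem ((centralizer ({z} : Set G)).mul_mem hg2m hwm)
      ((centralizer ({z} : Set G)).inv_mem hg2m)
    refine (hC₀ _ hm).2 ?_
    have e : (⟨g2 * w * g2⁻¹, hm⟩ : centralizer ({z} : Set G)) = ⟨g2, hg2m⟩ * ⟨w, hwm⟩ * ⟨g2, hg2m⟩⁻¹ :=
      Subtype.ext rfl
    rw [e, map_mul, map_mul, map_inv, mul_inv_cancel_comm]
    exact (hC₀ _ hwm).1 hw
  -- `g` sends commutators to commutators and `y` into `C₀`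
  have hgy : g * y * g⁻¹ ∈ C₀ := by
    rw [hy, show g * (g * x * g⁻¹) * g⁻¹ = g2 * x * g2⁻¹ by rw [hg2]; group]
    exact hnorm x hx hzx
  have hgc : ∀ a b : G, g * ⁅a, b⁆ * g⁻¹ = ⁅g * a * g⁻¹, g * b * g⁻¹⁆ := fun a b => by
    simp only [commutatorElement_def]; group
  have hcM : ∀ a b, a ∈ M → b ∈ M → ⁅a, b⁆ ∈ M := fun a b ha hb => by
    rw [commutatorElement_def]
    exact M.mul_mem (M.mul_mem (M.mul_mem ha hb) (M.inv_mem ha)) (M.inv_mem hb)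
  have ha1M : ⁅e, y⁆ ∈ M := hcM _ _ heM hyM
  have hga1 : g * ⁅e, y⁆ * g⁻¹ ∈ C₀ := by
    rw [hgc]; exact hcomm _ _ (hgM _ heM) (hgM _ hyM)
  have hga2 : g * ⁅⁅e, y⁆, y⁆ * g⁻¹ ∈ C₀ := by
    rw [hgc]; exact hcomm _ _ (hgM _ ha1M) (hgM _ hyM)
  have hker2 : ∀ h : g * ⁅⁅e, y⁆, y⁆ * g⁻¹ ∈ C₀, φ ⟨_, h⟩ = 1 := fun h => by
    have e1 : (⟨_, h⟩ : C₀) = ⁅(⟨_, hga1⟩ : C₀), (⟨_, hgy⟩ : C₀)⁆ := Subtype.ext (by
      simp only [hgc]; rfl)
    rw [e1, map_commutatorElement, commutatorElement_eq_one_iff_mul_comm]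
    obtain ⟨p1, p2⟩ := (hmem _).1 (hgM _ ha1M)
    obtain ⟨q1, q2⟩ := (hmem _).1 (hgM _ hyM)
    exact (htor ⟨_, hga1⟩ ⟨_, hgy⟩ p2 q2 p1 q1).eq
  have ha2M : ⁅⁅e, y⁆, y⁆ ∈ M := hcM _ _ ha1M hyM
  obtain ⟨r1, r2⟩ := (hmem _).1 ha2M
  exact he (hcomm _ _ ha2M hyM) (hker _ y r1 r2 hzy hty (hcomm _ _ ha1M hyM) hne hker2 hga2 hgy _)

end Cfsg.Agent.SDBudget
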