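import Cfsg.Agent.EqLemmas
import Cfsg.Agent.Lib.TwoFusion.Transfer
import Mathlib.GroupTheory.Sylow
import Mathlib.GroupTheory.Abelianization.Defs

/-!
# Killing field automorphisms in an involution centralizer by transfer (helper87, S0507 / S0523)

`C = C(z)`, `χ : C →* A` the field part, `U` a four group through `z` with a three cycle `w`.

* `three_cycle_ker`: `w` normalises the torus `C(U) ∩ ker χ` by the quadratic action criterion;
* `three_cycle_invariant`: `χ` on `C(U)` is invariant under the three cycle;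
* `pow_index_eq_one`: if `σ ∈ C` centralises a Sylow 2-subgroup whose involutions are conjugate into
  `U` in `C(σ)`, then `χ σ ^ |G : C| = 1` in a perfect group.
-/

set_option autoImplicit false

namespace Cfsg.Agent.SDBudget

open Subgroup
open scoped Pointwise

variable {G : Type*} [Group G] {A : Type*} [CommGroup A]

/-- A conjugate of the abelian torus `X ∩ ker χ` is the torus, as no element outside acts quadratically. -/
theorem three_cycle_ker {X : Subgroup G} (χ : X →* A) (w : G) (hw : ∀ x, x ∈ X ↔ w * x * w⁻¹ ∈ X)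
    (hab : ∀ x y : X, χ x = 1 → χ y = 1 → Commute x y)
    (hquad : ∀ y : X, χ y ≠ 1 → ∃ x : X, χ x = 1 ∧ ¬Commute (x * y * x⁻¹ * y⁻¹) y)
    (x : X) (hx : χ x = 1) : χ ⟨w * x * w⁻¹, (hw _).1 x.2⟩ = 1 := by
  by_contra hne
  set y : X := ⟨w * x * w⁻¹, (hw _).1 x.2⟩ with hy
  obtain ⟨a, ha, hac⟩ := hquad y hne
  refine hac ?_
  -- pull everything back by `w`
  have hamem : w⁻¹ * (a : G) * w ∈ X := (hw _).2 (by simp [mul_assoc])
  set a' : X := ⟨w⁻¹ * (a : G) * w, hamem⟩ with ha'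
  have hk : χ (a' * x * a'⁻¹ * x⁻¹) = 1 := by
    simp only [map_mul, map_inv, hx, mul_one, inv_one, mul_inv_cancel]
  have hc := hab _ x hk hx
  have hc' : ((a' * x * a'⁻¹ * x⁻¹ : X) : G) * x = x * ((a' * x * a'⁻¹ * x⁻¹ : X) : G) :=
    congrArg Subtype.val hc.eq
  refine Subtype.ext ?_
  simp only [hy, ha', Subgroup.coe_mul, Subgroup.coe_inv] at hc' ⊢
  have := congrArg (fun g => w * g * w⁻¹) hc'
  simpa [mul_assoc] using this

/-- The field part on `C(U)` is invariant under a three cycle inverted by an element of `C`. -/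
theorem three_cycle_invariant {C X : Subgroup G} (hXC : X ≤ C) (χ : C →* A) {w τ : G}
    (hw : ∀ x, x ∈ X ↔ w * x * w⁻¹ ∈ X) (hτ : τ ∈ C) (hτX : ∀ x ∈ X, τ * x * τ⁻¹ ∈ X)
    (hw3 : w ^ 3 ∈ X) (hτw : τ * w * τ⁻¹ * w ∈ X)
    (hker : ∀ x : X, χ ⟨x, hXC x.2⟩ = 1 → χ ⟨w * x * w⁻¹, hXC ((hw _).1 x.2)⟩ = 1)
    (x : X) : χ ⟨w * x * w⁻¹, hXC ((hw _).1 x.2)⟩ = χ ⟨x, hXC x.2⟩ := by
  -- conjugation by an element of `C` does nothing
  have hconj : ∀ (c g : G) (hc : c ∈ C) (hg : g ∈ C) (h : c * g * c⁻¹ ∈ C),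
      χ ⟨c * g * c⁻¹, h⟩ = χ ⟨g, hg⟩ := fun c g hc hg h => by
    have e : (⟨c * g * c⁻¹, h⟩ : C) = ⟨c, hc⟩ * ⟨g, hg⟩ * ⟨c, hc⟩⁻¹ := Subtype.ext rfl
    rw [e, map_mul, map_mul, map_inv, mul_inv_cancel_comm]
  -- `f` is well defined on the image
  have hwd : ∀ a b : X, χ ⟨a, hXC a.2⟩ = χ ⟨b, hXC b.2⟩ →
      χ ⟨w * a * w⁻¹, hXC ((hw _).1 a.2)⟩ = χ ⟨w * b * w⁻¹, hXC ((hw _).1 b.2)⟩ := fun a b h => by
    have e1 : χ ⟨(a * b⁻¹ : X), hXC (a * b⁻¹).2⟩ = 1 := by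
      have e : (⟨(a * b⁻¹ : X), hXC (a * b⁻¹).2⟩ : C) = ⟨a, hXC a.2⟩ * ⟨b, hXC b.2⟩⁻¹ := Subtype.ext rfl
      rw [e, map_mul, map_inv, h, mul_inv_cancel]
    have e2 := hker _ e1
    have e : (⟨w * (a * b⁻¹ : X) * w⁻¹, hXC ((hw _).1 (a * b⁻¹).2)⟩ : C) =
        ⟨w * a * w⁻¹, hXC ((hw _).1 a.2)⟩ * ⟨w * b * w⁻¹, hXC ((hw _).1 b.2)⟩⁻¹ := by
      apply Subtype.ext
      simp [mul_assoc]
    rw [e, map_mul, map_inv, mul_inv_eq_one] at e2
    exact e2
  let f : X → X := fun a => ⟨w * a * w⁻¹, (hw _).1 a.2⟩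
  let φ : X → A := fun a => χ ⟨a, hXC a.2⟩
  have hf3 : ∀ a, φ (f (f (f a))) = φ a := fun a => by
    have hm : w ^ 3 * (a : G) * (w ^ 3)⁻¹ ∈ C := hXC (X.mul_mem (X.mul_mem hw3 a.2) (X.inv_mem hw3))
    refine (congrArg χ (Subtype.ext ?_)).trans (hconj _ _ (hXC hw3) (hXC a.2) hm)
    simp [f, pow_succ, mul_assoc]
  have hf2 : ∀ a, φ (f (f a)) = φ a := fun a => by
    set a1 : X := ⟨τ * a * τ⁻¹, hτX _ a.2⟩
    have h1 : φ a1 = φ a := hconj _ _ hτ (hXC a.2) (hXC a1.2)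
    -- `τ (w a w⁻¹) τ⁻¹ = c w⁻¹ a1 w c⁻¹`
    set c := τ * w * τ⁻¹ * w
    have h2 : φ (f a) = φ (⟨w⁻¹ * a1 * w, (hw _).2 (by simp [mul_assoc])⟩ : X) := by
      have hm : c * (w⁻¹ * a1 * w) * c⁻¹ ∈ C :=
        hXC (X.mul_mem (X.mul_mem hτw ((hw _).2 (by simp [mul_assoc]))) (X.inv_mem hτw))
      have hm' : τ * (w * a * w⁻¹) * τ⁻¹ ∈ C :=
        C.mul_mem (C.mul_mem hτ (hXC ((hw _).1 a.2))) (C.inv_mem hτ)
      refine ((hconj τ _ hτ _ hm').symm.trans (congrArg χ (Subtype.ext ?_))).trans (hconj c _ (hXC hτw) _ hm)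
      simp [c, a1, mul_assoc]
    set b : X := ⟨w⁻¹ * a1 * w, (hw _).2 (by simp [mul_assoc])⟩
    have h3 : f b = a1 := Subtype.ext (by simp [f, b, mul_assoc])
    rw [hwd (f a) b h2 |> (fun h => (h : φ (f (f a)) = φ (f b))), h3, h1]
  exact (hf2 (f x)).symm.trans (hf3 x)

/-- A homomorphism from a perfect group to a commutative group is trivial. -/
theorem hom_perfect_eq_one (hG : commutator G = ⊤) (f : G →* A) (g : G) : f g = 1 :=
  MonoidHom.mem_ker.1 (Abelianization.commutator_subset_ker f (hG ▸ mem_top g))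

/-- Transfer: the field part of `σ` is killed by the index of the centralizer. -/
theorem pow_index_eq_one [Finite G] (hG : commutator G = ⊤) {z : G} {U : Set G}
    (χ : centralizer ({z} : Set G) →* A) (σ : centralizer ({z} : Set G))
    (hσU : ∀ u ∈ U, Commute (σ : G) u)
    (hinv : ∀ u ∈ U, IsConj z u → ∃ m : G, m * z * m⁻¹ = u ∧
      ∀ (x : centralizer ({z} : Set G)), (∀ v ∈ U, Commute (x : G) v) →
        ∀ h : m⁻¹ * x * m ∈ centralizer ({z} : Set G), χ ⟨m⁻¹ * x * m, h⟩ = χ x)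
    (hfus : ∀ (k : ℕ) (u : G), IsConj z u → Commute ((σ : G) ^ k) u →
      ∃ d : G, Commute ((σ : G) ^ k) d ∧ d * u * d⁻¹ ∈ U) :
    χ σ ^ (centralizer ({z} : Set G)).index = 1 := by
  rw [← TwoFusion.transfer_eq_pow_of_controlled χ σ ?_]
  · exact hom_perfect_eq_one hG _ _
  intro k a hm
  set u := a⁻¹ * z * a with hu
  have huz : IsConj z u := isConj_iff.2 ⟨a⁻¹, by rw [inv_inv]⟩
  have hcu : Commute ((σ : G) ^ k) u := by
    have h := mem_centralizer_singleton_iff.1 hm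
    have := congrArg (fun g => a⁻¹ * g * a) h
    simpa [hu, mul_assoc, Commute, SemiconjBy] using this
  obtain ⟨d, hd, hdU⟩ := hfus k u huz hcu
  obtain ⟨m, hmz, hmx⟩ := hinv _ hdU (huz.trans (isConj_iff.2 ⟨d, rfl⟩))
  -- `c := m⁻¹ d a⁻¹` is in the centralizer
  have hc : m⁻¹ * d * a⁻¹ ∈ centralizer ({z} : Set G) := by
    rw [mem_centralizer_singleton_iff]
    have := congrArg (fun g => m⁻¹ * g * (d * a⁻¹)) hmz
    simpa [hu, mul_assoc] using this.symm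
  have hσk : ((σ ^ k : centralizer ({z} : Set G)) : G) = (σ : G) ^ k := by simp
  have hcomm : ∀ v ∈ U, Commute ((σ ^ k : centralizer ({z} : Set G)) : G) v := fun v hv => hσk ▸ (hσU v hv).pow_left k
  have hmk : m⁻¹ * ((σ ^ k : centralizer ({z} : Set G)) : G) * m ∈ centralizer ({z} : Set G) := by
    rw [mem_centralizer_singleton_iff]
    have := congrArg (fun g => m⁻¹ * g * m) (hcomm _ hdU).eq
    simpa [← hmz, mul_assoc] using this
  have e : (⟨m⁻¹ * ((σ ^ k : centralizer ({z} : Set G)) : G) * m, hmk⟩ : centralizer ({z} : Set G)) =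
      ⟨_, hc⟩ * ⟨a * (σ : G) ^ k * a⁻¹, hm⟩ * ⟨_, hc⟩⁻¹ := by
    apply Subtype.ext
    simp only [hσk, Subgroup.coe_mul, Subgroup.coe_inv]
    calc m⁻¹ * (σ : G) ^ k * m = m⁻¹ * ((σ : G) ^ k * d) * d⁻¹ * m := by group
      _ = m⁻¹ * (d * (σ : G) ^ k) * d⁻¹ * m := by rw [hd.eq]
      _ = _ := by group
  have := hmx (σ ^ k) hcomm hmk
  rw [e, map_mul, map_mul, map_inv, mul_inv_cancel_comm, map_pow] at this
  exact this

/-- In `C(σ^k)` every conjugate of `z` goes into `U`, if a Sylow 2-subgroup inside `C(σ)` has this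
property for its involutions. -/
theorem fusion_of_sylow [Finite G] {z s : G} {U : Set G} (hz : orderOf z = 2) (S : Sylow 2 G)
    (hS : ∀ x ∈ (S : Subgroup G), Commute s x)
    (hSU : ∀ x ∈ (S : Subgroup G), orderOf x = 2 → ∃ d : G, Commute s d ∧ d * x * d⁻¹ ∈ U)
    (k : ℕ) (u : G) (hu : IsConj z u) (hc : Commute (s ^ k) u) :
    ∃ d : G, Commute (s ^ k) d ∧ d * u * d⁻¹ ∈ U := by
  haveI : Fact (Nat.Prime 2) := ⟨Nat.prime_two⟩
  set D := centralizer ({s ^ k} : Set G) with hD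
  have hSD : (S : Subgroup G) ≤ D := fun x hx =>
    mem_centralizer_singleton_iff.2 ((hS x hx).pow_left k).symm.eq
  have huD : u ∈ D := mem_centralizer_singleton_iff.2 hc.symm.eq
  have huo : orderOf u = 2 := by
    obtain ⟨g, rfl⟩ := isConj_iff.1 hu
    exact ((MulAut.conj g).orderOf_eq z).trans hz
  have hp : IsPGroup 2 (zpowers (⟨u, huD⟩ : D)) := by
    refine IsPGroup.of_card (n := 1) ?_
    rw [Nat.card_zpowers, ← Subgroup.orderOf_coe, huo, pow_one]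
  obtain ⟨Q, hQ⟩ := hp.exists_le_sylow
  obtain ⟨g, hg⟩ := MulAction.exists_smul_eq D Q (S.subtype hSD)
  have hmem : (g : G) * u * (g : G)⁻¹ ∈ (S : Subgroup G) := by
    have h1 : MulAut.conj g • (⟨u, huD⟩ : D) ∈ MulAut.conj g • (Q : Subgroup D) :=
      Subgroup.smul_mem_pointwise_smul _ _ _ (hQ (Subgroup.mem_zpowers _))
    have h2 : ((g • Q : Sylow 2 D) : Subgroup D) = MulAut.conj g • (Q : Subgroup D) := rfl
    rw [← h2, hg] at h1
    exact h1
  obtain ⟨d, hd, hdU⟩ := hSU _ hmem (((MulAut.conj (g : G)).orderOf_eq u).trans huo)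
  refine ⟨d * g, (hd.pow_left k).mul_right (mem_centralizer_singleton_iff.1 g.2).symm, ?_⟩
  simpa [mul_assoc] using hdU

end Cfsg.Agent.SDBudget
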