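import Cfsg.Agent.Lib.U3Order.WeylBlock
import Cfsg.Agent.Lib.U3Order.WeylSylow
import Cfsg.Agent.Lib.Signalizer.PAction
import Cfsg.Agent.Lib.PGroup.Basic
import Mathlib.RingTheory.IntegralDomain
import Mathlib.FieldTheory.IsAlgClosed.AlgebraicClosure

/-!
# Odd block groups normalised by a semidihedral torus generator (helper90)

Matrices `1 ⊕ X` over `ZMod r`; `s` has `s 1 1 = s 2 2`, `s 1 2 ≠ 0`, `s 2 1 ≠ 0`, determinant `-1`, order `2 ^ v`.

* `commute_of_regular` : block matrices commuting with a non-scalar one commute;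
* `commute_of_normalized` : an odd `r'`-group of determinant one normalised by `s` centralises `s`;
* `commute_of_comm_mem` : so does `g` with `s g s⁻¹ g⁻¹` in such a group;
* `isCyclic_of_commute` : a group of determinant `± 1` commuting with `s` with no involution but `t` is cyclic.

For `Lib/SDBudget/TorusMod` (the torus theorem with a core).
-/

set_option autoImplicit false
set_option linter.unusedSectionVars false
set_option linter.style.haveILetI false

namespace Cfsg.Agent.SDBudget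

open Matrix
open Cfsg.Agent.U3Order (IsBlock GLr dt tMat)

variable {F : Type*} [Field F]

/-- Block form with a scalar lower block. -/
def IsScalarBlock (k : Matrix (Fin 3) (Fin 3) F) : Prop := k 1 2 = 0 ∧ k 2 1 = 0 ∧ k 1 1 = k 2 2

theorem commute_iff_entries {x y : Matrix (Fin 3) (Fin 3) F} (hx : IsBlock x) (hy : IsBlock y) :
    x * y = y * x ↔ x 1 2 * y 2 1 = y 1 2 * x 2 1 ∧ x 1 2 * (y 1 1 - y 2 2) = y 1 2 * (x 1 1 - x 2 2) ∧
      x 2 1 * (y 1 1 - y 2 2) = y 2 1 * (x 1 1 - x 2 2) := by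
  obtain ⟨a, b, c, d⟩ := hx
  obtain ⟨a', b', c', d'⟩ := hy
  constructor
  · intro h
    have h11 := congrFun (congrFun h 1) 1
    have h12 := congrFun (congrFun h 1) 2
    have h21 := congrFun (congrFun h 2) 1
    simp [Matrix.mul_apply, Fin.sum_univ_three, a, b, c, d, a', b', c', d'] at h11 h12 h21
    exact ⟨by linear_combination h11, by linear_combination -h12, by linear_combination h21⟩
  · rintro ⟨h1, h2, h3⟩
    ext i j
    fin_cases i <;> fin_cases j <;>
      simp [Matrix.mul_apply, Fin.sum_univ_three, a, b, c, d, a', b', c', d']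
    · ring
    · linear_combination h1
    · linear_combination -h2
    · linear_combination h3
    · linear_combination -h1

/-- The centraliser of a non-scalar block matrix is commutative. -/
theorem commute_of_regular {k x y : Matrix (Fin 3) (Fin 3) F} (hk : IsBlock k) (hx : IsBlock x) (hy : IsBlock y)
    (hns : ¬ IsScalarBlock k) (hxk : x * k = k * x) (hyk : y * k = k * y) : x * y = y * x := by
  obtain ⟨p1, p2, p3⟩ := (commute_iff_entries hx hk).1 hxk
  obtain ⟨q1, q2, q3⟩ := (commute_iff_entries hy hk).1 hyk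
  refine (commute_iff_entries hx hy).2 ?_
  by_cases h12 : k 1 2 = 0
  · by_cases h21 : k 2 1 = 0
    · have h3 : k 1 1 - k 2 2 ≠ 0 := fun e => hns ⟨h12, h21, sub_eq_zero.1 e⟩
      rw [h12, zero_mul] at p2 q2
      rw [h21, zero_mul] at p3 q3
      have a1 := (mul_eq_zero.1 p2).resolve_right h3
      have a2 := (mul_eq_zero.1 p3).resolve_right h3
      have b1 := (mul_eq_zero.1 q2).resolve_right h3
      have b2 := (mul_eq_zero.1 q3).resolve_right h3
      simp [a1, a2, b1, b2]
    · have h1 : x 1 2 * y 2 1 = y 1 2 * x 2 1 :=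
        mul_left_cancel₀ h21 (by linear_combination y 2 1 * p1 - x 2 1 * q1)
      refine ⟨h1, mul_left_cancel₀ h21 ?_, mul_left_cancel₀ h21 ?_⟩
      · linear_combination -(k 1 1 - k 2 2) * h1 - x 2 1 * q2 + y 2 1 * p2 + (y 1 1 - y 2 2) * p1 -
          (x 1 1 - x 2 2) * q1
      · linear_combination y 2 1 * p3 - x 2 1 * q3
  · refine ⟨mul_left_cancel₀ h12 ?_, mul_left_cancel₀ h12 ?_, mul_left_cancel₀ h12 ?_⟩
    · linear_combination x 1 2 * (-q1) + y 1 2 * p1
    · linear_combination y 1 2 * p2 - x 1 2 * q2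
    · linear_combination -x 1 2 * q3 - (y 1 1 - y 2 2) * p1 + y 2 1 * p2

theorem isBlock_mul {x y : Matrix (Fin 3) (Fin 3) F} (hx : IsBlock x) (hy : IsBlock y) : IsBlock (x * y) := by
  obtain ⟨a, b, c, d⟩ := hx
  obtain ⟨a', b', c', d'⟩ := hy
  refine ⟨?_, ?_, ?_, ?_⟩ <;> simp [Matrix.mul_apply, Fin.sum_univ_three, a, b, c, d, a', b', c', d']

theorem det_block {x : Matrix (Fin 3) (Fin 3) F} (hx : IsBlock x) :
    x.det = x 0 0 * (x 1 1 * x 2 2 - x 1 2 * x 2 1) := by
  obtain ⟨a, b, c, d⟩ := hx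
  rw [Matrix.det_fin_three, a, b, c, d]; ring

/-- An element of determinant one and odd order prime to the characteristic is `1` or has distinct eigenvalues. -/
theorem disc_ne_zero {k : Matrix (Fin 3) (Fin 3) F} (hk : IsBlock k) (h00 : k 0 0 = 1) (hd : k.det = 1) {n : ℕ}
    (hn : Odd n) (hnF : (n : F) ≠ 0) (h2 : (2 : F) ≠ 0) (hkn : k ^ n = 1) (hk1 : k ≠ 1) :
    (k 1 1 + k 2 2) ^ 2 - 4 ≠ 0 := by
  intro hdisc
  apply hk1
  rw [det_block hk, h00, one_mul] at hd
  obtain ⟨ε, hε, htr⟩ : ∃ ε : F, ε * ε = 1 ∧ k 1 1 + k 2 2 = 2 * ε := by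
    refine ⟨(k 1 1 + k 2 2) / 2, ?_, by field_simp⟩
    field_simp
    linear_combination hdisc
  set E : Matrix (Fin 3) (Fin 3) F := diagonal ![1, ε, ε] with hE
  have hEE : E * E = 1 := by
    rw [hE, diagonal_mul_diagonal, ← Matrix.diagonal_one]
    congr 1; funext i; fin_cases i <;> simp [hε]
  set N := E * k - 1 with hN
  obtain ⟨a, b, c, d⟩ := hk
  have hN2 : N * N = 0 := by
    ext i j
    fin_cases i <;> fin_cases j <;>
      simp [hN, hE, Matrix.mul_apply, Fin.sum_univ_three, a, b, c, d, h00]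
    · linear_combination (-hd) * ε * ε + (k 1 1 * ε * ε) * htr + (2 * k 1 1 * ε - 1) * hε
    · linear_combination ε * ε * k 1 2 * htr + 2 * ε * k 1 2 * hε
    · linear_combination ε * ε * k 2 1 * htr + 2 * ε * k 2 1 * hε
    · linear_combination (-hd) * ε * ε + (k 2 2 * ε * ε) * htr + (2 * k 2 2 * ε - 1) * hε
  have hkE : k = E * (1 + N) := by rw [hN, add_sub_cancel, ← mul_assoc, hEE, one_mul]
  have hcomm : Commute E (1 + N) := by
    rw [hN, add_sub_cancel]
    show E * (E * k) = E * k * E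
    ext i j
    fin_cases i <;> fin_cases j <;> simp [hE, Matrix.mul_apply, Fin.sum_univ_three, a, b, c, d] <;> ring
  have hEn : E ^ n = E := by
    obtain ⟨m, rfl⟩ := hn
    rw [pow_succ, pow_mul, pow_two, hEE, one_pow, one_mul]
  rw [hkE, hcomm.mul_pow, hEn, U3Order.one_add_pow hN2, mul_add, mul_one] at hkn
  have key : ∀ i j, E i j + (n : F) * (E * N) i j = (1 : Matrix (Fin 3) (Fin 3) F) i j := fun i j => by
    have := congrFun (congrFun hkn i) j
    simpa [Matrix.mul_smul, Matrix.smul_apply] using this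
  have hEN : E * N = k - E := by rw [hN, mul_sub, mul_one, ← mul_assoc, hEE, one_mul]
  rw [hEN] at key
  have h12 := key 1 2
  have h21 := key 2 1
  have h11 := key 1 1
  have h22 := key 2 2
  simp [hE] at h12 h21 h11 h22
  have e12 := h12.resolve_left hnF
  have e21 := h21.resolve_left hnF
  have e11 : k 1 1 = ε := by
    have h : (n : F) * (k 1 1 - k 2 2) = 0 := by linear_combination h11 - h22
    have := sub_eq_zero.1 ((mul_eq_zero.1 h).resolve_left hnF)
    exact mul_left_cancel₀ h2 (by linear_combination htr + this)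
  have e22 : k 2 2 = ε := by linear_combination htr - e11
  have eε : ε = 1 := by linear_combination h11 - (n : F) * e11
  ext i j
  fin_cases i <;> fin_cases j <;> simp [a, b, c, d, h00, e12, e21, e11, e22, eε]

variable {r : ℕ} [Fact r.Prime]

/-- A group of odd order prime to `r` and determinant one, normalised by `s`, centralises `s`. -/
theorem commute_of_normalized {v : ℕ} {s : GLr r} (hr2 : r ≠ 2) (hsB : IsBlock (s : Matrix (Fin 3) (Fin 3) (ZMod r)))
    (hs11 : (s : Matrix (Fin 3) (Fin 3) (ZMod r)) 1 1 = (s : Matrix (Fin 3) (Fin 3) (ZMod r)) 2 2)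
    (hs12 : (s : Matrix (Fin 3) (Fin 3) (ZMod r)) 1 2 ≠ 0) (hs00 : (s : Matrix (Fin 3) (Fin 3) (ZMod r)) 0 0 = 1)
    (hsd : dt s = -1) (hv : 2 ≤ v) (hso : orderOf s = 2 ^ v) {K : Subgroup (GLr r)}
    (hKo : Odd (Nat.card K)) (hKr : ¬ r ∣ Nat.card K)
    (hKB : ∀ k ∈ K, IsBlock (k : Matrix (Fin 3) (Fin 3) (ZMod r)) ∧
      (k : Matrix (Fin 3) (Fin 3) (ZMod r)) 0 0 = 1 ∧ dt k = 1)
    (hKs : s ∈ Subgroup.normalizer (K : Set (GLr r))) : ∀ k ∈ K, Commute k s := by
  classical
  have h2 : (2 : ZMod r) ≠ 0 := by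
    intro e
    have h : ((2 : ℕ) : ZMod r) = 0 := by exact_mod_cast e
    rw [ZMod.natCast_eq_zero_iff] at h
    exact hr2 ((Nat.prime_dvd_prime_iff_eq Fact.out Nat.prime_two).1 h)
  haveI := Fact.mk Nat.prime_two
  have hsns : ¬ IsScalarBlock (s : Matrix (Fin 3) (Fin 3) (ZMod r)) := fun h => hs12 h.1
  -- `s * s` is not scalar
  have hssns : ¬ IsScalarBlock ((s * s : GLr r) : Matrix (Fin 3) (Fin 3) (ZMod r)) := by
    rintro ⟨h, h', -⟩
    obtain ⟨a, b, c, d⟩ := hsB
    simp [Matrix.mul_apply, Fin.sum_univ_three, c, hs11] at h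
    have hs0 : (s : Matrix (Fin 3) (Fin 3) (ZMod r)) 2 2 = 0 := by
      have h2' : (2 : ZMod r) * ((s : Matrix (Fin 3) (Fin 3) (ZMod r)) 2 2 *
          (s : Matrix (Fin 3) (Fin 3) (ZMod r)) 1 2) = 0 := by linear_combination h
      exact (mul_eq_zero.1 ((mul_eq_zero.1 h2').resolve_left h2)).resolve_right hs12
    have hd := det_block ⟨a, b, c, d⟩
    rw [show (s : Matrix (Fin 3) (Fin 3) (ZMod r)).det = -1 from hsd, hs00, hs11, hs0] at hd
    have hss : s * s = 1 := Units.ext (by
      ext i j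
      fin_cases i <;> fin_cases j <;>
        simp [Matrix.mul_apply, Fin.sum_univ_three, a, b, c, d, hs00, hs11, hs0] <;> linear_combination hd)
    have h4 := orderOf_dvd_of_pow_eq_one (x := s) (n := 2) (by rw [pow_two, hss])
    rw [hso] at h4
    have := Nat.le_of_dvd two_pos h4
    have : 2 ^ 2 ≤ 2 ^ v := Nat.pow_le_pow_right two_pos hv
    omega
  have hA : IsPGroup 2 (Subgroup.zpowers s) := IsPGroup.of_card (n := v) (by rw [Nat.card_zpowers, hso])
  have key : ∀ l : ℕ, l.Prime → l ∣ Nat.card K → ∃ S : Subgroup (GLr r),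
      Signalizer.IsSylowIn l K S ∧ ∀ x ∈ S, Commute x s := by
    intro l hl hlK
    haveI := Fact.mk hl
    obtain ⟨S, hS, hSn⟩ := Signalizer.exists_invariant_sylow (q := l) hA K
      (fun e => Nat.not_even_iff_odd.2 hKo (even_iff_two_dvd.2 e)) (Subgroup.zpowers_le.2 hKs)
    refine ⟨S, hS, ?_⟩
    rcases eq_or_ne S ⊥ with e | hne
    · intro x hx; rw [e, Subgroup.mem_bot] at hx; rw [hx]; exact Commute.one_left s
    haveI : Nontrivial S := Subgroup.nontrivial_iff_ne_bot _ |>.2 hne
    obtain ⟨z, -, hzc, hzo⟩ := PGroup.exists_central_order_p hS.2.1 (top_ne_bot (α := Subgroup S))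
    set k : GLr r := ((z : S) : GLr r) with hk
    have hkS : k ∈ S := (z : S).2
    have hkK : k ∈ K := hS.1 hkS
    have hkc : ∀ x ∈ S, Commute k x := fun x hx =>
      (congrArg Subtype.val (Subgroup.mem_center_iff.1 hzc ⟨x, hx⟩)).symm
    have hko : orderOf k = l := by rw [hk, Subgroup.orderOf_coe, hzo]
    have hk1 : k ≠ 1 := fun e => hl.one_lt.ne' (by rw [← hko, e, orderOf_one])
    obtain ⟨hkB, hk00, hkd⟩ := hKB k hkK
    have hlodd : Odd l := hKo.of_dvd_nat hlK
    have hlr : ((l : ℕ) : ZMod r) ≠ 0 := fun e => by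
      rw [ZMod.natCast_eq_zero_iff] at e
      exact hKr (((Nat.prime_dvd_prime_iff_eq Fact.out hl).1 e) ▸ hlK)
    have hkl : (k : Matrix (Fin 3) (Fin 3) (ZMod r)) ^ l = 1 := by
      rw [← Units.val_pow_eq_pow_val, ← hko, pow_orderOf_eq_one, Units.val_one]
    have hdisc := disc_ne_zero hkB hk00 hkd hlodd hlr h2 hkl (fun e => hk1 (Units.ext e))
    set k' := s * k * s⁻¹ with hk'
    have hsS : s ∈ Subgroup.normalizer (S : Set (GLr r)) := hSn (Subgroup.mem_zpowers s)
    have hk'S : k' ∈ S := (Subgroup.mem_normalizer_iff.1 hsS k).1 hkS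
    obtain ⟨hk'B, hk'00, hk'd⟩ := hKB k' (hS.1 hk'S)
    have hcm : (k' : Matrix (Fin 3) (Fin 3) (ZMod r)) * (k : Matrix (Fin 3) (Fin 3) (ZMod r)) =
        (k : Matrix (Fin 3) (Fin 3) (ZMod r)) * (k' : Matrix (Fin 3) (Fin 3) (ZMod r)) := by
      rw [← Units.val_mul, ← Units.val_mul, (hkc k' hk'S).eq]
    obtain ⟨p1, p2, p3⟩ := (commute_iff_entries hk'B hkB).1 hcm
    have htr : (k' : Matrix (Fin 3) (Fin 3) (ZMod r)) 1 1 + (k' : Matrix (Fin 3) (Fin 3) (ZMod r)) 2 2 =
        (k : Matrix (Fin 3) (Fin 3) (ZMod r)) 1 1 + (k : Matrix (Fin 3) (Fin 3) (ZMod r)) 2 2 := by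
      have e : (k' : Matrix (Fin 3) (Fin 3) (ZMod r)).trace = (k : Matrix (Fin 3) (Fin 3) (ZMod r)).trace := by
        rw [hk', Units.val_mul, Units.val_mul]
        exact Matrix.trace_units_conj s _
      rw [Matrix.trace_fin_three, Matrix.trace_fin_three, hk00, hk'00] at e
      linear_combination e
    have hd1 := det_block hkB
    have hd2 := det_block hk'B
    rw [show (k : Matrix (Fin 3) (Fin 3) (ZMod r)).det = 1 from hkd, hk00, one_mul] at hd1
    rw [show (k' : Matrix (Fin 3) (Fin 3) (ZMod r)).det = 1 from hk'd, hk'00, one_mul] at hd2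
    -- `k' = k` or `k' = k⁻¹`
    have hdd : k' = k ∨ k' * k = 1 := by
      set M := (k : Matrix (Fin 3) (Fin 3) (ZMod r))
      set M' := (k' : Matrix (Fin 3) (Fin 3) (ZMod r))
      set δ := M 1 1 - M 2 2
      set δ' := M' 1 1 - M' 2 2
      set D := (M 1 1 + M 2 2) ^ 2 - 4
      have hD : δ ^ 2 + 4 * (M 1 2 * M 2 1) = D := by linear_combination 4 * hd1
      have hD' : δ' ^ 2 + 4 * (M' 1 2 * M' 2 1) = D := by
        linear_combination 4 * hd2 + (M 1 1 + M 2 2 + M' 1 1 + M' 2 2) * htr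
      have q12 : (M' 1 2 - M 1 2) * (M' 1 2 + M 1 2) * D = 0 := by
        linear_combination (M' 1 2) ^ 2 * (-hD) + (M 1 2) ^ 2 * hD' +
          (M' 1 2 * δ + M 1 2 * δ') * p2 + 4 * M' 1 2 * M 1 2 * p1
      have q21 : (M' 2 1 - M 2 1) * (M' 2 1 + M 2 1) * D = 0 := by
        linear_combination (M' 2 1) ^ 2 * (-hD) + (M 2 1) ^ 2 * hD' +
          (M' 2 1 * δ + M 2 1 * δ') * p3 - 4 * M' 2 1 * M 2 1 * p1
      have qδ : (δ' - δ) * (δ' + δ) * D = 0 := by
        linear_combination δ' ^ 2 * (-hD) + δ ^ 2 * hD' - 4 * M 2 1 * δ' * p2 - 4 * M' 1 2 * δ * p3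
      have r12 := eq_or_eq_neg_of_sq_eq_sq (M' 1 2) (M 1 2) (by
        linear_combination (mul_eq_zero.1 (show ((M' 1 2) ^ 2 - (M 1 2) ^ 2) * D = 0 by
          linear_combination q12)).resolve_right hdisc)
      have r21 := eq_or_eq_neg_of_sq_eq_sq (M' 2 1) (M 2 1) (by
        linear_combination (mul_eq_zero.1 (show ((M' 2 1) ^ 2 - (M 2 1) ^ 2) * D = 0 by
          linear_combination q21)).resolve_right hdisc)
      have rδ := eq_or_eq_neg_of_sq_eq_sq δ' δ (by
        linear_combination (mul_eq_zero.1 (show (δ' ^ 2 - δ ^ 2) * D = 0 by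
          linear_combination qδ)).resolve_right hdisc)
      have hsign : (M' 1 2 = M 1 2 ∧ M' 2 1 = M 2 1 ∧ δ' = δ) ∨
          (M' 1 2 = -M 1 2 ∧ M' 2 1 = -M 2 1 ∧ δ' = -δ) := by
        by_cases hb : M 1 2 = 0
        · have hb' : M' 1 2 = 0 := by rcases r12 with e | e <;> simp [e, hb]
          by_cases hc : M 2 1 = 0
          · have hc' : M' 2 1 = 0 := by rcases r21 with e | e <;> simp [e, hc]
            rcases rδ with e | e
            · exact Or.inl ⟨by rw [hb, hb'], by rw [hc, hc'], e⟩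
            · exact Or.inr ⟨by rw [hb, hb', neg_zero], by rw [hc, hc', neg_zero], e⟩
          · rcases r21 with e | e
            · exact Or.inl ⟨by rw [hb, hb'], e, mul_left_cancel₀ hc (by rw [e] at p3; linear_combination -p3)⟩
            · exact Or.inr ⟨by rw [hb, hb', neg_zero], e,
                mul_left_cancel₀ hc (by rw [e] at p3; linear_combination -p3)⟩
        · rcases r12 with e | e
          · exact Or.inl ⟨e, mul_left_cancel₀ hb (by rw [e] at p1; linear_combination -p1),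
              mul_left_cancel₀ hb (by rw [e] at p2; linear_combination -p2)⟩
          · exact Or.inr ⟨e, mul_left_cancel₀ hb (by rw [e] at p1; linear_combination -p1),
              mul_left_cancel₀ hb (by rw [e] at p2; linear_combination -p2)⟩
      rcases hsign with hc | e12
      · left
        have e1 : M' 1 1 = M 1 1 := mul_left_cancel₀ h2 (by linear_combination htr + hc.2.2)
        have e2 : M' 2 2 = M 2 2 := by linear_combination htr - e1
        refine Units.ext ?_
        obtain ⟨a, b, c, d⟩ := hkB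
        obtain ⟨a', b', c', d'⟩ := hk'B
        ext i j
        fin_cases i <;> fin_cases j <;> simp [M, M', a, b, c, d, a', b', c', d', hk00, hk'00] at hc e1 e2 ⊢ <;>
          first | exact e1 | exact e2 | exact hc.1 | exact hc.2.1
      · right
        obtain ⟨e12, e21, eδ⟩ := e12
        have e1 : M' 1 1 = M 2 2 := mul_left_cancel₀ h2 (by linear_combination htr + eδ)
        have e2 : M' 2 2 = M 1 1 := by linear_combination htr - e1
        refine Units.ext ?_
        rw [Units.val_mul, Units.val_one]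
        obtain ⟨a, b, c, d⟩ := hkB
        obtain ⟨a', b', c', d'⟩ := hk'B
        ext i j
        fin_cases i <;> fin_cases j <;>
          simp [Matrix.mul_apply, Fin.sum_univ_three, M, M', a, b, c, d, a', b', c', d', hk00, hk'00] at hd1 e12 e21 e1 e2 ⊢ <;>
          simp only [e1, e2, e12, e21] <;> first | linear_combination -hd1 | ring
    -- so `s * s` commutes with `k`
    have hss : Commute (s * s) k := by
      have e : s * s * k * (s * s)⁻¹ = k := by
        rw [show s * s * k * (s * s)⁻¹ = s * k' * s⁻¹ by rw [hk']; group]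
        rcases hdd with e | e
        · rw [e]; exact e
        · have e' : k' = k⁻¹ := eq_inv_of_mul_eq_one_left e
          rw [e', ← conj_inv, show s * k * s⁻¹ = k⁻¹ from e', inv_inv]
      exact mul_inv_eq_iff_eq_mul.1 e
    have hsk : Commute s k := Units.ext (commute_of_regular (k := ((s * s : GLr r) : Matrix _ _ _))
      (by rw [Units.val_mul]; exact isBlock_mul hsB hsB) hsB hkB hssns
      (by rw [Units.val_mul, mul_assoc])
      (by rw [← Units.val_mul, ← Units.val_mul, hss.eq]))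
    have hkns : ¬ IsScalarBlock (k : Matrix (Fin 3) (Fin 3) (ZMod r)) := by
      rintro ⟨g1, g2, g3⟩
      rw [g1, g3, zero_mul, sub_zero] at hd1
      exact hdisc (by rw [g3]; linear_combination -4 * hd1)
    intro x hx
    exact Units.ext (commute_of_regular hkB (hKB x (hS.1 hx)).1 hsB hkns
      (by rw [← Units.val_mul, ← Units.val_mul, (hkc x hx).eq]) (by rw [← Units.val_mul, ← Units.val_mul, hsk.eq]))
  intro k hk
  set H := K ⊓ Subgroup.centralizer ({s} : Set (GLr r))
  suffices h : H = K by exact Subgroup.mem_centralizer_singleton_iff.1 (h.ge hk).2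
  refine Subgroup.eq_of_le_of_card_ge inf_le_left (Nat.le_of_dvd Nat.card_pos ?_)
  refine (Nat.factorization_le_iff_dvd Nat.card_pos.ne' Nat.card_pos.ne').1 fun l => ?_
  by_cases hl : l.Prime ∧ l ∣ Nat.card K
  · obtain ⟨S, hS, hSc⟩ := key l hl.1 hl.2
    haveI := Fact.mk hl.1
    obtain ⟨S', rfl⟩ := hS.exists_sylow
    have hle : (S' : Subgroup K).map K.subtype ≤ H := fun x hx =>
      ⟨hS.1 hx, Subgroup.mem_centralizer_singleton_iff.2 (hSc x hx).eq⟩
    have hd := Subgroup.card_dvd_of_le hle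
    rw [Subgroup.card_map_of_injective K.subtype_injective, S'.card_eq_multiplicity] at hd
    exact (hl.1.pow_dvd_iff_le_factorization Nat.card_pos.ne').1 hd
  · push Not at hl
    rcases em l.Prime with h | h
    · rw [Nat.factorization_eq_zero_of_not_dvd (hl h)]; exact Nat.zero_le _
    · rw [Nat.factorization_eq_zero_of_not_prime _ h]; exact Nat.zero_le _

/-- An element whose commutator with `s` lies in such a group commutes with `s`. -/
theorem commute_of_comm_mem {G : Type*} [Group G] {K : Subgroup G} [Finite G] {s g : G} {v : ℕ}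
    (hso : orderOf s = 2 ^ v) (hKo : Odd (Nat.card K)) (hKs : ∀ k ∈ K, Commute k s)
    (hg : s * g * s⁻¹ * g⁻¹ ∈ K) : Commute g s := by
  set k := s * g * s⁻¹ * g⁻¹
  have hc : Commute k⁻¹ s := (hKs k hg).inv_left
  have e : g * s * g⁻¹ = k⁻¹ * s := by show _ = (s * g * s⁻¹ * g⁻¹)⁻¹ * s; group
  have h1 : (k⁻¹ * s) ^ 2 ^ v = 1 := by
    rw [← e, conj_pow, ← hso, pow_orderOf_eq_one]; simp
  rw [hc.mul_pow, ← hso, pow_orderOf_eq_one, mul_one, hso] at h1
  have h2 := orderOf_dvd_of_pow_eq_one h1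
  have h3 : Odd (orderOf k⁻¹) := hKo.of_dvd_nat (K.orderOf_dvd_natCard (inv_mem hg))
  have h4 : orderOf k⁻¹ = 1 := Nat.dvd_one.1 (by
    have hco : (orderOf k⁻¹).Coprime (2 ^ v) := Nat.Coprime.pow_right v (Nat.coprime_two_right.2 h3)
    exact hco ▸ Nat.dvd_gcd dvd_rfl h2)
  rw [orderOf_eq_one_iff.1 h4, one_mul] at e
  exact mul_inv_eq_iff_eq_mul.1 e

/-- A group of determinant `± 1` commuting with `s` and with at most the involution `t` is cyclic. -/
theorem isCyclic_of_commute {s : GLr r} (hr2 : r ≠ 2) (hsB : IsBlock (s : Matrix (Fin 3) (Fin 3) (ZMod r)))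
    (hs11 : (s : Matrix (Fin 3) (Fin 3) (ZMod r)) 1 1 = (s : Matrix (Fin 3) (Fin 3) (ZMod r)) 2 2)
    (hs12 : (s : Matrix (Fin 3) (Fin 3) (ZMod r)) 1 2 ≠ 0) (hs21 : (s : Matrix (Fin 3) (Fin 3) (ZMod r)) 2 1 ≠ 0)
    {T : Subgroup (GLr r)}
    (hT : ∀ g ∈ T, IsBlock (g : Matrix (Fin 3) (Fin 3) (ZMod r)) ∧
      (g : Matrix (Fin 3) (Fin 3) (ZMod r)) 0 0 = 1 ∧ (dt g = 1 ∨ dt g = -1) ∧ Commute g s)
    (hinv : ∀ g ∈ T, g * g = 1 → g = 1 ∨ (g : Matrix (Fin 3) (Fin 3) (ZMod r)) = tMat) : IsCyclic T := by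
  classical
  set β := (s : Matrix (Fin 3) (Fin 3) (ZMod r)) 1 2
  set γ := (s : Matrix (Fin 3) (Fin 3) (ZMod r)) 2 1
  let L := AlgebraicClosure (ZMod r)
  let ι : ZMod r →+* L := algebraMap (ZMod r) L
  obtain ⟨θ, hθ⟩ := IsAlgClosed.exists_eq_mul_self (ι (β * γ))
  have hshape : ∀ g ∈ T, (g : Matrix (Fin 3) (Fin 3) (ZMod r)) 1 1 = (g : Matrix (Fin 3) (Fin 3) (ZMod r)) 2 2 ∧
      (g : Matrix (Fin 3) (Fin 3) (ZMod r)) 1 2 * γ = β * (g : Matrix (Fin 3) (Fin 3) (ZMod r)) 2 1 := by
    intro g hg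
    obtain ⟨hB, -, -, hc⟩ := hT g hg
    obtain ⟨e1, e2, -⟩ := (commute_iff_entries hB hsB).1 (by rw [← Units.val_mul, ← Units.val_mul, hc.eq])
    rw [hs11, sub_self, mul_zero, eq_comm, mul_eq_zero] at e2
    exact ⟨sub_eq_zero.1 (e2.resolve_left hs12), e1⟩
  let ψ : T →* L :=
    { toFun := fun g => ι (((g : GLr r) : Matrix (Fin 3) (Fin 3) (ZMod r)) 1 1) +
        ι (((g : GLr r) : Matrix (Fin 3) (Fin 3) (ZMod r)) 1 2 * β⁻¹) * θ
      map_one' := by simp
      map_mul' := fun g h => by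
        obtain ⟨hgB, -⟩ := hT g g.2
        obtain ⟨hhB, -⟩ := hT h h.2
        obtain ⟨hg1, hg2⟩ := hshape g g.2
        obtain ⟨hh1, hh2⟩ := hshape h h.2
        obtain ⟨a, b, c, d⟩ := hgB
        obtain ⟨a', b', c', d'⟩ := hhB
        set x := ((g : GLr r) : Matrix (Fin 3) (Fin 3) (ZMod r))
        set y := ((h : GLr r) : Matrix (Fin 3) (Fin 3) (ZMod r))
        have e21 : y 2 1 = y 1 2 * β⁻¹ * γ := by
          field_simp
          first | linear_combination hh2 | linear_combination -hh2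
        have e11 : (x * y) 1 1 = x 1 1 * y 1 1 + (x 1 2 * β⁻¹) * (y 1 2 * β⁻¹) * (β * γ) := by
          simp [Matrix.mul_apply, Fin.sum_univ_three, c]
          rw [e21]; field_simp
        have e12 : (x * y) 1 2 * β⁻¹ = x 1 1 * (y 1 2 * β⁻¹) + (x 1 2 * β⁻¹) * y 1 1 := by
          simp [Matrix.mul_apply, Fin.sum_univ_three, c]
          rw [hh1]; ring
        show ι ((((g * h : T) : GLr r) : Matrix (Fin 3) (Fin 3) (ZMod r)) 1 1) +
          ι ((((g * h : T) : GLr r) : Matrix (Fin 3) (Fin 3) (ZMod r)) 1 2 * β⁻¹) * θ = _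
        rw [Subgroup.coe_mul, Units.val_mul, e11, e12, map_add, map_add, map_mul, map_mul, map_mul, hθ]
        simp only [map_mul]
        ring }
  refine isCyclic_of_injective_ringHom ψ ((injective_iff_map_eq_one ψ).2 fun g hg => ?_)
  obtain ⟨hB, h00, hd, -⟩ := hT g g.2
  obtain ⟨h11, h12⟩ := hshape g g.2
  set x := ((g : GLr r) : Matrix (Fin 3) (Fin 3) (ZMod r)) with hx
  set u : L := ι (x 1 2 * β⁻¹) * θ with hu
  have hg' : ι (x 1 1) + u = 1 := hg
  have hdet : ι (dt (g : GLr r)) = (ι (x 1 1) - u) * (ι (x 1 1) + u) := by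
    have e : dt (g : GLr r) = x 1 1 * x 1 1 - (x 1 2 * β⁻¹) * (x 1 2 * β⁻¹) * (β * γ) := by
      rw [show dt (g : GLr r) = x.det from rfl, det_block hB, h00, one_mul, ← h11]
      field_simp
      linear_combination x 1 2 * h12
    rw [e, map_sub, map_mul, map_mul, map_mul, hθ, hu]; ring
  rw [hg', mul_one] at hdet
  have h2 : (2 : ZMod r) ≠ 0 := by
    intro e
    have h : ((2 : ℕ) : ZMod r) = 0 := by exact_mod_cast e
    rw [ZMod.natCast_eq_zero_iff] at h
    exact hr2 ((Nat.prime_dvd_prime_iff_eq Fact.out Nat.prime_two).1 h)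
  have h2L : (2 : L) ≠ 0 := by
    rw [show (2 : L) = ι 2 from (map_ofNat ι 2).symm]
    exact fun e => h2 (ι.injective (by rw [e, map_zero]))
  have hθ0 : θ ≠ 0 := fun e => by
    rw [e, mul_zero] at hθ
    exact mul_ne_zero hs12 hs21 (ι.injective (by rw [hθ, map_zero]))
  rcases hd with hd | hd <;> rw [hd] at hdet
  · -- `g = 1`
    rw [map_one] at hdet
    have hu0 : u = 0 := mul_left_cancel₀ h2L (by linear_combination hg' + hdet)
    have e12 : x 1 2 = 0 := by
      rcases mul_eq_zero.1 hu0 with e | e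
      · exact (mul_eq_zero.1 (ι.injective (by rw [e, map_zero]))).resolve_right (inv_ne_zero hs12)
      · exact absurd e hθ0
    have e11 : x 1 1 = 1 := ι.injective (by rw [map_one]; linear_combination hg' - hu0)
    have e21 : x 2 1 = 0 := by
      rw [e12, zero_mul, eq_comm, mul_eq_zero] at h12
      exact h12.resolve_left hs12
    obtain ⟨a, b, c, d⟩ := hB
    refine Subtype.ext (Units.ext ?_)
    show x = 1
    ext i j
    fin_cases i <;> fin_cases j <;> simp [a, b, c, d, h00, e12, e11, e21, ← h11]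
  · -- `g` would be an involution with eigenvalue one
    rw [map_neg, map_one] at hdet
    have e11 : x 1 1 = 0 := ι.injective (by
      rw [map_zero]; exact mul_left_cancel₀ h2L (by linear_combination hg' - hdet))
    obtain ⟨a, b, c, d⟩ := hB
    have hbg : x 1 2 * x 2 1 = 1 := by
      have e := det_block ⟨a, b, c, d⟩
      rw [show x.det = -1 from hd, h00, e11] at e
      linear_combination e
    have hgg : (g : GLr r) * g = 1 := Units.ext (by
      rw [Units.val_mul, Units.val_one, ← hx]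
      ext i j
      fin_cases i <;> fin_cases j <;>
        simp [Matrix.mul_apply, Fin.sum_univ_three, a, b, c, d, h00, e11, ← h11] <;> linear_combination hbg)
    rcases hinv g g.2 hgg with e | e
    · exact Subtype.ext e
    · exfalso
      have := congrFun (congrFun e 1) 1
      rw [← hx, e11] at this
      simp [tMat] at this

end Cfsg.Agent.SDBudget
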