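import Cfsg.Agent.EqLemmas
import Mathlib.RingTheory.Int.Basic
import Mathlib.Data.Nat.Factorization.Basic
import Mathlib.Tactic

/-!
# Regularity in the semidihedral case: the arithmetic (helper90)

`notes/sd_regularity_helper90.md`, section 1.  `Q = ± q` with `Q % 4 = 3`, `J = |G : C(z)|`, `i = |O : C_O(t)|`,
`J Q (X - Q)² = i² q² (Q + 1)² (Q - 1) X (X - 1)`.

* `two_mul_succ_dvd` : `2 (Q + 1) ∣ X - Q` if `v_r(J) ≤ 2 v_r(i)` for the odd primes `r ∣ Q + 1`;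
* `classify_of_dvd` : then `X = Q³`, or `X = Q² + Q - 1`, or `(q, X)` is `(5, 35)` or `(9, 135)`;
* `classify` : both together.

No hypothesis on the core `O` of `C(z)` is involved.
-/

set_option autoImplicit false

namespace Cfsg.Agent.SDBudget

/-- The congruence given by the torus primes. -/
theorem two_mul_succ_dvd {q J i : ℕ} {Q X : ℤ} (hQq : Q.natAbs = q) (hq : 3 ≤ q) (hQ4 : Q % 4 = 3)
    (hX0 : X ≠ 0) (hX1 : X ≠ 1) (hXQ : X ≠ Q) (hX4 : (X - 1) % 4 = 2) (hJ : Odd J) (hi : Odd i)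
    (hr : ∀ r : ℕ, r.Prime → r ≠ 2 → r ∣ (Q + 1).natAbs → J.factorization r ≤ 2 * i.factorization r)
    (hE : (J : ℤ) * Q * (X - Q) ^ 2 = (i : ℤ) ^ 2 * Q ^ 2 * (Q + 1) ^ 2 * (Q - 1) * (X * (X - 1))) :
    2 * (Q + 1) ∣ X - Q ∧ ¬ 4 * (Q + 1) ∣ X - Q := by
  have hnat := congrArg Int.natAbs hE
  simp only [Int.natAbs_mul, Int.natAbs_pow, Int.natAbs_natCast, hQq] at hnat
  have hJ0 : J ≠ 0 := fun e => by rw [e] at hJ; exact absurd hJ (by decide)
  have hi0 : i ≠ 0 := fun e => by rw [e] at hi; exact absurd hi (by decide)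
  have hd : (X - Q).natAbs ≠ 0 := by omega
  have h1 : (Q + 1).natAbs ≠ 0 := by omega
  have hv := fun r : ℕ => congrArg (fun x => x.factorization r) hnat
  have hq0 : q ≠ 0 := by omega
  have hm : (Q - 1).natAbs ≠ 0 := by omega
  have hx0 : X.natAbs ≠ 0 := by omega
  have hx1 : (X - 1).natAbs ≠ 0 := by omega
  rw [Nat.factorization_mul (mul_ne_zero hJ0 hq0) (pow_ne_zero 2 hd), Nat.factorization_mul hJ0 hq0,
    Nat.factorization_mul (mul_ne_zero (mul_ne_zero (mul_ne_zero (pow_ne_zero 2 hi0) (pow_ne_zero 2 hq0))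
      (pow_ne_zero 2 h1)) hm) (mul_ne_zero hx0 hx1),
    Nat.factorization_mul (mul_ne_zero (mul_ne_zero (pow_ne_zero 2 hi0) (pow_ne_zero 2 hq0))
      (pow_ne_zero 2 h1)) hm,
    Nat.factorization_mul (mul_ne_zero (pow_ne_zero 2 hi0) (pow_ne_zero 2 hq0)) (pow_ne_zero 2 h1),
    Nat.factorization_mul (pow_ne_zero 2 hi0) (pow_ne_zero 2 hq0),
    Nat.factorization_mul hx0 hx1, Nat.factorization_pow, Nat.factorization_pow, Nat.factorization_pow,
    Nat.factorization_pow] at hv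
  simp only [Finsupp.coe_add, Pi.add_apply, Finsupp.coe_smul, Pi.smul_apply, smul_eq_mul] at hv
  have key : (X - Q).natAbs.factorization 2 = (Q + 1).natAbs.factorization 2 + 1 := by
    have hv := hv 2
    have h0 : ∀ m, m % 2 = 1 → m.factorization 2 = 0 := fun m hm' =>
      Nat.factorization_eq_zero_of_not_dvd (by omega)
    have h2 : ∀ m, m % 4 = 2 → m.factorization 2 = 1 := fun m hm' => by
      obtain ⟨k, rfl⟩ : ∃ k, m = 2 * k := ⟨m / 2, by omega⟩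
      rw [Nat.factorization_mul two_ne_zero (by omega), Finsupp.add_apply,
        Nat.prime_two.factorization_self, h0 k (by omega)]
    rw [h0 J (Nat.odd_iff.1 hJ), h0 i (Nat.odd_iff.1 hi), h0 q (by omega),
      h2 (Q - 1).natAbs (by omega), h0 X.natAbs (by omega), h2 (X - 1).natAbs (by omega)] at hv
    omega
  refine ⟨?_, fun h => ?_⟩
  swap
  · have h' := Int.natAbs_dvd_natAbs.2 h
    rw [Int.natAbs_mul, show (4 : ℤ).natAbs = 2 ^ 2 from rfl] at h'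
    have h'' := (Nat.factorization_le_iff_dvd (by omega) hd).2 h' 2
    rw [Nat.factorization_mul (by norm_num) h1, Finsupp.add_apply, Nat.factorization_pow,
      Finsupp.smul_apply, Nat.prime_two.factorization_self, smul_eq_mul, key] at h''
    omega
  rw [← Int.natAbs_dvd_natAbs, Int.natAbs_mul, show (2 : ℤ).natAbs = 2 from rfl]
  refine (Nat.factorization_le_iff_dvd (by omega) hd).1 fun r => ?_
  have hv := hv r
  rw [Nat.factorization_mul two_ne_zero h1, Finsupp.add_apply, Nat.prime_two.factorization,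
    Finsupp.single_apply]
  rcases eq_or_ne r 2 with rfl | hr2
  · rw [if_pos rfl]
    omega
  · rw [if_neg (Ne.symm hr2), zero_add]
    by_cases hrp : r.Prime ∧ r ∣ (Q + 1).natAbs
    · obtain ⟨hrp, hrd⟩ := hrp
      have h' := hr r hrp hr2 hrd
      have hrq : q.factorization r = 0 := Nat.factorization_eq_zero_of_not_dvd fun h => by
        have e1 : (r : ℤ) ∣ Q := Int.ofNat_dvd_left.2 (hQq ▸ h)
        have e2 : (r : ℤ) ∣ 1 := by simpa using dvd_sub (Int.ofNat_dvd_left.2 hrd) e1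
        exact hrp.not_dvd_one (by exact_mod_cast e2)
      omega
    · push Not at hrp
      rcases em r.Prime with h | h
      · rw [Nat.factorization_eq_zero_of_not_dvd (hrp h)]; exact Nat.zero_le _
      · rw [Nat.factorization_eq_zero_of_not_prime _ h]; exact Nat.zero_le _

/-- The candidates for `q ≤ 9`. -/
def smallCands (Q : ℤ) : List ℤ :=
  (List.range 1623).filterMap fun a : ℕ =>
    let A : ℤ := (a : ℤ) - 811
    if decide (A % 4 = 2 ∧ (Q ^ 2 * (Q - 1)) % A = 0 ∧ (Q ^ 2 - A - Q) % (2 * (Q + 1)) = 0 ∧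
        (Q ^ 2 - A - Q) % (4 * (Q + 1)) ≠ 0) then
      some (Q ^ 2 - A)
    else none

theorem small_check : ([-5, 7, -9] : List ℤ).all (fun Q => (smallCands Q).all fun X =>
    decide (X = Q ∨ X = Q ^ 3 ∨ X = Q ^ 2 + Q - 1 ∨ (Q = -5 ∧ X = 35) ∨ (Q = -9 ∧ X = 135))) = true := by
  decide +kernel

/-- A small multiple of `Q + 1` vanishes. -/
theorem eq_neg_of_dvd {q : ℕ} {Q k e : ℤ} (hQq : Q.natAbs = q) (hq : 11 ≤ q) (hk : 2 * k.natAbs ≤ q + 1)
    (he : 3 * e.natAbs ≤ q) (h : Q + 1 ∣ k + e) : k = -e := by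
  have h0 : k + e = 0 := Int.eq_zero_of_dvd_of_natAbs_lt_natAbs h (by omega)
  omega

/-- **The classification of the signed degree.** -/
theorem classify_of_dvd {p n q : ℕ} {Q X : ℤ} (hp : p.Prime) (hn : 1 ≤ n) (hqp : q = p ^ n) (hq5 : 5 ≤ q)
    (hQq : Q.natAbs = q) (hQ4 : Q % 4 = 3) (hXQ : X ≠ Q) (hX4 : (X - 1) % 4 = 2)
    (hdiv : Q ^ 2 - X ∣ X * (X - 1)) (hw : 2 * (Q + 1) ∣ X - Q) (hw4 : ¬ 4 * (Q + 1) ∣ X - Q) :
    X = Q ^ 3 ∨ X = Q ^ 2 + Q - 1 ∨ (q = 5 ∧ X = 35) ∨ (q = 9 ∧ X = 135) := by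
  obtain ⟨w, hw⟩ := hw
  have hp3 : 3 ≤ p := by
    rcases hp.eq_two_or_odd with h | h
    · exfalso
      have h2 : 2 ∣ q := by rw [hqp, h]; exact dvd_pow_self 2 (by omega)
      omega
    · have := hp.two_le; omega
  have hQsq : Q ^ 2 % 4 = 1 := by rw [pow_two, Int.mul_emod, hQ4]; norm_num
  -- `A = Q² - X` divides `Q² (Q - 1)`
  have hA4 : (Q ^ 2 - X) % 4 = 2 := by omega
  have hA1 : Q ^ 2 - X ∣ Q ^ 2 * (Q ^ 2 - 1) := by
    rw [show Q ^ 2 * (Q ^ 2 - 1) = X * (X - 1) + (Q ^ 2 - X) * (Q ^ 2 + X - 1) by ring]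
    exact dvd_add hdiv (dvd_mul_right _ _)
  have hA2 : Q ^ 2 - X ∣ Q ^ 2 * (Q - 1) := by
    obtain ⟨D, hD⟩ : (2 : ℤ) ∣ Q ^ 2 - X := ⟨(Q ^ 2 - X) / 2, by omega⟩
    obtain ⟨m, hm⟩ : (2 : ℤ) ∣ Q - 1 := ⟨(Q - 1) / 2, by omega⟩
    have hc : IsCoprime D (Q + 1) := by
      have e : 2 * D = 2 + (Q + 1) * (Q - 2 - 2 * w) := by linear_combination -hD - hw
      obtain ⟨a, b, hab⟩ : IsCoprime D 2 := ⟨1, -((D - 1) / 2), by omega⟩
      exact ⟨a + 2 * b, -(b * (Q - 2 - 2 * w)), by linear_combination hab + b * e⟩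
    rw [hD, hm, show Q ^ 2 * (2 * m) = 2 * (Q ^ 2 * m) by ring]
    refine mul_dvd_mul_left 2 (hc.dvd_of_dvd_mul_right ?_)
    rw [hD, show Q ^ 2 * (Q ^ 2 - 1) = 2 * (Q ^ 2 * m * (Q + 1)) by
      linear_combination Q ^ 2 * (Q + 1) * hm] at hA1
    exact (mul_dvd_mul_iff_left two_ne_zero).1 hA1
  by_cases hq9 : q ≤ 9
  · -- small fields
    have hQc : Q = -5 ∨ Q = 7 ∨ Q = -9 := by omega
    set A := Q ^ 2 - X with hA
    have hb : A.natAbs ≤ 810 := by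
      have h := Nat.le_of_dvd ?_ (Int.natAbs_dvd_natAbs.2 hA2)
      · rcases hQc with rfl | rfl | rfl <;> norm_num at h ⊢ <;> omega
      · rcases hQc with rfl | rfl | rfl <;> norm_num
    have hmem : X ∈ smallCands Q := by
      rw [smallCands, List.mem_filterMap]
      refine ⟨(A + 811).toNat, List.mem_range.2 (by omega), ?_⟩
      rw [show ((A + 811).toNat : ℤ) - 811 = A by omega]
      rw [if_pos]
      · rw [hA]; simp
      · refine decide_eq_true ⟨hA4, Int.emod_eq_zero_of_dvd hA2, Int.emod_eq_zero_of_dvd ⟨w, ?_⟩, ?_⟩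
        · rw [hA]; linear_combination hw
        · rw [show Q ^ 2 - A - Q = X - Q by rw [hA]; ring]
          exact fun h => hw4 (Int.dvd_of_emod_eq_zero h)
    have hQmem : Q ∈ ([-5, 7, -9] : List ℤ) := by rcases hQc with rfl | rfl | rfl <;> simp
    have h := of_decide_eq_true (List.all_eq_true.1 (List.all_eq_true.1 small_check Q hQmem) X hmem)
    rcases h with h | h | h | ⟨h, h'⟩ | ⟨h, h'⟩
    · exact absurd h hXQ
    · exact Or.inl h
    · exact Or.inr (Or.inl h)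
    · exact Or.inr (Or.inr (Or.inl ⟨by omega, h'⟩))
    · exact Or.inr (Or.inr (Or.inr ⟨by omega, h'⟩))
  have hq11 : 11 ≤ q := by omega
  -- `A = σ p ^ j d` and `Q - 1 = d k`
  set A := Q ^ 2 - X with hA
  have hA2' : A.natAbs ∣ p ^ (2 * n) * (Q - 1).natAbs := by
    have h := Int.natAbs_dvd_natAbs.2 hA2
    rwa [Int.natAbs_mul, Int.natAbs_pow, hQq, hqp, ← pow_mul, mul_comm n 2] at h
  obtain ⟨a, b, ha, hb, hab⟩ := Nat.dvd_mul.1 hA2'
  obtain ⟨j, hj, rfl⟩ := (Nat.dvd_prime_pow hp).1 ha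
  obtain ⟨k₀, hk₀⟩ := hb
  obtain ⟨σ, hσ, hAσ⟩ : ∃ σ : ℤ, (σ = 1 ∨ σ = -1) ∧ A = σ * ((p : ℤ) ^ j * b) := by
    rcases Int.natAbs_eq A with h | h
    · exact ⟨1, Or.inl rfl, by rw [h, ← hab]; push_cast; ring⟩
    · exact ⟨-1, Or.inr rfl, by rw [h, ← hab]; push_cast; ring⟩
  obtain ⟨k, hk, hkabs⟩ : ∃ k : ℤ, Q - 1 = (b : ℤ) * k ∧ k.natAbs = k₀ := by
    rcases Int.natAbs_eq (Q - 1) with h | h
    · exact ⟨k₀, by rw [h, hk₀]; push_cast; ring, Int.natAbs_natCast _⟩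
    · exact ⟨-k₀, by rw [h, hk₀]; push_cast; ring, by rw [Int.natAbs_neg, Int.natAbs_natCast]⟩
  -- `b` is even, so `k` is odd and small
  have hpj : (p ^ j) % 2 = 1 := by
    rw [Nat.pow_mod, (hp.eq_two_or_odd).resolve_left (by omega), one_pow, Nat.one_mod]
  have hb2 : 2 ∣ b := by
    have h : 2 ∣ p ^ j * b := by rw [hab]; omega
    exact (Nat.prime_two.dvd_mul.1 h).resolve_left (by omega)
  obtain ⟨b', rfl⟩ := hb2
  have hm0 : (Q - 1).natAbs ≠ 0 := by omega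
  have hb0 : b' ≠ 0 := fun e => hm0 (by rw [hk₀, e]; simp)
  have hk2 : 2 * k.natAbs ≤ q + 1 := by
    have h : 2 * k₀ ≤ 2 * b' * k₀ := Nat.mul_le_mul_right _ (by omega)
    rw [hkabs]; omega
  have hkodd : k % 2 = 1 := by
    by_contra h
    obtain ⟨k', rfl⟩ : (2 : ℤ) ∣ k := ⟨k / 2, by omega⟩
    have : Q - 1 = 4 * ((b' : ℤ) * k') := by rw [hk]; push_cast; ring
    omega
  have hpQ : (p : ℤ) ∣ Q := Int.ofNat_dvd_left.2 (by rw [hQq, hqp]; exact dvd_pow_self p (by omega))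
  have hpk : ¬ (p : ℤ) ∣ k := fun h => by
    have h1 : (p : ℤ) ∣ 1 := by simpa using dvd_sub hpQ (hk ▸ h.mul_left ((2 * b' : ℕ) : ℤ) :
      (p : ℤ) ∣ Q - 1)
    exact hp.not_dvd_one (by exact_mod_cast h1)
  -- the congruence
  set e := σ * (p : ℤ) ^ j with he
  have hcong : Q + 1 ∣ k + e := by
    obtain ⟨ev, hev⟩ : ∃ ev : ℤ, e = 2 * ev + 1 := by
      refine ⟨(e - 1) / 2, ?_⟩
      have h1 : ((p ^ j : ℕ) : ℤ) % 2 = 1 := by exact_mod_cast hpj
      push_cast at h1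
      rcases hσ with h | h <;> rw [he, h] <;> omega
    obtain ⟨kv, hkv⟩ : ∃ kv : ℤ, k = 2 * kv + 1 := ⟨(k - 1) / 2, by omega⟩
    obtain ⟨Qv, hQv⟩ : ∃ Qv : ℤ, Q = 2 * Qv + 1 := ⟨(Q - 1) / 2, by omega⟩
    -- `A k = e (Q - 1)` and `A = Q (Q - 1) - 2 (Q + 1) w`
    have e1 : (Q * (Q - 1) - 2 * (Q + 1) * w) * k = e * (Q - 1) := by
      rw [he]
      linear_combination k * hAσ - k * hA + k * hw - σ * (p : ℤ) ^ j * hk
    have h2 : 2 * (k + e) = (Q + 1) * (e - k * (Q - 2) + 2 * w * k) := by linear_combination e1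
    refine ⟨ev + 1 - 2 * kv * Qv + kv - Qv + w * k, mul_left_cancel₀ two_ne_zero (h2.trans ?_)⟩
    rw [hev, hkv, hQv]; ring
  have small : ∀ (l : ℕ) (s : ℤ), (s = 1 ∨ s = -1) → l < n → Q + 1 ∣ k + s * (p : ℤ) ^ l →
      l = 0 ∧ k = -s := by
    intro l s hs hl hd
    have h3 : 3 * p ^ l ≤ q := by
      rw [hqp]
      calc 3 * p ^ l ≤ p * p ^ l := Nat.mul_le_mul_right _ hp3
        _ = p ^ (l + 1) := by rw [pow_succ']
        _ ≤ p ^ n := Nat.pow_le_pow_right hp.pos hl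
    have habs : (s * (p : ℤ) ^ l).natAbs = p ^ l := by
      rw [Int.natAbs_mul, Int.natAbs_pow, Int.natAbs_natCast]
      rcases hs with rfl | rfl <;> simp
    have hks := eq_neg_of_dvd hQq hq11 hk2 (habs.symm ▸ h3) hd
    have hl0 : l = 0 := by
      by_contra h
      exact hpk (hks ▸ (dvd_mul_of_dvd_right (dvd_pow_self _ h) s).neg_right)
    refine ⟨hl0, ?_⟩
    rw [hks, hl0, pow_zero, mul_one]
  obtain ⟨η, hη, hQη⟩ : ∃ η : ℤ, (η = 1 ∨ η = -1) ∧ (q : ℤ) = η * Q := by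
    rcases Int.natAbs_eq Q with h | h
    · exact ⟨1, Or.inl rfl, by rw [hQq] at h; omega⟩
    · exact ⟨-1, Or.inr rfl, by rw [hQq] at h; omega⟩
  have hσσ : σ * σ = 1 := by rcases hσ with rfl | rfl <;> norm_num
  have hX : X = Q ^ 2 - e * ((2 * b' : ℕ) : ℤ) := by
    rw [he]; linear_combination hA - hAσ
  rcases lt_or_ge j n with hlt | hge
  · -- `j < n`
    obtain ⟨rfl, rfl⟩ := small j σ hσ hlt hcong
    rw [he, pow_zero] at hX
    exact Or.inr (Or.inl (by linear_combination hX - hk))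
  obtain ⟨l, rfl⟩ := Nat.exists_eq_add_of_le hge
  have hqc : (p : ℤ) ^ n = η * Q := by rw [← hQη, hqp, Nat.cast_pow]
  rcases lt_or_ge l n with hlt | hge'
  · -- `n ≤ j < 2 n`: only `X = Q`
    exfalso
    have hd : Q + 1 ∣ k + (-(σ * η)) * (p : ℤ) ^ l := by
      rw [he, pow_add, hqc] at hcong
      have h := dvd_sub hcong (dvd_mul_right (Q + 1) (σ * η * (p : ℤ) ^ l))
      rwa [show k + σ * (η * Q * (p : ℤ) ^ l) - (Q + 1) * (σ * η * (p : ℤ) ^ l) =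
        k + -(σ * η) * (p : ℤ) ^ l by ring] at h
    obtain ⟨rfl, rfl⟩ := small l (-(σ * η)) (by rcases hσ with rfl | rfl <;> rcases hη with rfl | rfl <;> norm_num) hlt hd
    rw [he, pow_add, hqc, pow_zero] at hX
    exact hXQ (by linear_combination hX + Q * hk)
  · -- `j = 2 n`
    obtain rfl : l = n := le_antisymm (by omega) hge'
    have hηη : η * η = 1 := by rcases hη with rfl | rfl <;> norm_num
    have hd : Q + 1 ∣ k + σ := by
      rw [he, pow_add, hqc, show η * Q * (η * Q) = η * η * (Q * Q) by ring, hηη, one_mul] at hcong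
      have h := dvd_sub hcong (dvd_mul_right (Q + 1) (σ * (Q - 1)))
      rwa [show k + σ * (Q * Q) - (Q + 1) * (σ * (Q - 1)) = k + σ by ring] at h
    have hks := eq_neg_of_dvd hQq hq11 hk2 (by rcases hσ with rfl | rfl <;> simp <;> omega) hd
    subst hks
    rw [he, pow_add, hqc, show η * Q * (η * Q) = η * η * (Q * Q) by ring, hηη, one_mul] at hX
    exact Or.inl (by linear_combination hX - Q ^ 2 * hk)

/-- **Regularity**, given the torus primes. -/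
theorem classify {p n q J i : ℕ} {Q X : ℤ} (hp : p.Prime) (hn : 1 ≤ n) (hqp : q = p ^ n) (hq : 5 ≤ q)
    (hQq : Q.natAbs = q) (hQ4 : Q % 4 = 3) (hX0 : X ≠ 0) (hX1 : X ≠ 1) (hXQ : X ≠ Q)
    (hX4 : (X - 1) % 4 = 2) (hdiv : Q ^ 2 - X ∣ X * (X - 1)) (hJ : Odd J) (hi : Odd i)
    (hr : ∀ r : ℕ, r.Prime → r ≠ 2 → r ∣ (Q + 1).natAbs → J.factorization r ≤ 2 * i.factorization r)
    (hE : (J : ℤ) * Q * (X - Q) ^ 2 = (i : ℤ) ^ 2 * Q ^ 2 * (Q + 1) ^ 2 * (Q - 1) * (X * (X - 1))) :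
    X = Q ^ 3 ∨ X = Q ^ 2 + Q - 1 ∨ (q = 5 ∧ X = 35) ∨ (q = 9 ∧ X = 135) :=
  have h := two_mul_succ_dvd hQq (by omega) hQ4 hX0 hX1 hXQ hX4 hJ hi hr hE
  classify_of_dvd hp hn hqp hq hQq hQ4 hXQ hX4 hdiv h.1 h.2

end Cfsg.Agent.SDBudget
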