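import Cfsg.Agent.EqLemmas
import Cfsg.Agent.Lib.Char.Integral
import Mathlib.LinearAlgebra.Center
import Mathlib.LinearAlgebra.Trace

/-!
# Two-dimensional representations for the case of three elements (owner: helper58)

* `exists_lines` : an odd group has two invariant lines
* `comm_span` : the commutant of a non-scalar operator
* `scalar_core` : a normal odd subgroup acts by scalars when two elements of order three generate a central `-1`
* `trace_ne` : the trace of a non-scalar operator of order three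
* `two_false` : an involution with trace zero is not permuted by an inverted non-scalar operator of order three
* `sub`, `sub_char` : restriction to the range of a commuting idempotent
-/

set_option autoImplicit false
set_option linter.unusedSectionVars false
set_option linter.style.haveILetI false

namespace Cfsg.Agent.SDBudget.Three

open Module

universe u w

variable {V : Type w} [AddCommGroup V] [Module ℂ V] [FiniteDimensional ℂ V]

/-- An odd group acting on a plane has two invariant lines. -/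
theorem exists_lines {A : Type u} [Group A] [Finite A] (σ : Representation ℂ A V) (hA : Odd (Nat.card A))
    (hV : finrank ℂ V = 2) :
    ∃ v w : V, LinearIndependent ℂ ![v, w] ∧ ∀ a : A, ∃ α β : ℂ, σ a v = α • v ∧ σ a w = β • w := by
  haveI : Nontrivial V := Module.nontrivial_of_finrank_pos (R := ℂ) (by omega)
  obtain ⟨p, hp⟩ := Char.exists_irreducible_subrepresentation σ
  have hp1 : finrank ℂ p.toSubmodule = 1 := by
    have h1 : finrank ℂ p.toSubmodule ≤ 2 := hV ▸ Submodule.finrank_le _
    have h2 := Char.degree_dvd_card p.toRepresentation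
    haveI := Char.nontrivial_of_isIrreducible p.toRepresentation
    have h3 : 0 < finrank ℂ p.toSubmodule := finrank_pos
    rcases (by omega : finrank ℂ p.toSubmodule = 1 ∨ finrank ℂ p.toSubmodule = 2) with h | h
    · exact h
    · rw [h] at h2
      exact absurd h2 hA.not_two_dvd_nat
  obtain ⟨q, hq⟩ := Char.exists_isCompl V σ p
  have hq1 : finrank ℂ q.toSubmodule = 1 := by
    have := Submodule.finrank_add_eq_of_isCompl hq
    omega
  obtain ⟨v, hv0, hv⟩ := finrank_eq_one_iff'.1 hp1
  obtain ⟨w, hw0, hw⟩ := finrank_eq_one_iff'.1 hq1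
  refine ⟨v, w, ?_, fun a => ?_⟩
  · refine LinearIndependent.pair_iff.2 fun r s hrs => ?_
    have hm : r • (v : V) ∈ p.toSubmodule ⊓ q.toSubmodule := by
      refine ⟨Submodule.smul_mem _ _ v.2, ?_⟩
      rw [eq_neg_of_add_eq_zero_left hrs]
      exact Submodule.neg_mem _ (Submodule.smul_mem _ _ w.2)
    rw [disjoint_iff.1 hq.1, Submodule.mem_bot, smul_eq_zero] at hm
    have hr : r = 0 := hm.resolve_right fun h => hv0 (Subtype.ext h)
    rw [hr, zero_smul, zero_add, smul_eq_zero] at hrs
    exact ⟨hr, hrs.resolve_right fun h => hw0 (Subtype.ext h)⟩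
  · obtain ⟨α, hα⟩ := hv ⟨σ a v, p.apply_mem_toSubmodule a v.2⟩
    obtain ⟨β, hβ⟩ := hw ⟨σ a w, q.apply_mem_toSubmodule a w.2⟩
    exact ⟨α, β, (congrArg Subtype.val hα).symm, (congrArg Subtype.val hβ).symm⟩

/-- The basis of two independent vectors of a plane. -/
noncomputable def pairBasis (hV : finrank ℂ V = 2) {v w : V} (h : LinearIndependent ℂ ![v, w]) :
    Basis (Fin 2) ℂ V :=
  basisOfLinearIndependentOfCardEqFinrank h (by rw [Fintype.card_fin, hV])

theorem pairBasis_ext (hV : finrank ℂ V = 2) {v w : V} (h : LinearIndependent ℂ ![v, w])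
    {P Q : Module.End ℂ V} (h1 : P v = Q v) (h2 : P w = Q w) : P = Q := by
  refine (pairBasis hV h).ext fun i => ?_
  rw [pairBasis, coe_basisOfLinearIndependentOfCardEqFinrank]
  fin_cases i
  · exact h1
  · exact h2

theorem pairBasis_repr (hV : finrank ℂ V = 2) {v w : V} (h : LinearIndependent ℂ ![v, w]) (x : V) :
    ∃ a b : ℂ, x = a • v + b • w := by
  refine ⟨(pairBasis hV h).repr x 0, (pairBasis hV h).repr x 1, ?_⟩
  conv_lhs => rw [← (pairBasis hV h).sum_repr x]
  rw [Fin.sum_univ_two, pairBasis, coe_basisOfLinearIndependentOfCardEqFinrank]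
  rfl

theorem trace_diag (hV : finrank ℂ V = 2) {v w : V} (h : LinearIndependent ℂ ![v, w]) {Y : Module.End ℂ V}
    {α β : ℂ} (h1 : Y v = α • v) (h2 : Y w = β • w) : LinearMap.trace ℂ V Y = α + β := by
  set b := pairBasis hV h with hb
  have hb0 : b 0 = v := by rw [hb, pairBasis, coe_basisOfLinearIndependentOfCardEqFinrank]; rfl
  have hb1 : b 1 = w := by rw [hb, pairBasis, coe_basisOfLinearIndependentOfCardEqFinrank]; rfl
  rw [LinearMap.trace_eq_matrix_trace ℂ b, Matrix.trace, Fin.sum_univ_two, Matrix.diag_apply, Matrix.diag_apply,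
    LinearMap.toMatrix_apply, LinearMap.toMatrix_apply, hb0, hb1, h1, h2, map_smul, map_smul]
  rw [show b.repr v = Finsupp.single 0 1 by rw [← hb0, b.repr_self],
    show b.repr w = Finsupp.single 1 1 by rw [← hb1, b.repr_self]]
  simp

/-- The commutant of a non-scalar operator on a plane. -/
theorem comm_span (hV : finrank ℂ V = 2) {X P : Module.End ℂ V} (hX : ¬ ∃ c : ℂ, X = c • (1 : Module.End ℂ V))
    (hc : Commute P X) : ∃ a b : ℂ, P = a • (1 : Module.End ℂ V) + b • X := by
  obtain ⟨v, hv⟩ : ∃ v, LinearIndependent ℂ ![v, X v] := by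
    by_contra hcon
    push Not at hcon
    exact hX (LinearMap.exists_eq_smul_id_of_forall_notLinearIndependent hcon)
  obtain ⟨a, b, hab⟩ := pairBasis_repr hV hv (P v)
  refine ⟨a, b, pairBasis_ext hV hv ?_ ?_⟩
  · simp [hab]
  · have : P (X v) = X (P v) := by rw [← Module.End.mul_apply, hc.eq, Module.End.mul_apply]
    rw [this, hab]
    simp

variable {K : Type u} [Group K] [Finite K]

/-- A normal odd subgroup acts by scalars. -/
theorem scalar_core (σ : Representation ℂ K V) (hV : finrank ℂ V = 2) (O : Subgroup K) [O.Normal]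
    (hO : Odd (Nat.card O)) {z y c : K} (hz : σ z = -1) (hy : y ^ 3 ∈ O)
    (hgen : z ∈ Subgroup.closure ({y, c * y * c⁻¹} ∪ (O : Set K))) :
    (∀ o ∈ O, ∃ μ : ℂ, σ o = μ • (1 : Module.End ℂ V)) ∧ ¬ ∃ γ : ℂ, σ y = γ • (1 : Module.End ℂ V) := by
  set N := 3 * Nat.card O with hN
  have hNodd : Odd N := (by decide : Odd 3).mul hO
  have hyN : y ^ N = 1 := by
    rw [hN, pow_mul]
    have h : (⟨y ^ 3, hy⟩ : O) ^ Nat.card O = 1 := pow_card_eq_one'
    exact (SubgroupClass.coe_pow _ _).symm.trans (congrArg Subtype.val h)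
  have hyN' : (c * y * c⁻¹) ^ N = 1 := by rw [conj_pow, hyN]; group
  have hoN : ∀ o ∈ O, o ^ N = 1 := fun o ho => by
    rw [hN, mul_comm, pow_mul]
    have h : (⟨o, ho⟩ : O) ^ Nat.card O = 1 := pow_card_eq_one'
    have h' : o ^ Nat.card O = 1 := (SubgroupClass.coe_pow _ _).symm.trans (congrArg Subtype.val h)
    rw [h', one_pow]
  obtain ⟨v, w, hvw, hlines⟩ := exists_lines (σ.comp O.subtype) hO hV
  have hv0 : v ≠ 0 := fun h => by simpa [h] using hvw.ne_zero (0 : Fin 2)
  have hpow : ∀ {X : Module.End ℂ V} {x : V} {α : ℂ} (k : ℕ), X x = α • x → (X ^ k) x = α ^ k • x := by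
    intro X x α k h
    induction k with
    | zero => simp
    | succ k ih => rw [pow_succ', Module.End.mul_apply, ih, map_smul, h, smul_smul, pow_succ]
  let S : Subgroup K :=
    { carrier := {k | ∃ α β : ℂ, α ^ N = 1 ∧ β ^ N = 1 ∧ σ k v = α • v ∧ σ k w = β • w}
      one_mem' := ⟨1, 1, one_pow N, one_pow N, by simp, by simp⟩
      mul_mem' := by
        rintro k l ⟨α, β, hα, hβ, h1, h2⟩ ⟨α', β', hα', hβ', h1', h2'⟩
        refine ⟨α' * α, β' * β, by rw [mul_pow, hα', hα, one_mul], by rw [mul_pow, hβ', hβ, one_mul], ?_, ?_⟩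
        · rw [map_mul, Module.End.mul_apply, h1', map_smul, h1, smul_smul]
        · rw [map_mul, Module.End.mul_apply, h2', map_smul, h2, smul_smul]
      inv_mem' := by
        rintro k ⟨α, β, hα, hβ, h1, h2⟩
        have key : ∀ (x : V) (γ : ℂ), γ ^ N = 1 → σ k x = γ • x → σ k⁻¹ x = γ⁻¹ • x := fun x γ hγ h => by
          have hγ0 : γ ≠ 0 := fun e => by rw [e, zero_pow hNodd.pos.ne'] at hγ; exact zero_ne_one hγ
          have h' : σ k⁻¹ (σ k x) = x := by
            rw [← Module.End.mul_apply, ← map_mul, inv_mul_cancel, map_one, Module.End.one_apply]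
          rw [h, map_smul] at h'
          conv_rhs => rw [← h', smul_smul, inv_mul_cancel₀ hγ0, one_smul]
        exact ⟨α⁻¹, β⁻¹, by rw [inv_pow, hα, inv_one], by rw [inv_pow, hβ, inv_one], key v α hα h1, key w β hβ h2⟩ }
  have hmem : ∀ {k : K} {α β : ℂ}, k ^ N = 1 → σ k v = α • v → σ k w = β • w → k ∈ S := by
    intro k α β hk h1 h2
    have key : ∀ (x : V) (γ : ℂ), x ≠ 0 → σ k x = γ • x → γ ^ N = 1 := fun x γ hx h => by
      have := hpow N h
      rw [← map_pow, hk, map_one, Module.End.one_apply] at this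
      by_contra hne
      have h0 : (γ ^ N - 1) • x = 0 := by rw [sub_smul, one_smul, ← this, sub_self]
      exact hx ((smul_eq_zero.1 h0).resolve_left (sub_ne_zero.2 hne))
    exact ⟨α, β, key v α hv0 h1, key w β (fun h => by simpa [h] using hvw.ne_zero (1 : Fin 2)) h2, h1, h2⟩
  have hOS : ∀ o ∈ O, o ∈ S := fun o ho => by
    obtain ⟨α, β, h1, h2⟩ := hlines ⟨o, ho⟩
    exact hmem (hoN o ho) h1 h2
  have hfin : y ∈ S → c * y * c⁻¹ ∈ S → False := by
    intro h1 h2
    obtain ⟨α, β, hα, -, hzv, -⟩ := (Subgroup.closure_le S).2 (by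
      rintro k ((rfl | rfl) | hk)
      exacts [h1, h2, hOS k hk]) hgen
    rw [hz, LinearMap.neg_apply, Module.End.one_apply] at hzv
    have : (α + 1) • v = 0 := by rw [add_smul, one_smul, ← hzv, neg_add_cancel]
    rw [eq_neg_of_add_eq_zero_left ((smul_eq_zero.1 this).resolve_right hv0), hNodd.neg_one_pow] at hα
    norm_num at hα
  refine ⟨fun o ho => ?_, fun ⟨γ, hγ⟩ => ?_⟩
  · by_contra hns
    obtain ⟨α, β, hov, how⟩ := hlines ⟨o, ho⟩
    change σ o v = α • v at hov
    change σ o w = β • w at how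
    have hαβ : α ≠ β := fun e => hns ⟨α, pairBasis_ext hV hvw (by simpa using hov) (by simpa [e] using how)⟩
    have hperm : ∀ k : K, ∀ x : V, (∀ o' : O, ∃ γ : ℂ, σ o' x = γ • x) →
        (∃ a : ℂ, σ k x = a • v) ∨ ∃ b : ℂ, σ k x = b • w := by
      intro k x hx
      obtain ⟨γ, hγ⟩ := hx ⟨k⁻¹ * o * k⁻¹⁻¹, Subgroup.Normal.conj_mem inferInstance o ho _⟩
      have h1 : σ o (σ k x) = γ • σ k x := by
        rw [← map_smul, ← hγ, ← Module.End.mul_apply, ← Module.End.mul_apply, ← map_mul, ← map_mul]
        congr 2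
        group
      obtain ⟨a, b, hab⟩ := pairBasis_repr hV hvw (σ k x)
      rw [hab, map_add, map_smul, map_smul, hov, how, smul_add, smul_smul, smul_smul, smul_smul, smul_smul] at h1
      have h2 : (a * α - γ * a) • v + (b * β - γ * b) • w = 0 := by
        rw [sub_smul, sub_smul, ← sub_eq_zero.2 h1]; abel
      obtain ⟨h3, h4⟩ := LinearIndependent.pair_iff.1 hvw _ _ h2
      by_cases ha : a = 0
      · exact Or.inr ⟨b, by rw [hab, ha, zero_smul, zero_add]⟩
      · refine Or.inl ⟨a, ?_⟩
        have hγα : γ = α := mul_left_cancel₀ ha (by linear_combination -h3)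
        subst hγα
        have hb : b = 0 := by
          by_contra hb
          exact hαβ (mul_left_cancel₀ hb (by linear_combination -h4))
        rw [hab, hb, zero_smul, add_zero]
    have hlv : ∀ o' : O, ∃ γ : ℂ, σ o' v = γ • v := fun o' => (hlines o').imp fun _ ⟨_, h, _⟩ => h
    have hlw : ∀ o' : O, ∃ γ : ℂ, σ o' w = γ • w := fun o' => by
      obtain ⟨_, β', _, h⟩ := hlines o'
      exact ⟨β', h⟩
    have hodd : ∀ k : K, k ^ N = 1 → k ∈ S := by
      intro k hk
      have hinj : Function.Injective (σ k) := fun p q e => by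
        have := congrArg (σ k⁻¹) e
        simpa [← Module.End.mul_apply, ← map_mul] using this
      have hw0 : w ≠ 0 := fun h => by simpa [h] using hvw.ne_zero (1 : Fin 2)
      rcases hperm k v hlv with ⟨a, ha⟩ | ⟨b, hb⟩ <;> rcases hperm k w hlw with ⟨a', ha'⟩ | ⟨b', hb'⟩
      · exfalso
        have h0 : a' • v - a • w = 0 := hinj (by rw [map_sub, map_smul, map_smul, ha, ha', smul_smul, smul_smul, mul_comm, sub_self, map_zero])
        have := (LinearIndependent.pair_iff.1 hvw a' (-a) (by rw [neg_smul, ← sub_eq_add_neg]; exact h0)).2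
        rw [neg_eq_zero] at this
        rw [this, zero_smul] at ha
        exact hv0 (hinj (by rw [ha, map_zero]))
      · exact hmem hk ha hb'
      · exfalso
        obtain ⟨m, hm⟩ := hNodd
        have h2 : (σ k * σ k) v = (b * a') • v := by rw [Module.End.mul_apply, hb, map_smul, ha', smul_smul]
        have h3 := hpow m h2
        rw [← pow_two, ← pow_mul] at h3
        have h4 : σ (k ^ N) v = ((b * a') ^ m * b) • w := by
          rw [hm, map_pow, pow_succ', Module.End.mul_apply, h3, map_smul, hb, smul_smul]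
        rw [hk, map_one, Module.End.one_apply] at h4
        have := (LinearIndependent.pair_iff.1 hvw 1 (-((b * a') ^ m * b)) (by rw [one_smul, neg_smul, ← h4, add_neg_cancel])).1
        exact one_ne_zero this
      · exfalso
        have h0 : b' • v - b • w = 0 := hinj (by rw [map_sub, map_smul, map_smul, hb, hb', smul_smul, smul_smul, mul_comm, sub_self, map_zero])
        have := (LinearIndependent.pair_iff.1 hvw b' (-b) (by rw [neg_smul, ← sub_eq_add_neg]; exact h0)).1
        rw [this, zero_smul] at hb'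
        exact hw0 (hinj (by rw [hb', map_zero]))
    exact hfin (hodd y hyN) (hodd _ hyN')
  · have h1 : ∀ x, σ y x = γ • x := fun x => by rw [hγ]; rfl
    refine hfin (hmem hyN (h1 v) (h1 w)) (hmem hyN' (α := γ) (β := γ) ?_ ?_)
    all_goals
      rw [map_mul, map_mul, hγ, mul_smul_comm, mul_one, smul_mul_assoc, ← map_mul, mul_inv_cancel, map_one]
      rfl

/-- The trace of a non-scalar operator of order three. -/
theorem trace_ne (σ : Representation ℂ K V) (hV : finrank ℂ V = 2) {y : K} (hy : y ^ 3 = 1)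
    (hns : ¬ ∃ γ : ℂ, σ y = γ • (1 : Module.End ℂ V)) {γ : ℂ} (hγ : γ ^ 3 = 1) :
    LinearMap.trace ℂ V (σ y) ≠ 2 * γ := by
  have hodd : Odd (Nat.card (Subgroup.zpowers y)) := by
    rw [Nat.card_zpowers]
    exact Odd.of_dvd_nat (by decide : Odd 3) (orderOf_dvd_of_pow_eq_one hy)
  obtain ⟨v, w, hvw, hl⟩ := exists_lines (σ.comp (Subgroup.zpowers y).subtype) hodd hV
  obtain ⟨α, β, hv, hw⟩ := hl ⟨y, Subgroup.mem_zpowers y⟩
  change σ y v = α • v at hv
  change σ y w = β • w at hw
  intro htr
  rw [trace_diag hV hvw hv hw] at htr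
  have hcube : ∀ (x : V) (δ : ℂ), x ≠ 0 → σ y x = δ • x → δ ^ 3 = 1 := fun x δ hx h => by
    have h1 : σ (y ^ 3) x = δ ^ 3 • x := by
      simp only [pow_succ, pow_zero, one_mul, map_mul, Module.End.mul_apply, h, map_smul, smul_smul, mul_assoc]
    rw [hy, map_one, Module.End.one_apply] at h1
    by_contra hne
    have h0 : (δ ^ 3 - 1) • x = 0 := by rw [sub_smul, one_smul, ← h1, sub_self]
    exact hx ((smul_eq_zero.1 h0).resolve_left (sub_ne_zero.2 hne))
  have hv0 : v ≠ 0 := fun h => by simpa [h] using hvw.ne_zero (0 : Fin 2)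
  have hw0 : w ≠ 0 := fun h => by simpa [h] using hvw.ne_zero (1 : Fin 2)
  have ha := hcube v α hv0 hv
  have hb := hcube w β hw0 hw
  have hg0 : γ ≠ 0 := fun e => by rw [e] at hγ; norm_num at hγ
  have hkey : 6 * γ * (α - γ) ^ 2 = 0 := by
    have hβ : β = 2 * γ - α := by linear_combination htr
    rw [hβ] at hb
    linear_combination ha + hb - 2 * hγ
  have hαγ : α = γ := sub_eq_zero.1 (pow_eq_zero_iff two_ne_zero |>.1 ((mul_eq_zero.1 hkey).resolve_left (by simp [hg0])))
  exact hns ⟨γ, pairBasis_ext hV hvw (by simp [hv, hαγ]) (by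
    have : β = γ := by linear_combination htr - hαγ
    simp [hw, this])⟩

/-- An involution of trace zero permuted by a non-scalar operator of order three inverted by a symmetry. -/
theorem two_false (hV : finrank ℂ V = 2) {T Y Y' K' K'' : Module.End ℂ V} (hT : T * T = 1)
    (htr : LinearMap.trace ℂ V T = 0) (hYY' : Y * Y' = 1) (hY'Y : Y' * Y = 1) (hY3 : Y * Y * Y = 1)
    (hns : ¬ ∃ γ : ℂ, Y = γ • (1 : Module.End ℂ V)) (hcomm : Commute T (Y * T * Y'))
    (hKK : K'' * K' = 1) (hK : K' * Y * K'' = Y') (hKT : K' * T * K'' = T) : False := by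
  have hTns : ¬ ∃ c : ℂ, T = c • (1 : Module.End ℂ V) := by
    rintro ⟨c, rfl⟩
    rw [map_smul, LinearMap.trace_one, hV, smul_eq_mul] at htr
    have hc : c = 0 := (mul_eq_zero.1 htr).resolve_right (by norm_num)
    rw [hc, zero_smul, zero_mul] at hT
    exact hns ⟨0, by rw [← mul_one Y, ← hT, mul_zero, zero_smul]⟩
  obtain ⟨a, b, hab⟩ := comm_span hV hTns hcomm.symm
  have ha : a = 0 := by
    have h1 : LinearMap.trace ℂ V (Y * T * Y') = 0 := by
      rw [LinearMap.trace_mul_comm, ← mul_assoc, hY'Y, one_mul, htr]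
    rw [hab, map_add, map_smul, map_smul, htr, LinearMap.trace_one, hV, smul_zero, add_zero, smul_eq_mul] at h1
    exact (mul_eq_zero.1 h1).resolve_right (by norm_num)
  rw [ha, zero_smul, zero_add] at hab
  have h3 : ∀ n : ℕ, Y ^ n * T * Y' ^ n = b ^ n • T := by
    intro n
    induction n with
    | zero => simp
    | succ n ih =>
      rw [pow_succ' Y, pow_succ Y', show Y * Y ^ n * T * (Y' ^ n * Y') = Y * (Y ^ n * T * Y' ^ n) * Y' by
        noncomm_ring, ih, mul_smul_comm, smul_mul_assoc, hab, smul_smul, pow_succ]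
  have hY'3 : Y' ^ 3 = 1 := by
    have : Y' = Y * Y := by
      calc Y' = Y * Y * Y * Y' := by rw [hY3, one_mul]
        _ = Y * Y := by rw [mul_assoc (Y * Y), hYY', mul_one]
    rw [this, pow_succ, pow_two]
    calc Y * Y * (Y * Y) * (Y * Y) = (Y * Y * Y) * (Y * Y * Y) := by noncomm_ring
      _ = 1 := by rw [hY3, one_mul]
  have hb : b ^ 3 = 1 := by
    have h := h3 3
    rw [hY'3, mul_one, show Y ^ 3 = Y * Y * Y by noncomm_ring, hY3, one_mul] at h
    by_contra hne
    have h0 : (b ^ 3 - 1) • T = 0 := by rw [sub_smul, one_smul, ← h, sub_self]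
    exact hTns ⟨0, by rw [(smul_eq_zero.1 h0).resolve_left (sub_ne_zero.2 hne), zero_smul]⟩
  have hb2 : b ^ 2 = 1 := by
    have h : (Y * T * Y') * (Y * T * Y') = 1 := by
      calc (Y * T * Y') * (Y * T * Y') = Y * (T * (Y' * Y) * T) * Y' := by noncomm_ring
        _ = 1 := by rw [hY'Y, mul_one, hT, mul_one, hYY']
    rw [hab, smul_mul_smul_comm, hT, ← pow_two] at h
    have := congrArg (LinearMap.trace ℂ V) h
    rw [map_smul, LinearMap.trace_one, hV, smul_eq_mul] at this
    push_cast at this
    linear_combination this / 2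
  have hb1 : b = 1 := by linear_combination hb - b * hb2
  rw [hb1, one_smul] at hab
  have hYT : Commute Y T := by
    show Y * T = T * Y
    calc Y * T = Y * T * Y' * Y := by rw [mul_assoc _ Y', hY'Y, mul_one]
      _ = T * Y := by rw [hab]
  obtain ⟨p, q, hpq⟩ := comm_span hV hTns hYT
  have hY' : Y' = Y := by
    rw [← hK, hpq, mul_add, add_mul, mul_smul_comm, mul_smul_comm, smul_mul_assoc, smul_mul_assoc, mul_one, hKT]
    have : K' * K'' = 1 := mul_eq_one_comm.1 hKK
    rw [this]
  refine hns ⟨1, ?_⟩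
  rw [one_smul]
  calc Y = Y * (Y * Y') := by rw [hYY', mul_one]
    _ = Y * Y * Y := by rw [hY', mul_assoc]
    _ = 1 := hY3

/-- Restriction to the range of an idempotent commuting with the representation. -/
noncomputable def sub (σ : Representation ℂ K V) (e : Module.End ℂ V) (h : ∀ k, Commute (σ k) e) :
    Representation ℂ K ↥(LinearMap.range e) where
  toFun k := (σ k).restrict (p := LinearMap.range e) (q := LinearMap.range e) (by
    rintro _ ⟨x, rfl⟩
    exact ⟨σ k x, by rw [← Module.End.mul_apply, ← (h k).eq, Module.End.mul_apply]⟩)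
  map_one' := LinearMap.ext fun x => Subtype.ext (by simp)
  map_mul' k l := LinearMap.ext fun x => Subtype.ext (by simp)

theorem sub_apply (σ : Representation ℂ K V) (e : Module.End ℂ V) (h : ∀ k, Commute (σ k) e) (k : K)
    (x : LinearMap.range e) : (sub σ e h k x : V) = σ k x := rfl

theorem sub_eq (σ : Representation ℂ K V) {e : Module.End ℂ V} (he : e * e = e) (h : ∀ k, Commute (σ k) e)
    (k : K) (c : ℂ) (hk : σ k * e = c • e) : sub σ e h k = c • 1 := by
  refine LinearMap.ext fun x => Subtype.ext ?_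
  obtain ⟨y, hy⟩ := x.2
  show σ k x = c • (x : V)
  rw [← hy, ← Module.End.mul_apply, hk]
  rfl

theorem sub_char (σ : Representation ℂ K V) {e : Module.End ℂ V} (he : e * e = e) (h : ∀ k, Commute (σ k) e)
    (k : K) : LinearMap.trace ℂ _ (sub σ e h k) = LinearMap.trace ℂ V (σ k * e) := by
  have hm : ∀ x, (σ k * e) x ∈ LinearMap.range e := fun x =>
    ⟨σ k x, by rw [← Module.End.mul_apply, (h k).eq]⟩
  rw [← LinearMap.trace_restrict_eq_of_forall_mem (LinearMap.range e) (σ k * e) hm fun x _ => hm x]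
  refine congrArg _ (LinearMap.ext fun x => Subtype.ext ?_)
  obtain ⟨y, hy⟩ := x.2
  show σ k x = σ k (e x)
  rw [← hy, ← Module.End.mul_apply e e, he]

end Cfsg.Agent.SDBudget.Three
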