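import Cfsg.Agent.Lib.SDBudget.ThreeFixed
import Cfsg.Agent.Lib.SDBudget.ThreeTwo
import Cfsg.Agent.Lib.Char.Eigen

/-!
# The case of three elements, negative sign: degree seven (owner: helper58)

* `fixed_neg` : a faithful representation of degree 7 with the trace values of the small character forces `O = 1`
-/

set_option autoImplicit false
set_option linter.unusedSectionVars false
set_option linter.style.haveILetI false

namespace Cfsg.Agent.SDBudget.Three

open Module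

universe u w

variable {V : Type w} [AddCommGroup V] [Module ℂ V] [FiniteDimensional ℂ V]
  {K : Type u} [Group K] [Finite K] (σ : Representation ℂ K V) (O : Subgroup K) [Fintype O]

local notation "tr" => LinearMap.trace ℂ V

/-- **Degree 7.** -/
theorem fixed_neg [O.Normal] (hodd : Odd (Nat.card O)) (hfaith : Function.Injective σ) (hdim : finrank ℂ V = 7)
    {z t y c k : K} (hz : z * z = 1) (hzc : ∀ l : K, Commute z l) (ht : t * t = 1)
    (hvz : ∀ o ∈ O, σ.character (z * o) = 3) (hvt : ∀ o ∈ O, σ.character (t * o) = 3)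
    (hvzt : ∀ o ∈ O, σ.character (t * z * o) = 3) (hvy : ∀ o ∈ O, σ.character (y * z * o) = 0)
    (hy3 : y ^ 3 ∈ O) (hgen : z ∈ Subgroup.closure ({y, c * y * c⁻¹} ∪ (O : Set K)))
    (hky : ∃ o ∈ O, k * y * k⁻¹ = y⁻¹ * o)
    (hkt : ∃ o ∈ O, k * t * k⁻¹ = t * o ∨ k * t * k⁻¹ = t * z * o)
    (hcm : ∃ o ∈ O, t * (y * t * y⁻¹) * t = o * (y * t * y⁻¹) ∨ t * (y * t * y⁻¹) * t = z * o * (y * t * y⁻¹)) :
    O = ⊥ := by
  classical
  have hsq : ∀ o ∈ O, o * o = 1 → o = 1 := fun o ho h => by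
    have h1 : orderOf o ∣ 2 := orderOf_dvd_of_pow_eq_one (by rw [pow_two]; exact h)
    have h2 : orderOf o ∣ Nat.card O := Subgroup.orderOf_dvd_natCard O ho
    have h3 := Nat.dvd_gcd h2 h1
    rw [(Nat.coprime_two_right.2 hodd).gcd_eq_one, Nat.dvd_one] at h3
    exact orderOf_eq_one_iff.1 h3
  have hZ : σ z * σ z = 1 := sq_one σ hz
  set f₀ : Module.End ℂ V := (1 / 2 : ℂ) • (1 + -σ z * 1) with hf₀
  set e₀ : Module.End ℂ V := (1 / 2 : ℂ) • (1 + σ z * 1) with he₀
  have hf₀i : f₀ * f₀ = f₀ := half (mul_one 1) (by rw [neg_mul_neg, hZ]) (Commute.one_right _)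
  have he₀i : e₀ * e₀ = e₀ := half (mul_one 1) hZ (Commute.one_right _)
  have hf₀c : ∀ l, Commute (σ l) f₀ := fun l =>
    ((Commute.one_right _).add_right (((hzc l).symm.map σ).neg_right.mul_right (Commute.one_right _))).smul_right _
  have he₀c : ∀ l, Commute (σ l) e₀ := fun l =>
    ((Commute.one_right _).add_right (((hzc l).symm.map σ).mul_right (Commute.one_right _))).smul_right _
  have tf₀ : ∀ l, tr (σ l * f₀) = (σ.character l - σ.character (l * z)) / 2 := fun l => by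
    rw [hf₀, mul_smul_comm, map_smul, mul_one, mul_add, mul_one, mul_neg, ← map_mul, map_add, map_neg, smul_eq_mul]
    show (1 / 2 : ℂ) * (σ.character l + -σ.character (l * z)) = _
    ring
  have te₀ : ∀ l, tr (σ l * e₀) = (σ.character l + σ.character (l * z)) / 2 := fun l => by
    rw [he₀, mul_smul_comm, map_smul, mul_one, mul_add, mul_one, ← map_mul, map_add, smul_eq_mul]
    show (1 / 2 : ℂ) * (σ.character l + σ.character (l * z)) = _
    ring
  have hv1 : σ.character 1 = 7 := by rw [Representation.char_one, hdim]; norm_num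
  have hv1z : σ.character z = 3 := by simpa using hvz 1 (one_mem O)
  have tf : tr f₀ = ((2 : ℕ) : ℂ) := by
    have := tf₀ 1
    rw [map_one, one_mul, one_mul, hv1, hv1z] at this
    rw [this]; norm_num
  have hWdim : finrank ℂ (LinearMap.range f₀) = 2 :=
    Nat.cast_injective (R := ℂ) ((idem_trace hf₀i).symm.trans tf)
  set ρm := sub σ f₀ hf₀c with hρm
  have hzm : ρm z = -1 := by
    have h : σ z * f₀ = (-1 : ℂ) • f₀ := by
      rw [neg_one_smul, hf₀, mul_smul_comm, mul_add, mul_one, mul_one, mul_neg, hZ, ← smul_neg]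
      congr 1
      abel
    rw [hρm, sub_eq σ hf₀i hf₀c z _ h]
    exact neg_one_smul ℂ (1 : Module.End ℂ ↥(LinearMap.range f₀))
  obtain ⟨hscal, hns⟩ := scalar_core ρm hWdim O hodd hzm hy3 hgen
  -- faithful, hence central
  have hker : ∀ o ∈ O, ρm o = 1 → o = 1 := fun o ho h => by
    have h1 := sub_char σ hf₀i hf₀c o
    rw [show sub σ f₀ hf₀c o = 1 from h, LinearMap.trace_one, hWdim, tf₀, ← (hzc o).eq, hvz o ho] at h1
    push_cast at h1
    refine hfaith ?_
    rw [map_one]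
    refine (Char.character_eq_finrank_iff σ o).1 ?_
    rw [hdim]
    push_cast
    linear_combination -2 * h1
  have hcen : ∀ o ∈ O, ∀ l : K, Commute l o := fun o ho l => by
    obtain ⟨μ, hμ⟩ := hscal o ho
    have h : l * o * l⁻¹ * o⁻¹ = 1 := by
      refine hker _ (mul_mem (Subgroup.Normal.conj_mem inferInstance o ho l) (inv_mem ho)) ?_
      rw [map_mul, map_mul, map_mul, hμ, mul_smul_comm, mul_one, smul_mul_assoc, ← map_mul, mul_inv_cancel,
        map_one, ← hμ, ← map_mul, mul_inv_cancel, map_one]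
    exact mul_inv_eq_iff_eq_mul.1 (mul_inv_eq_one.1 h)
  by_contra hO
  obtain ⟨o₀, ho₀, ho₀1⟩ : ∃ o ∈ O, o ≠ 1 := by
    by_contra hcon
    push Not at hcon
    exact hO ((Subgroup.eq_bot_iff_forall O).2 hcon)
  obtain ⟨μ, hμ⟩ := hscal o₀ ho₀
  have hpf : proj σ O * f₀ = 0 := by
    have h1 : σ o₀ * f₀ = μ • f₀ := by
      refine LinearMap.ext fun x => ?_
      have := congrArg Subtype.val (LinearMap.congr_fun hμ ⟨f₀ x, LinearMap.mem_range_self f₀ x⟩)
      exact this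
    have h2 : proj σ O * f₀ = μ • (proj σ O * f₀) := by
      conv_lhs => rw [← mul_proj σ O ho₀, (comm_proj σ O o₀).eq, mul_assoc, h1, mul_smul_comm]
    have hμ1 : μ ≠ 1 := fun e => ho₀1 (hker o₀ ho₀ (by rw [hμ, e, one_smul]))
    have h3 : (μ - 1) • (proj σ O * f₀) = 0 := by rw [sub_smul, one_smul, ← h2, sub_self]
    exact (smul_eq_zero.1 h3).resolve_left (sub_ne_zero.2 hμ1)
  set p := proj σ O with hp
  have hpz : σ z * p = p := by
    rw [hf₀, mul_smul_comm, mul_one, mul_add, mul_one, mul_neg, ← (comm_proj σ O z).eq] at hpf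
    have h := (smul_eq_zero.1 hpf).resolve_left (by norm_num)
    exact (eq_of_sub_eq_zero (by rw [sub_eq_add_neg]; exact h)).symm
  have hpe : p * e₀ = p := by
    rw [he₀, mul_smul_comm, mul_one, mul_add, mul_one, ← (comm_proj σ O z).eq, hpz, ← two_smul ℂ, smul_smul]
    norm_num
  have hep : e₀ * p = p := by
    rw [he₀, smul_mul_assoc, mul_one, add_mul, one_mul, hpz, ← two_smul ℂ, smul_smul]
    norm_num
  have hpl : ∀ l, tr (σ l * p) = tr (σ (l * z) * p) := fun l => by rw [map_mul σ l z, mul_assoc, hpz]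
  set eD := e₀ - p with heD
  have heDi : eD * eD = eD := by
    rw [heD, sub_mul, mul_sub, mul_sub, he₀i, hep, hpe, proj_idem]; abel
  have heDc : ∀ l, Commute (σ l) eD := fun l => (he₀c l).sub_right (comm_proj σ O l)
  have tD : ∀ l, tr (σ l * eD) = (σ.character l + σ.character (l * z)) / 2 - tr (σ l * p) := fun l => by
    rw [heD, mul_sub, map_sub, te₀]
  have tD1 : tr eD = ((2 : ℕ) : ℂ) := by
    have := tD 1
    rw [hpl 1, map_one, one_mul, one_mul, hv1, hv1z, trace_proj σ O z hvz] at this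
    rw [this]; norm_num
  have hDdim : finrank ℂ (LinearMap.range eD) = 2 :=
    Nat.cast_injective (R := ℂ) ((idem_trace heDi).symm.trans tD1)
  set ρD := sub σ eD heDc with hρD
  have hzD : ρD z = 1 := by
    have h : σ z * eD = (1 : ℂ) • eD := by
      rw [one_smul, heD, mul_sub, hpz, he₀, mul_smul_comm, mul_one, mul_add, mul_one, hZ, add_comm]
    rw [hρD, sub_eq σ heDi heDc z _ h, one_smul]
  -- the element of order three
  obtain ⟨o₁, ho₁, hky⟩ := hky
  set y₀ := y⁻¹ * y⁻¹ * o₁ with hy₀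
  have hc₁ := hcen o₁ ho₁
  have hcy : ∀ l : K, Commute l (y ^ 3) := hcen _ hy3
  have h6 : (y ^ 3) * (y ^ 3) = o₁ ^ 3 := by
    have h1 : k * y ^ 3 * k⁻¹ = (y⁻¹ * o₁) ^ 3 := by rw [← hky, conj_pow]
    rw [(hcy k).eq, mul_inv_cancel_right, (hc₁ y⁻¹).mul_pow] at h1
    nth_rw 2 [h1]
    rw [← mul_assoc, inv_pow, mul_inv_cancel, one_mul]
  have hy₀3 : y₀ ^ 3 = 1 := by
    rw [hy₀, (hc₁ _).mul_pow, ← h6, (Commute.refl y⁻¹).mul_pow, inv_pow]
    group
  have hy₀O : ∃ o ∈ O, y₀ = y * o := ⟨(y ^ 3)⁻¹ * o₁, mul_mem (inv_mem hy3) ho₁, by rw [hy₀]; group⟩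
  have hky₀ : k * y₀ * k⁻¹ = y₀⁻¹ := by
    have h1 : k * y⁻¹ * k⁻¹ = o₁⁻¹ * y := by
      rw [show k * y⁻¹ * k⁻¹ = (k * y * k⁻¹)⁻¹ by group, hky, mul_inv_rev, inv_inv]
    have h2 : k * o₁ * k⁻¹ = o₁ := by rw [(hc₁ k).eq, mul_inv_cancel_right]
    calc k * y₀ * k⁻¹ = (k * y⁻¹ * k⁻¹) * (k * y⁻¹ * k⁻¹) * (k * o₁ * k⁻¹) := by rw [hy₀]; group
      _ = o₁⁻¹ * (y * o₁⁻¹) * (y * o₁) := by rw [h1, h2]; group
      _ = o₁⁻¹ * (o₁⁻¹ * y) * (o₁ * y) := by rw [((hc₁ y).inv_right).eq, (hc₁ y).eq]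
      _ = o₁⁻¹ * o₁⁻¹ * (y * o₁) * y := by group
      _ = y₀⁻¹ := by rw [(hc₁ y).eq, hy₀]; simp [mul_assoc]
  obtain ⟨o₂, ho₂, hy₀2⟩ := hy₀O
  have hyz₀ : σ.character (y₀ * z) = 0 := by
    rw [hy₀2, mul_assoc, ← (hzc o₂).eq, ← mul_assoc]; exact hvy o₂ ho₂
  have htyp : tr (σ y₀ * p) = 0 := by
    rw [hpl, hy₀2, trace_proj σ O (y * o₂ * z) (c := 0) fun o ho => by
      rw [show y * o₂ * z * o = y * z * (o₂ * o) by rw [mul_assoc y, ← (hzc o₂).eq]; group]
      exact hvy _ (mul_mem ho₂ ho)]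
  have hsame : LinearMap.trace ℂ _ (ρD y₀) = LinearMap.trace ℂ _ (ρm y₀) := by
    rw [hρD, hρm, sub_char σ heDi, sub_char σ hf₀i, tD, tf₀, htyp, hyz₀]
    ring
  have hnsD : ¬ ∃ γ : ℂ, ρD y₀ = γ • 1 := by
    rintro ⟨γ, hγ⟩
    haveI : Nontrivial (LinearMap.range eD) := Module.nontrivial_of_finrank_pos (R := ℂ) (by omega)
    have hγ3 : γ ^ 3 = 1 := by
      have h : ρD (y₀ ^ 3) = (γ • 1) ^ 3 := by rw [map_pow, hγ]
      rw [hy₀3, map_one, smul_pow, one_pow] at h
      have := congrArg (LinearMap.trace ℂ _) h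
      rw [map_smul, LinearMap.trace_one, hDdim, smul_eq_mul] at this
      push_cast at this
      linear_combination -this / 2
    have hnm : ¬ ∃ δ : ℂ, ρm y₀ = δ • 1 := by
      rintro ⟨δ, hδ⟩
      obtain ⟨ν, hν⟩ := hscal o₂⁻¹ (inv_mem ho₂)
      refine hns ⟨ν * δ, ?_⟩
      rw [show y = y₀ * o₂⁻¹ by rw [hy₀2, mul_inv_cancel_right], map_mul, hν, hδ, smul_mul_smul_comm, mul_one,
        mul_comm δ]
    refine trace_ne ρm hWdim hy₀3 hnm hγ3 ?_
    rw [← hsame, hγ, map_smul, LinearMap.trace_one, hDdim, smul_eq_mul]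
    push_cast
    ring
  -- the involution and its conjugates
  set t₁ := y * t * y⁻¹ with ht₁
  have ht₁' : y₀ * t * y₀⁻¹ = t₁ := by
    rw [ht₁, hy₀2, mul_assoc y, ← (hcen o₂ ho₂ t).eq]
    group
  have hcmD : Commute (ρD t) (ρD t₁) := by
    have hsq1 : t₁ * t₁ = 1 := by rw [ht₁, show y * t * y⁻¹ * (y * t * y⁻¹) = y * (t * t) * y⁻¹ by group, ht]; group
    obtain ⟨o, ho, h⟩ := hcm
    have hkill : ∀ d : K, Commute d t₁ → t * t₁ * t = d * t₁ → d * d = 1 := fun d hd h => by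
      have h1 : (t * t₁ * t) * (t * t₁ * t) = 1 := by
        calc (t * t₁ * t) * (t * t₁ * t) = t * t₁ * (t * t) * t₁ * t := by group
          _ = t * (t₁ * t₁) * t := by rw [ht]; group
          _ = 1 := by rw [hsq1, mul_one, ht]
      calc d * d = d * d * (t₁ * t₁) := by rw [hsq1, mul_one]
        _ = d * t₁ * (d * t₁) := by rw [← hd.mul_mul_mul_comm]
        _ = 1 := by rw [← h, h1]
    have hfin : ρD (t * t₁ * t) = ρD t₁ := by
      rcases h with h | h
      · rw [h, hsq o ho (hkill o (hcen o ho t₁).symm h), one_mul]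
      · have hd : Commute (z * o) t₁ := (hzc t₁).mul_left (hcen o ho t₁).symm
        have h2 := hkill _ hd h
        rw [(hzc o).symm.mul_mul_mul_comm, hz, one_mul] at h2
        rw [h, hsq o ho h2, mul_one, map_mul, hzD, one_mul]
    show ρD t * ρD t₁ = ρD t₁ * ρD t
    calc ρD t * ρD t₁ = ρD (t * t₁ * t) * ρD t := by rw [← map_mul, ← map_mul]; congr 1; rw [mul_assoc, ht, mul_one]
      _ = ρD t₁ * ρD t := by rw [hfin]
  have hktD : ρD (k * t * k⁻¹) = ρD t := by
    obtain ⟨o, ho, h⟩ := hkt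
    have hkk : (k * t * k⁻¹) * (k * t * k⁻¹) = 1 := by
      rw [show k * t * k⁻¹ * (k * t * k⁻¹) = k * (t * t) * k⁻¹ by group, ht]; group
    rcases h with h | h
    · rw [h, (hcen o ho t).symm.mul_mul_mul_comm, ht, one_mul] at hkk
      rw [h, hsq o ho hkk, mul_one]
    · rw [h, (hcen o ho (t * z)).symm.mul_mul_mul_comm, (hzc t).mul_mul_mul_comm, ht, hz, one_mul, one_mul] at hkk
      rw [h, hsq o ho hkk, mul_one, map_mul, hzD, mul_one]
  refine two_false hDdim (T := ρD t) (Y := ρD y₀) (Y' := ρD y₀⁻¹) (K' := ρD k) (K'' := ρD k⁻¹)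
    (by rw [← map_mul, ht, map_one]) ?_ (by rw [← map_mul, mul_inv_cancel, map_one])
    (by rw [← map_mul, inv_mul_cancel, map_one]) (by rw [← map_mul, ← map_mul, ← pow_three', hy₀3, map_one])
    hnsD (by rw [← map_mul, ← map_mul, ht₁']; exact hcmD) (by rw [← map_mul, inv_mul_cancel, map_one])
    (by rw [← map_mul, ← map_mul, hky₀]) (by rw [← map_mul, ← map_mul, hktD])
  rw [hρD, sub_char σ heDi, tD, hpl, trace_proj σ O (t * z) (c := 3) hvzt]
  have e1 : σ.character t = 3 := by simpa using hvt 1 (one_mem O)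
  have e2 : σ.character (t * z) = 3 := by simpa using hvzt 1 (one_mem O)
  rw [e1, e2]
  norm_num

end Cfsg.Agent.SDBudget.Three
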