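import Cfsg.Agent.EqLemmas
import Mathlib.GroupTheory.Perm.Sign
import Mathlib.Data.Fintype.Perm

/-!
# Facts on the permutations of four letters for the case of three elements (owner: helper58)
-/

set_option autoImplicit false
set_option synthInstance.maxHeartbeats 400000
set_option synthInstance.maxSize 2048

namespace Cfsg.Agent.SDBudget.Three

/-- The permutations of four letters. -/
abbrev P4 := Equiv.Perm (Fin 4)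

/-- The number of fixed letters. -/
def nfix (A : P4) : ℕ := (Finset.univ.filter fun i => A i = i).card

theorem perm_d1 : ∀ τ : P4, nfix τ = 2 → ∃ η : P4, (τ * (η * τ * η⁻¹)) * (τ * (η * τ * η⁻¹)) * (τ * (η * τ * η⁻¹)) = 1 ∧ τ * (η * τ * η⁻¹) ≠ 1 := by decide +kernel
theorem perm_d2 : ∀ τ σ : P4, nfix τ = 2 → σ * σ * σ = 1 → σ ≠ 1 → τ * σ * τ⁻¹ = σ⁻¹ → ∃ κ : P4, κ * τ = τ * κ ∧
    (σ * (κ * σ * κ⁻¹) * σ) * (σ * (κ * σ * κ⁻¹) * σ) = 1 ∧ σ * (κ * σ * κ⁻¹) * σ ≠ 1 ∧ σ * (κ * σ * κ⁻¹) * σ ≠ τ ∧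
    τ * (σ * (κ * σ * κ⁻¹) * σ) = (σ * (κ * σ * κ⁻¹) * σ) * τ := by decide +kernel
theorem perm_d3 : ∀ τ σ : P4, nfix τ = 0 → τ * τ = 1 → σ * σ * σ = 1 → σ ≠ 1 → ∃ κ : P4,
    (σ * (κ * σ * κ⁻¹)) * (σ * (κ * σ * κ⁻¹)) = 1 ∧ σ * (κ * σ * κ⁻¹) ≠ 1 ∧
    σ * (σ * (κ * σ * κ⁻¹)) * σ⁻¹ ≠ σ * (κ * σ * κ⁻¹) ∧
    σ * (σ * (κ * σ * κ⁻¹)) * σ⁻¹ * (σ * (κ * σ * κ⁻¹)) = σ * (κ * σ * κ⁻¹) * (σ * (σ * (κ * σ * κ⁻¹)) * σ⁻¹) ∧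
    (τ = σ * (κ * σ * κ⁻¹) ∨ τ = σ * (σ * (κ * σ * κ⁻¹)) * σ⁻¹ ∨ τ = σ * σ * (σ * (κ * σ * κ⁻¹)) * (σ * σ)⁻¹) := by decide +kernel
theorem perm_d3k : ∀ τ σ : P4, nfix τ = 0 → τ * τ = 1 → σ * σ * σ = 1 → σ ≠ 1 → ∃ k : P4, k * σ * k⁻¹ = σ⁻¹ ∧ k * τ = τ * k := by decide +kernel
theorem perm_d4 : ∀ A : P4, ∀ i j : Fin 12, (A ^ i.1) * (A ^ i.1) = 1 → (A ^ j.1) * (A ^ j.1) = 1 → A ^ i.1 ≠ 1 → A ^ j.1 ≠ 1 → A ^ i.1 = A ^ j.1 := by decide +kernel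
theorem perm_d12 : ∀ A : P4, A ^ 12 = 1 := by decide +kernel
theorem perm_d5 : ∀ σ : P4, σ * σ * σ = 1 → σ ≠ 1 → nfix σ = 1 := by decide +kernel
theorem perm_d6 : ∀ τ σ : P4, nfix τ = 0 → τ * τ = 1 → τ * (σ * τ * σ⁻¹) * τ = σ * τ * σ⁻¹ := by decide +kernel

end Cfsg.Agent.SDBudget.Three
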