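import Cfsg.Agent.Lib.SDKeystone.Budget.Setting
import Cfsg.Agent.Lib.SDBudget.ThreeNeg
import Cfsg.Agent.Lib.SDBudget.ThreePerm
import Mathlib.GroupTheory.SpecificGroups.Cyclic

/-!
# The case of three elements: the core of the centraliser is trivial (owner: helper58)

* `exists_perm` : a line of four points gives the symmetric group
* `pos_data`, `neg_data` : the elements used by `fixed_pos`, `fixed_neg`
* `ker_eq_bot` : in the setting of the budget with `q = 3` and `C` the whole centraliser the kernel of `φ` is trivial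
-/

set_option autoImplicit false
set_option linter.unusedSectionVars false
set_option linter.style.haveILetI false

namespace Cfsg.Agent.SDBudget.Three

open Subgroup Cfsg Cfsg.Agent.Char Cfsg.Agent.InvolChar Cfsg.Agent.SDKeystone.Budget

universe u v w

variable {H : Type v} [Group H] [Finite H] {X : Type w} [MulAction H X] {t : H} {Z : Subgroup H}
  {n o : ℕ} {δ : ℤ}

theorem line_consts (L : Line H X t Z n 3 o δ) : (δ = 1 ∧ n = 1 ∧ o = 1) ∨ (δ = -1 ∧ n = 2 ∧ o = 1) := by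
  have h := L.q_sub
  have ho : 1 ≤ o := L.o_odd.pos
  have h1 := L.one_le
  have hle : 2 ^ n * o ≤ 4 := by
    rcases L.sign with e | e <;> rw [e] at h <;> push_cast at h <;>
      exact_mod_cast (show ((2 : ℤ) ^ n * o) ≤ 4 by linarith)
  have hn2 : n ≤ 2 := by
    by_contra hc
    have : 2 ^ 3 ≤ 2 ^ n := Nat.pow_le_pow_right two_pos (by omega)
    nlinarith
  rcases L.sign with e | e <;> subst e <;> interval_cases n <;> simp at h ⊢ <;> first | omega | (obtain ⟨r, hr⟩ := L.o_odd; omega)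

/-- Four points give the symmetric group on four letters. -/
theorem exists_perm (L : Line H X t Z n 3 o δ) : ∃ π : H →* P4, Function.Surjective π ∧
    (∀ h, π h = 1 ↔ h ∈ Z) ∧ ∀ h, nfix (π h) = Nat.card (MulAction.fixedBy X h) := by
  classical
  haveI : Finite X := Nat.finite_of_card_ne_zero (by rw [L.card_X]; norm_num)
  haveI := Fintype.ofFinite X
  have hX : Nat.card X = 4 := L.card_X
  let e : X ≃ Fin 4 := (Finite.equivFin X).trans (finCongr hX)
  let π : H →* P4 := e.permCongrHom.toMonoidHom.comp (MulAction.toPermHom H X)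
  have hπ : ∀ h (i : Fin 4), π h i = e (h • e.symm i) := fun _ _ => rfl
  have hker : ∀ h, π h = 1 ↔ h ∈ Z := fun h => by
    rw [L.mem_Z]
    refine ⟨fun e1 x => e.injective ?_, fun hx => Equiv.ext fun i => by rw [hπ, hx]; simp⟩
    have := hπ h (e x)
    rw [e1, Equiv.symm_apply_apply] at this
    exact this.symm
  refine ⟨π, ?_, hker, fun h => ?_⟩
  · refine MonoidHom.range_eq_top.1 (eq_top_of_card_eq _ ?_)
    have hk : π.ker = Z := by ext h; exact MonoidHom.mem_ker.trans (hker h)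
    have hc := π.ker.card_mul_index
    rw [index_ker, hk, L.card_Z, L.card_H] at hc
    rw [Nat.eq_of_mul_eq_mul_left (by positivity) hc, Nat.card_perm, Nat.card_eq_fintype_card, Fintype.card_fin]
    decide
  · rw [nfix, Nat.card_eq_fintype_card, ← Fintype.card_subtype]
    refine Fintype.card_congr ?_
    exact (e.subtypeEquiv fun x => by
      rw [MulAction.mem_fixedBy, hπ, Equiv.symm_apply_apply, e.apply_eq_iff_eq]).symm

/-- The only involution of `Z`. -/
theorem unique_inv (L : Line H X t Z n 3 o δ) {zb : H} (hzZ : zb ∈ Z) (hz2 : zb * zb = 1) (hz1 : zb ≠ 1)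
    {ζ : H} (hζ : ζ ∈ Z) (h : ζ * ζ = 1) : ζ = 1 ∨ ζ = zb := by
  classical
  haveI := L.cyclic_Z
  haveI := Fintype.ofFinite Z
  by_contra hc
  push Not at hc
  have h2 := IsCyclic.card_pow_eq_one_le (α := Z) (n := 2) two_pos
  have hsub : ({1, ⟨zb, hzZ⟩, ⟨ζ, hζ⟩} : Finset Z) ⊆ Finset.univ.filter fun x : Z => x ^ 2 = 1 := by
    intro x hx
    simp only [Finset.mem_insert, Finset.mem_singleton] at hx
    rw [Finset.mem_filter]
    refine ⟨Finset.mem_univ _, ?_⟩
    rcases hx with rfl | rfl | rfl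
    · simp
    · exact Subtype.ext (by simp [pow_two, hz2])
    · exact Subtype.ext (by simp [pow_two, h])
  have hcard := (Finset.card_le_card hsub).trans h2
  rw [Finset.card_insert_of_notMem (by simp [Subtype.ext_iff, Ne.symm hz1, Ne.symm hc.1]),
    Finset.card_insert_of_notMem (by simp [Subtype.ext_iff, Ne.symm hc.2]), Finset.card_singleton] at hcard
  omega

/-- A subgroup avoiding the involution of `Z` meets `Z` trivially. -/
theorem meet_trivial (L : Line H X t Z n 3 o δ) {zb : H} (hzZ : zb ∈ Z) (hz2 : zb * zb = 1) (hz1 : zb ≠ 1)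
    {S : Subgroup H} (hS : zb ∉ S) {s : H} (hs : s ∈ S) (hsZ : s ∈ Z) : s = 1 := by
  by_contra hne
  have h : orderOf s ∣ 2 ^ n := L.card_Z ▸ Subgroup.orderOf_dvd_natCard Z hsZ
  obtain ⟨k, -, hk⟩ := (Nat.dvd_prime_pow Nat.prime_two).1 h
  obtain ⟨j, rfl⟩ : ∃ j, k = j + 1 := ⟨k - 1, by
    rcases Nat.eq_zero_or_pos k with e | e
    · rw [e, pow_zero, orderOf_eq_one_iff] at hk; exact absurd hk hne
    · omega⟩
  have hsq : s ^ 2 ^ j * s ^ 2 ^ j = 1 := by
    rw [← pow_add, show 2 ^ j + 2 ^ j = 2 ^ (j + 1) by ring, ← hk, pow_orderOf_eq_one]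
  rcases unique_inv L hzZ hz2 hz1 (pow_mem hsZ _) hsq with e | e
  · have h1 := orderOf_dvd_of_pow_eq_one e
    rw [hk, Nat.pow_dvd_pow_iff_le_right one_lt_two] at h1
    omega
  · exact hS (e ▸ pow_mem hs _)

/-- **The elements for the positive sign.** -/
theorem pos_data (L : Line H X t Z n 3 o δ) (hδ : δ = 1) {zb : H} (hzZ : zb ∈ Z) (hz2 : zb * zb = 1) (hz1 : zb ≠ 1)
    (hs : ∃ s : H, s * t * s⁻¹ = t * zb) :
    ∃ y c : H, y ^ 3 = 1 ∧ y ≠ 1 ∧ (∃ a b : H, y = a * t * a⁻¹ * (b * t * b⁻¹)) ∧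
      zb ∈ closure ({y, c * y * c⁻¹} : Set H) := by
  classical
  obtain ⟨π, hsurj, hker, hfix⟩ := exists_perm L
  have hn : n = 1 ∧ o = 1 := by
    rcases line_consts L with ⟨-, h⟩ | ⟨h, -⟩
    · exact h
    · omega
  have ht2 : t * t = 1 := by rw [← pow_two, ← L.t_two]; exact pow_orderOf_eq_one t
  have htC : t ∈ centralizer ({t} : Set H) := mem_centralizer_singleton_iff.2 rfl
  have hτ : nfix (π t) = 2 := by
    rw [hfix]
    have := L.torus_fix t htC L.t_notMem
    rw [hδ] at this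
    exact_mod_cast this
  have hcen : ∀ h : H, Commute zb h := L.central_Z zb hzZ
  obtain ⟨η, h3, h1⟩ := perm_d1 _ hτ
  obtain ⟨r, rfl⟩ := hsurj η
  obtain ⟨r', hr'3, hr'π⟩ : ∃ r' : H, (t * (r' * t * r'⁻¹)) ^ 3 = 1 ∧
      π (t * (r' * t * r'⁻¹)) = π t * (π r * π t * (π r)⁻¹) := by
    set p := t * (r * t * r⁻¹) with hp
    have hpZ : p ^ 3 ∈ Z := (hker _).1 (by rw [map_pow, hp, map_mul, map_mul, map_mul, map_inv, pow_three']; exact h3)
    have hp2 : p ^ 3 * p ^ 3 = 1 := by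
      have h : (⟨p ^ 3, hpZ⟩ : Z) ^ Nat.card Z = 1 := pow_card_eq_one'
      rw [L.card_Z, hn.1, pow_one, pow_two] at h
      exact congrArg Subtype.val h
    rcases unique_inv L hzZ hz2 hz1 hpZ hp2 with e | e
    · exact ⟨r, e, by simp⟩
    · obtain ⟨s, hst⟩ := hs
      refine ⟨r * s, ?_, ?_⟩
      all_goals
        have hq : t * (r * s * t * (r * s)⁻¹) = p * zb := by
          calc t * (r * s * t * (r * s)⁻¹) = t * (r * (s * t * s⁻¹) * r⁻¹) := by group
            _ = t * (r * t * (zb * r⁻¹)) := by rw [hst]; group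
            _ = p * zb := by rw [(hcen r⁻¹).eq, hp]; group
        rw [hq]
      · rw [(hcen p).symm.mul_pow, e, pow_three', hz2, one_mul, hz2]
      · rw [map_mul, (hker zb).2 hzZ, mul_one, hp, map_mul, map_mul, map_mul, map_inv]
  obtain ⟨y, hy⟩ : ∃ y, y = t * (r' * t * r'⁻¹) := ⟨_, rfl⟩
  rw [← hy] at hr'3 hr'π
  have hy1 : y ≠ 1 := fun e => h1 (by rw [← hr'π, e, map_one])
  have hσ3 : π y * π y * π y = 1 := by rw [← map_mul, ← map_mul, ← pow_three', hr'3, map_one]
  have hσ1 : π y ≠ 1 := hr'π ▸ h1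
  have hu : (r' * t * r'⁻¹) * (r' * t * r'⁻¹) = 1 := by
    rw [show r' * t * r'⁻¹ * (r' * t * r'⁻¹) = r' * (t * t) * r'⁻¹ by group, ht2]; group
  have hti : t⁻¹ = t := inv_eq_of_mul_eq_one_right ht2
  have hinv : t * y * t⁻¹ = y⁻¹ := by
    rw [hy, mul_inv_rev, inv_eq_of_mul_eq_one_right hu, hti, ← mul_assoc t t, ht2, one_mul]
  obtain ⟨κ, hκτ, hP2, hP1, hPτ, hPc⟩ := perm_d2 _ (π y) hτ hσ3 hσ1 (by rw [← map_inv, ← map_inv, ← map_mul, ← map_mul, hinv])
  obtain ⟨c, rfl⟩ := hsurj κ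
  refine ⟨y, c, hr'3, hy1, ⟨1, r', by rw [hy]; group⟩, ?_⟩
  by_contra hzS
  set S := closure ({y, c * y * c⁻¹} : Set H) with hS
  have hyS : y ∈ S := subset_closure (Or.inl rfl)
  have hy'S : c * y * c⁻¹ ∈ S := subset_closure (Or.inr rfl)
  have hinv' : t * (c * y * c⁻¹) * t⁻¹ = (c * y * c⁻¹)⁻¹ := by
    set ζ := (c * t)⁻¹ * (t * c) with hζ
    have hζZ : ζ ∈ Z := (hker _).1 (by rw [hζ, map_mul, map_inv, map_mul, map_mul, hκτ, inv_mul_cancel])
    have hζc := L.central_Z ζ hζZ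
    have htc : t * c = c * t * ζ := by rw [hζ, mul_inv_cancel_left]
    calc t * (c * y * c⁻¹) * t⁻¹ = (t * c) * y * (t * c)⁻¹ := by group
      _ = c * t * (ζ * y * ζ⁻¹) * t⁻¹ * c⁻¹ := by rw [htc]; group
      _ = c * (t * y * t⁻¹) * c⁻¹ := by rw [(hζc y).eq, mul_inv_cancel_right]; group
      _ = (c * y * c⁻¹)⁻¹ := by rw [hinv]; group
  have hnorm : S ≤ S.comap (MulAut.conj t).toMonoidHom := by
    refine (closure_le _).2 ?_
    rintro x (rfl | rfl)
    · show t * x * t⁻¹ ∈ S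
      rw [hinv]; exact inv_mem hyS
    · show t * (c * y * c⁻¹) * t⁻¹ ∈ S
      rw [hinv']; exact inv_mem hy'S
  set d := y * (c * y * c⁻¹) * y with hd
  have hdS : d ∈ S := mul_mem (mul_mem hyS hy'S) hyS
  have hπd : π d = π y * (π c * π y * (π c)⁻¹) * π y := by rw [hd, map_mul, map_mul, map_mul, map_mul, map_inv]
  have hdt : Commute d t := by
    have h1 : t * d * t⁻¹ ∈ S := hnorm hdS
    have h2 : π (t * d * t⁻¹ * d⁻¹) = 1 := by
      rw [map_mul, map_mul, map_mul, map_inv, map_inv, hπd, hPc, mul_inv_cancel_right, mul_inv_cancel]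
    have h3 := meet_trivial L hzZ hz2 hz1 hzS (mul_mem h1 (inv_mem hdS)) ((hker _).1 h2)
    exact (mul_inv_eq_iff_eq_mul.1 (mul_inv_eq_one.1 h3)).symm
  have hfive : ({1, zb, t, t * zb, d} : Finset H) ⊆
      (Set.toFinite (centralizer ({t} : Set H) : Set H)).toFinset := by
    intro x hx
    simp only [Finset.mem_insert, Finset.mem_singleton] at hx
    rw [Set.Finite.mem_toFinset, SetLike.mem_coe, mem_centralizer_singleton_iff]
    rcases hx with rfl | rfl | rfl | rfl | rfl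
    · simp
    · exact (hcen t).eq
    · rfl
    · rw [mul_assoc, (hcen t).eq, ← mul_assoc]
    · exact hdt.eq
  have hπ1 : π t ≠ 1 := fun e => L.t_notMem ((hker t).1 e)
  have hπz : π zb = 1 := (hker zb).2 hzZ
  have hne : ∀ p q : H, π p ≠ π q → p ≠ q := fun p q h e => h (by rw [e])
  have hd1 : π d ≠ 1 := hπd ▸ hP1
  have hdτ : π d ≠ π t := hπd ▸ hPτ
  have h := Finset.card_le_card hfive
  rw [← Set.ncard_eq_toFinset_card _, ← Nat.card_coe_set_eq] at h
  rw [show Nat.card ↥(centralizer ({t} : Set H) : Set H) = 4 by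
    have := L.torus_card; rw [hn.1, hn.2] at this; exact this] at h
  rw [Finset.card_insert_of_notMem, Finset.card_insert_of_notMem, Finset.card_insert_of_notMem,
    Finset.card_insert_of_notMem, Finset.card_singleton] at h
  · omega
  all_goals simp only [Finset.mem_insert, Finset.mem_singleton, not_or]
  · exact hne _ _ (by rw [map_mul, hπz, mul_one]; exact hdτ.symm)
  · exact ⟨fun e => hz1 (mul_eq_left.1 e.symm), hne _ _ hdτ.symm⟩
  · exact ⟨hne _ _ (by rw [hπz]; exact hπ1.symm), hne _ _ (by rw [map_mul, hπz, mul_one]; exact hπ1.symm),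
      hne _ _ (by rw [hπz]; exact hd1.symm)⟩
  · exact ⟨hz1.symm, hne _ _ (by rw [map_one]; exact hπ1.symm),
      hne _ _ (by rw [map_one, map_mul, hπz, mul_one]; exact hπ1.symm), hne _ _ (by rw [map_one]; exact hd1.symm)⟩

/-- **The elements for the negative sign.** -/
theorem neg_data (L : Line H X t Z n 3 o δ) (hδ : δ = -1) {zb : H} (hzZ : zb ∈ Z) (hz2 : zb * zb = 1) (hz1 : zb ≠ 1) :
    ∃ y c k : H, y ^ 3 = 1 ∧ y ≠ 1 ∧ zb ∈ closure ({y, c * y * c⁻¹} : Set H) ∧ k * y * k⁻¹ = y⁻¹ ∧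
      (k * t * k⁻¹ = t ∨ k * t * k⁻¹ = t * zb) ∧
      (t * (y * t * y⁻¹) * t = y * t * y⁻¹ ∨ t * (y * t * y⁻¹) * t = zb * (y * t * y⁻¹)) := by
  classical
  obtain ⟨π, hsurj, hker, hfix⟩ := exists_perm L
  have hn : n = 2 := by
    rcases line_consts L with ⟨h, -⟩ | ⟨-, h, -⟩
    · omega
    · exact h
  have ht2 : t * t = 1 := by rw [← pow_two, ← L.t_two]; exact pow_orderOf_eq_one t
  have htC : t ∈ centralizer ({t} : Set H) := mem_centralizer_singleton_iff.2 rfl
  have hτ : nfix (π t) = 0 := by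
    rw [hfix]
    have := L.torus_fix t htC L.t_notMem
    rw [hδ] at this
    omega
  have hτ2 : π t * π t = 1 := by rw [← map_mul, ht2, map_one]
  have hcen : ∀ h : H, Commute zb h := L.central_Z zb hzZ
  haveI : Fact (Nat.Prime 3) := ⟨Nat.prime_three⟩
  obtain ⟨y, hy⟩ := exists_prime_orderOf_dvd_card' (G := H) 3 (by rw [L.card_H]; exact Dvd.dvd.mul_left ⟨8, by norm_num⟩ _)
  have hy3 : y ^ 3 = 1 := by rw [← hy]; exact pow_orderOf_eq_one y
  have hy1 : y ≠ 1 := fun e => by rw [e, orderOf_one] at hy; omega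
  have hσ1 : π y ≠ 1 := fun e => by
    have h : orderOf y ∣ Nat.card Z := Subgroup.orderOf_dvd_natCard Z ((hker y).1 e)
    rw [hy, L.card_Z, hn] at h
    norm_num at h
  have hσ3 : π y * π y * π y = 1 := by rw [← map_mul, ← map_mul, ← pow_three', hy3, map_one]
  obtain ⟨κ, hP2, hP1, hQP, hPQ, hτP⟩ := perm_d3 _ _ hτ hτ2 hσ3 hσ1
  obtain ⟨c, rfl⟩ := hsurj κ
  obtain ⟨k₀, hk1, hk2⟩ := perm_d3k _ _ hτ hτ2 hσ3 hσ1
  obtain ⟨k, rfl⟩ := hsurj k₀
  refine ⟨y, c, k, hy3, hy1, ?_, ?_, ?_, ?_⟩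
  · by_contra hzS
    set S := closure ({y, c * y * c⁻¹} : Set H) with hS
    have hyS : y ∈ S := subset_closure (Or.inl rfl)
    have hy'S : c * y * c⁻¹ ∈ S := subset_closure (Or.inr rfl)
    have hinj : ∀ p ∈ S, ∀ q ∈ S, π p = π q → p = q := fun p hp q hq e =>
      mul_inv_eq_one.1 (meet_trivial L hzZ hz2 hz1 hzS (mul_mem hp (inv_mem hq))
        ((hker _).1 (by rw [map_mul, map_inv, e, mul_inv_cancel])))
    obtain ⟨d, hd⟩ : ∃ d, d = y * (c * y * c⁻¹) := ⟨_, rfl⟩
    obtain ⟨d', hd'⟩ : ∃ d', d' = y * d * y⁻¹ := ⟨_, rfl⟩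
    have hdS : d ∈ S := hd ▸ mul_mem hyS hy'S
    have hd'S : d' ∈ S := hd' ▸ mul_mem (mul_mem hyS hdS) (inv_mem hyS)
    have hπd : π d = π y * (π c * π y * (π c)⁻¹) := by rw [hd, map_mul, map_mul, map_mul, map_inv]
    have hπd' : π d' = π y * (π y * (π c * π y * (π c)⁻¹)) * (π y)⁻¹ := by rw [hd', map_mul, map_mul, map_inv, hπd]
    have hdd : Commute d' d := hinj _ (mul_mem hd'S hdS) _ (mul_mem hdS hd'S) (by
      rw [map_mul, map_mul, hπd, hπd']; exact hPQ)
    obtain ⟨e, heS, he, hec, hec'⟩ : ∃ e ∈ S, π e = π t ∧ π d * π e = π e * π d ∧ π d' * π e = π e * π d' := by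
      have key : ∀ P Q T : P4, P * P = 1 → Q = π y * P * (π y)⁻¹ → Q * P = P * Q →
          (T = P ∨ T = Q ∨ T = π y * π y * P * (π y * π y)⁻¹) → P * T = T * P ∧ Q * T = T * Q := by
        intro P Q T hPP hQ hc hT
        rcases hT with rfl | rfl | rfl
        · exact ⟨rfl, hc⟩
        · exact ⟨hc.symm, rfl⟩
        · have hR : π y * π y * P * (π y * π y)⁻¹ = π y * Q * (π y)⁻¹ := by rw [hQ]; group
          have hRQ : Commute (π y * π y * P * (π y * π y)⁻¹) Q := by
            have h := (show Commute Q P from hc).map (MulAut.conj (π y))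
            rw [MulAut.conj_apply, MulAut.conj_apply, ← hR, ← hQ] at h
            exact h
          have hy3' : (π y)⁻¹ = π y * π y := inv_eq_of_mul_eq_one_right (by rw [← mul_assoc]; exact hσ3)
          refine ⟨?_, hRQ.symm.eq⟩
          have h := (show Commute Q P from hc).map (MulAut.conj (π y * π y))
          rw [MulAut.conj_apply, MulAut.conj_apply] at h
          rw [show π y * π y * Q * (π y * π y)⁻¹ = π y * π y * π y * P * (π y * π y * π y)⁻¹ by rw [hQ]; group,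
            hσ3, one_mul, inv_one, mul_one] at h
          exact h.eq
      rcases hτP with h | h | h
      · obtain ⟨k1, k2⟩ := key _ _ _ hP2 rfl hPQ (Or.inl h)
        exact ⟨d, hdS, by rw [hπd, ← h], rfl, by rw [hπd, hπd']; exact hPQ⟩
      · exact ⟨d', hd'S, by rw [hπd', ← h], by rw [hπd, hπd']; exact hPQ.symm, rfl⟩
      · obtain ⟨k1, k2⟩ := key _ _ _ hP2 rfl hPQ (Or.inr (Or.inr rfl))
        refine ⟨y * y * d * (y * y)⁻¹, mul_mem (mul_mem (mul_mem hyS hyS) hdS) (inv_mem (mul_mem hyS hyS)), ?_, ?_, ?_⟩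
        · rw [map_mul, map_mul, map_inv, map_mul, hπd]; exact h.symm
        · rw [map_mul π _ (y * y)⁻¹, map_mul π _ d, map_inv, map_mul π y y, hπd]; exact k1
        · rw [map_mul π _ (y * y)⁻¹, map_mul π _ d, map_inv, map_mul π y y, hπd, hπd']; exact k2
    have hcomm : ∀ p ∈ S, π p * π e = π e * π p → Commute p t := by
      intro p hp hpe
      have h1 : Commute p e := hinj _ (mul_mem hp heS) _ (mul_mem heS hp) (by rw [map_mul, map_mul, hpe])
      have hζ : e⁻¹ * t ∈ Z := (hker _).1 (by rw [map_mul, map_inv, he, inv_mul_cancel])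
      have h2 := h1.mul_right (L.central_Z _ hζ p).symm
      rwa [mul_inv_cancel_left] at h2
    obtain ⟨a, -, hgen⟩ := L.torus_gen
    have hpw : ∀ p : H, Commute p t → ∃ i : Fin 12, π p = π a ^ i.1 := by
      intro p hp
      obtain ⟨i, hi⟩ := hgen p (mem_centralizer_singleton_iff.2 hp.eq)
      refine ⟨⟨((-i) % 12).toNat, by omega⟩, ?_⟩
      have h1 : π p = π a ^ (-i) := by
        have := (hker _).2 hi
        rw [map_mul, map_zpow, mul_eq_one_iff_eq_inv] at this
        rw [this, zpow_neg]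
      rw [h1, ← zpow_natCast (π a), show (((-i) % 12).toNat : ℤ) = (-i) % 12 by omega]
      conv_lhs => rw [← Int.emod_add_mul_ediv (-i) 12, zpow_add, zpow_mul,
        show (π a) ^ (12 : ℤ) = 1 from perm_d12 _, one_zpow, mul_one]
    obtain ⟨i, hi⟩ := hpw d (hcomm d hdS hec)
    obtain ⟨j, hj⟩ := hpw d' (hcomm d' hd'S hec')
    have hd'2 : π d' * π d' = 1 := by
      rw [hπd', show ∀ p q : P4, p * q * p⁻¹ * (p * q * p⁻¹) = p * (q * q) * p⁻¹ from fun p q => by group, hP2]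
      group
    have h4 := perm_d4 (π a) i j (hi ▸ hπd ▸ hP2) (hj ▸ hd'2) (hi ▸ hπd ▸ hP1) (by
      rw [← hj, hπd']
      intro e1
      refine hP1 ?_
      rw [mul_inv_eq_one, mul_eq_left] at e1
      exact e1)
    rw [← hi, ← hj, hπd, hπd'] at h4
    exact hQP h4.symm
  · have hζ : y * (k * y * k⁻¹) ∈ Z := (hker _).1 (by rw [map_mul, map_mul, map_mul, map_inv, hk1, mul_inv_cancel])
    set ζ := y * (k * y * k⁻¹) with hζdef
    have hk : k * y * k⁻¹ = y⁻¹ * ζ := by rw [hζdef, inv_mul_cancel_left]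
    have h3 : ζ ^ 3 = 1 := by
      have h := congrArg (· ^ 3) hk
      simp only [conj_pow, hy3, mul_one, mul_inv_cancel, (L.central_Z ζ hζ y⁻¹).symm.mul_pow, inv_pow, inv_one,
        one_mul] at h
      exact h.symm
    have h4 : ζ ^ 4 = 1 := by
      have h : (⟨ζ, hζ⟩ : Z) ^ Nat.card Z = 1 := pow_card_eq_one'
      rw [L.card_Z, hn] at h
      exact congrArg Subtype.val h
    rw [pow_succ, h3, one_mul] at h4
    rw [hk, h4, mul_one]
  · have hζ : t⁻¹ * (k * t * k⁻¹) ∈ Z := (hker _).1 (by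
      rw [map_mul, map_mul, map_mul, map_inv, map_inv, hk2, mul_inv_cancel_right, inv_mul_cancel])
    set ζ := t⁻¹ * (k * t * k⁻¹) with hζdef
    have hk : k * t * k⁻¹ = t * ζ := by rw [hζdef, mul_inv_cancel_left]
    have hsq : ζ * ζ = 1 := by
      have h : (t * ζ) * (t * ζ) = 1 := by
        rw [← hk, show k * t * k⁻¹ * (k * t * k⁻¹) = k * (t * t) * k⁻¹ by group, ht2]; group
      rwa [(L.central_Z ζ hζ t).mul_mul_mul_comm, ht2, one_mul] at h
    rcases unique_inv L hzZ hz2 hz1 hζ hsq with e | e <;> rw [e] at hk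
    · left; rwa [mul_one] at hk
    · exact Or.inr hk
  · set t₁ := y * t * y⁻¹ with ht₁
    have hζ : t * t₁ * t * t₁⁻¹ ∈ Z := (hker _).1 (by
      rw [map_mul, map_mul, map_mul, map_inv, ht₁, map_mul, map_mul, map_inv, perm_d6 _ (π y) hτ hτ2, mul_inv_cancel])
    set ζ := t * t₁ * t * t₁⁻¹ with hζdef
    have hk : t * t₁ * t = ζ * t₁ := by rw [hζdef, inv_mul_cancel_right]
    have ht12 : t₁ * t₁ = 1 := by
      rw [ht₁, show y * t * y⁻¹ * (y * t * y⁻¹) = y * (t * t) * y⁻¹ by group, ht2]; group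
    have hsq : ζ * ζ = 1 := by
      have h : (ζ * t₁) * (ζ * t₁) = 1 := by
        rw [← hk]
        calc t * t₁ * t * (t * t₁ * t) = t * (t₁ * ((t * t) * t₁)) * t := by group
          _ = 1 := by rw [ht2, one_mul, ht12, mul_one, ht2]
      rwa [(L.central_Z ζ hζ t₁).symm.mul_mul_mul_comm, ht12, mul_one] at h
    rcases unique_inv L hzZ hz2 hz1 hζ hsq with e | e <;> rw [e] at hk
    · left; rwa [one_mul] at hk
    · exact Or.inr hk

/-- Lifting membership in a generated subgroup. -/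
theorem mem_closure_lift {K : Type u} [Group K] (ψ : K →* H) {z y c : K} {zb yb cb : H} (hy : ψ y = yb)
    (hc : ψ c = cb) (h : zb ∈ closure ({yb, cb * yb * cb⁻¹} : Set H)) (hz : ψ z = zb := by rfl) :
    z ∈ closure ({y, c * y * c⁻¹} ∪ (ψ.ker : Set K)) := by
  subst hy hc hz
  have hm : ψ z ∈ (closure ({y, c * y * c⁻¹} ∪ (ψ.ker : Set K))).map ψ := by
    rw [MonoidHom.map_closure]
    refine closure_mono ?_ h
    rintro x (rfl | rfl)
    · exact ⟨y, Or.inl (Or.inl rfl), rfl⟩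
    · exact ⟨c * y * c⁻¹, Or.inl (Or.inr rfl), by simp⟩
  obtain ⟨w, hw, hwz⟩ := hm
  rw [show z = w * (w⁻¹ * z) from (mul_inv_cancel_left _ _).symm]
  refine mul_mem hw (subset_closure (Or.inr ?_))
  rw [SetLike.mem_coe, MonoidHom.mem_ker, map_mul, map_inv, hwz, inv_mul_cancel]

variable {G : Type u} [Group G] [Fintype G] {z t' g : G} {C : Subgroup G} [Fintype C] {φ : C →* H}
  {b : IrrCharacter G}

/-- **For three elements the core is trivial.** -/
theorem ker_eq_bot (D : Setting X z t' g C φ Z n 3 o δ b) (hC : ∀ c : G, Commute z c → c ∈ C) : φ.ker = ⊥ := by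
  classical
  haveI : φ.ker.Normal := MonoidHom.normal_ker φ
  haveI := Fintype.ofFinite φ.ker
  set zC : C := ⟨z, D.z_mem⟩ with hzC
  set tC : C := ⟨t', D.t_mem⟩ with htC
  set zb := φ zC with hzb
  set tb := φ tC with htb
  have L : Line H X tb Z n 3 o δ := D.line
  have hodd : Odd (Nat.card φ.ker) := Nat.not_even_iff_odd.1 (by rw [even_iff_two_dvd]; exact D.ker_odd)
  have hoddel : ∀ x ∈ φ.ker, ¬ 2 ∣ orderOf x := fun x hx h =>
    D.ker_odd (h.trans (Subgroup.orderOf_dvd_natCard _ hx))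
  have hzo : orderOf zC = 2 := by rw [← Subgroup.orderOf_coe]; exact D.z2
  have hto : orderOf tC = 2 := by rw [← Subgroup.orderOf_coe]; exact D.t2
  have hz2 : zC * zC = 1 := by rw [← pow_two, ← hzo, pow_orderOf_eq_one]
  have ht2 : tC * tC = 1 := by rw [← pow_two, ← hto, pow_orderOf_eq_one]
  have hzc : ∀ c : C, Commute zC c := fun c => Subtype.ext (D.le_cent c c.2).eq
  have hzb1 : zb ≠ 1 := fun e => hoddel zC e (by rw [hzo])
  have hzb2 : zb * zb = 1 := by rw [hzb, ← map_mul, hz2, map_one]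
  have hb := IsIrrCharacter.isClassFunction b.2
  have hconsts := line_consts L
  have hfix1 : Nat.card (MulAction.fixedBy X (1 : H)) = 4 := by
    rw [Nat.card_congr (Equiv.subtypeUnivEquiv fun x => by simp)]; exact L.card_X
  have hfix : ∀ x : C, ∀ h : H, φ x = h → stein X δ (φ x) = (δ : ℂ) * ((Nat.card (MulAction.fixedBy X h) : ℂ) - 1) :=
    fun x h e => by rw [e, stein]; simp [InvolChar.WLine.fix]
  -- values on `z O`
  have hvz : ∀ x ∈ φ.ker, (b : G → ℂ) ((zC * x : C) : G) = -3 * (δ : ℂ) := fun x hx => by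
    rw [Subgroup.coe_mul]
    show (b : G → ℂ) (z * (x : G)) = _
    rw [D.b_sect x (hoddel x hx), hfix x 1 (MonoidHom.mem_ker.1 hx), hfix1]
    push_cast
    ring
  -- values on `t O`
  have hvt : ∀ x ∈ φ.ker, (b : G → ℂ) ((tC * x : C) : G) = -3 * (δ : ℂ) := by
    intro x hx
    set w := tC * x with hw
    have hwφ : φ w = tb := by rw [hw, map_mul, MonoidHom.mem_ker.1 hx, mul_one]
    obtain ⟨k, hk⟩ := hodd
    have hww : w * w ∈ φ.ker := by
      rw [MonoidHom.mem_ker, map_mul, hwφ, htb, ← map_mul, ht2, map_one]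
    have hwpow : (w * w) ^ (2 * k + 1) = 1 := by
      rw [← hk]
      exact (SubgroupClass.coe_pow _ _).symm.trans
        (congrArg Subtype.val (pow_card_eq_one' (x := (⟨w * w, hww⟩ : φ.ker))))
    set t₂ := w ^ (2 * k + 1) with ht₂
    have ht₂2 : t₂ * t₂ = 1 := by rw [ht₂, ← (Commute.refl w).mul_pow, hwpow]
    have ht₂φ : φ t₂ = tb := by
      rw [ht₂, map_pow, hwφ, pow_succ, pow_mul, pow_two, htb, ← map_mul, ht2, map_one, one_pow, one_mul]
    have hprod : tC * t₂ ∈ φ.ker := by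
      rw [MonoidHom.mem_ker, map_mul, ht₂φ, htb, ← map_mul, ht2, map_one]
    obtain ⟨l, hl⟩ : ∃ l, orderOf (tC * t₂) = 2 * l + 1 := (Nat.odd_iff.2 (Nat.two_dvd_ne_zero.1 (hoddel _ hprod)))
    set s := (tC * t₂) ^ l with hs
    have hst : s * tC * s⁻¹ = t₂ := by
      have hflip : ∀ m : ℕ, tC * (tC * t₂) ^ m * tC = ((tC * t₂) ^ m)⁻¹ := by
        intro m
        have h1 : tC * (tC * t₂) * tC⁻¹ = (tC * t₂)⁻¹ := by
          rw [mul_inv_rev, inv_eq_of_mul_eq_one_right ht2, inv_eq_of_mul_eq_one_right ht₂2, ← mul_assoc tC tC,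
            ht2, one_mul]
        have h2 := congrArg (· ^ m) h1
        simp only [conj_pow, inv_pow] at h2
        rwa [inv_eq_of_mul_eq_one_right ht2] at h2
      have h3 : tC * s⁻¹ = s * tC := by
        rw [hs, ← hflip l, ← mul_assoc, ← mul_assoc, ht2, one_mul]
      calc s * tC * s⁻¹ = s * (tC * s⁻¹) := mul_assoc _ _ _
        _ = (tC * t₂) ^ (2 * l) * tC := by rw [h3, ← mul_assoc, hs, ← pow_add, two_mul]
        _ = (tC * t₂)⁻¹ * tC := by
          congr 1
          exact eq_inv_of_mul_eq_one_left (by rw [← pow_succ, ← hl, pow_orderOf_eq_one])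
        _ = t₂ := by
          rw [mul_inv_rev, inv_eq_of_mul_eq_one_right ht2, inv_eq_of_mul_eq_one_right ht₂2, mul_assoc, ht2, mul_one]
    set w' := s⁻¹ * w * s with hw'
    have hw'c : Commute w' tC := by
      have h1 : Commute w t₂ := (Commute.refl w).pow_right _
      rw [← hst] at h1
      have h2 := h1.map (MulAut.conj s⁻¹)
      simp only [MulAut.conj_apply, inv_inv] at h2
      rwa [show s⁻¹ * (s * tC * s⁻¹) * s = tC by group, ← hw'] at h2
    set a := tC * w' with ha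
    have haC : Commute tC a := (Commute.refl tC).mul_right hw'c.symm
    have hak : a ∈ φ.ker := by
      have hs1 : φ s = 1 := by rw [hs, map_pow, MonoidHom.mem_ker.1 hprod, one_pow]
      rw [MonoidHom.mem_ker, ha, hw', map_mul, map_mul, map_mul, map_inv, hs1, hwφ, htb, inv_one, one_mul,
        mul_one, ← map_mul, ht2, map_one]
    have haG : Commute t' (a : G) := congrArg Subtype.val haC.eq
    have hgz : Commute z (g * (a : G) * g⁻¹) := by
      have h2 := haG.map (MulAut.conj g)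
      simp only [MulAut.conj_apply] at h2
      rwa [D.g_t] at h2
    set a' : C := ⟨g * (a : G) * g⁻¹, hC _ hgz⟩ with ha'
    have ha'odd : ¬ 2 ∣ orderOf a' := by
      rw [← Subgroup.orderOf_coe, show ((a' : C) : G) = MulAut.conj g (a : G) from rfl,
        (MulAut.conj g).orderOf_eq, Subgroup.orderOf_coe]
      exact hoddel a hak
    have ha't : Commute tC a' := Subtype.ext (by
      have h1 : Commute z (a : G) := D.le_cent a a.2
      have h2 := h1.map (MulAut.conj g)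
      simp only [MulAut.conj_apply] at h2
      rw [D.g_z] at h2
      exact h2.eq)
    have ha'φ : φ a' = 1 := by
      by_contra hne
      have hm : φ a' ∈ centralizer ({tb} : Set H) :=
        mem_centralizer_singleton_iff.2 (ha't.map φ).eq.symm
      have h1 := Subgroup.orderOf_dvd_natCard _ hm
      rw [L.torus_card] at h1
      have hoH : Odd (orderOf (φ a')) :=
        (Nat.odd_iff.2 (Nat.two_dvd_ne_zero.1 ha'odd)).of_dvd_nat (orderOf_map_dvd φ a')
      rcases hconsts with ⟨-, -, ho⟩ | ⟨-, -, ho⟩ <;>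
      · rw [ho, mul_one, ← pow_add] at h1
        obtain ⟨j, -, hj⟩ := (Nat.dvd_prime_pow Nat.prime_two).1 h1
        rw [hj] at hoH
        rcases Nat.eq_zero_or_pos j with e | e
        · rw [e, pow_zero, orderOf_eq_one_iff] at hj; exact hne hj
        · exact Nat.not_even_iff_odd.2 hoH (Nat.even_pow.2 ⟨even_two, e.ne'⟩)
    have e1 : ((tC * x : C) : G) = (s : G) * (t' * (a : G)) * (s : G)⁻¹ := by
      rw [← hw, show t' = (tC : G) from rfl, ← Subgroup.coe_mul, ← Subgroup.coe_inv, ← Subgroup.coe_mul, ← Subgroup.coe_mul]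
      congr 1
      rw [ha, ← mul_assoc tC tC, ht2, one_mul, hw']; group
    have e2 : g * (t' * (a : G)) * g⁻¹ = z * (a' : G) := by
      show g * (t' * (a : G)) * g⁻¹ = z * (g * (a : G) * g⁻¹)
      rw [← D.g_t]; group
    rw [e1, hb, ← hb (t' * (a : G)) g, e2, D.b_sect a' ha'odd, hfix a' 1 ha'φ, hfix1]
    push_cast
    ring
  -- values on `t z O`
  have hvtz : ∀ x ∈ φ.ker, (b : G → ℂ) ((tC * zC * x : C) : G) = -3 * (δ : ℂ) := by
    intro x hx
    obtain ⟨s, hs⟩ := D.tz_conj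
    have hs' : s * tC * s⁻¹ = tC * zC := Subtype.ext hs
    rw [← hs', show s * tC * s⁻¹ * x = s * (tC * (s⁻¹ * x * s⁻¹⁻¹)) * s⁻¹ by group]
    rw [Subgroup.coe_mul, Subgroup.coe_mul, Subgroup.coe_inv, hb]
    exact hvt _ (Subgroup.Normal.conj_mem inferInstance x hx s⁻¹)
  -- values on `y z O`
  have hvy : ∀ y : C, φ y ^ 3 = 1 → φ y ≠ 1 → ∀ x ∈ φ.ker, (b : G → ℂ) ((y * zC * x : C) : G) = 0 := by
    intro y hy3 hy1 x hx
    obtain ⟨π, -, hker, hfixπ⟩ := exists_perm L
    have hyx : y * zC * x = zC * (y * x) := by rw [← (hzc y).eq, mul_assoc]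
    rw [hyx, Subgroup.coe_mul]
    show (b : G → ℂ) (z * ((y * x : C) : G)) = 0
    have hφ : φ (y * x) = φ y := by rw [map_mul, MonoidHom.mem_ker.1 hx, mul_one]
    have hodd3 : ¬ 2 ∣ orderOf (y * x) := by
      have hm : (y * x) ^ 3 ∈ φ.ker := by rw [MonoidHom.mem_ker, map_pow, hφ, hy3]
      have h : (y * x) ^ (3 * Nat.card φ.ker) = 1 := by
        rw [pow_mul]
        exact (SubgroupClass.coe_pow _ _).symm.trans
          (congrArg Subtype.val (pow_card_eq_one' (x := (⟨(y * x) ^ 3, hm⟩ : φ.ker))))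
      exact (((by decide : Odd 3).mul hodd).of_dvd_nat (orderOf_dvd_of_pow_eq_one h)).not_two_dvd_nat
    have hπ1 : π (φ y) ≠ 1 := fun e => by
      have h1 := Subgroup.orderOf_dvd_natCard _ ((hker _).1 e)
      have h2 : orderOf (φ y) = 3 := orderOf_eq_prime (hp := ⟨Nat.prime_three⟩) hy3 hy1
      rw [h2, L.card_Z] at h1
      exact absurd (Nat.prime_three.dvd_of_dvd_pow h1) (by norm_num)
    have h1 := perm_d5 (π (φ y)) (by rw [← map_mul, ← map_mul, ← pow_three', hy3, map_one]) hπ1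
    rw [D.b_sect _ hodd3, hfix (y * x) (φ y) hφ, ← hfixπ, h1]
    simp
  -- the representation
  obtain ⟨m, ρ, -, hρ⟩ := b.2
  set σ : Representation ℂ C (Fin m → ℂ) := ρ.comp C.subtype with hσ
  have hchar : ∀ x : C, σ.character x = (b : G → ℂ) (x : G) := fun x => congrFun hρ (x : G)
  have hdeg : (Module.finrank ℂ (Fin m → ℂ) : ℂ) = ((δ : ℂ) * 3) ^ 2 + (δ : ℂ) * 3 + 1 := by
    rw [← Representation.char_one ρ, congrFun hρ 1, D.b_one]; norm_num
  have hinj : Function.Injective σ := fun p q e => by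
    refine mul_inv_eq_one.1 (D.b_ker _ ?_)
    have h1 : σ (p * q⁻¹) = 1 := by rw [map_mul, e, ← map_mul, mul_inv_cancel, map_one]
    rw [← hchar, Representation.character]
    show LinearMap.trace ℂ _ (σ (p * q⁻¹)) = _
    rw [h1, LinearMap.trace_one, ← congrFun hρ 1, Representation.char_one]
  have hval : ∀ (k : C) (c : ℂ), (∀ x ∈ φ.ker, (b : G → ℂ) ((k * x : C) : G) = c) →
      ∀ x ∈ φ.ker, σ.character (k * x) = c := fun k c h x hx => (hchar _).trans (h x hx)
  rcases hconsts with ⟨hδ, -, -⟩ | ⟨hδ, -, -⟩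
  · obtain ⟨sC, hsC⟩ := D.tz_conj
    have hs' : φ sC * tb * (φ sC)⁻¹ = tb * zb := by
      rw [htb, hzb, ← map_inv, ← map_mul, ← map_mul, ← map_mul]; exact congrArg φ (Subtype.ext hsC)
    obtain ⟨yb, cb, hy3, hy1, ⟨ab, bb, hyab⟩, hgen⟩ := pos_data L hδ D.z_bar hzb2 hzb1 ⟨_, hs'⟩
    obtain ⟨aC, rfl⟩ := D.surj ab
    obtain ⟨bC, rfl⟩ := D.surj bb
    obtain ⟨cC, rfl⟩ := D.surj cb
    set y := aC * tC * aC⁻¹ * (bC * tC * bC⁻¹) with hy
    have hyφ : φ y = yb := by rw [hy, hyab, map_mul, map_mul, map_mul, map_mul, map_mul, map_inv, map_inv]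
    have hdim : Module.finrank ℂ (Fin m → ℂ) = 13 := by
      rw [hδ] at hdeg; norm_num at hdeg; rw [Module.finrank_fin_fun]; exact_mod_cast hdeg
    have hδ' : (-3 * (δ : ℂ)) = -3 := by rw [hδ]; norm_num
    have h := fixed_pos σ φ.ker hdim (z := zC) (t := tC) (y := y) hz2 hzc ht2
      (hval _ _ fun x hx => (hvz x hx).trans hδ') (hval _ _ fun x hx => (hvt x hx).trans hδ')
      (hval _ _ fun x hx => (hvtz x hx).trans hδ') (hval _ _ (hvy y (hyφ ▸ hy3) (hyφ ▸ hy1)))
      (hval _ _ (hvy (y ^ 2) (by rw [map_pow, hyφ, ← pow_mul, pow_mul', hy3, one_pow])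
        (by rw [map_pow, hyφ]; intro e; exact hy1 (by rw [← hy3, pow_succ, e, one_mul]))))
      (by rw [MonoidHom.mem_ker, map_pow, hyφ, hy3]) ⟨aC, bC, 1, one_mem _, by rw [mul_one]⟩
      ⟨cC, mem_closure_lift φ hyφ rfl hgen⟩
    exact (eq_bot_iff_forall _).2 fun x hx => hinj ((h x hx).trans (map_one σ).symm)
  · obtain ⟨yb, cb, kb, hy3, hy1, hgen, hky, hkt, hcm⟩ := neg_data L hδ D.z_bar hzb2 hzb1
    obtain ⟨y, hyφ⟩ := D.surj yb
    obtain ⟨cC, rfl⟩ := D.surj cb
    obtain ⟨kC, rfl⟩ := D.surj kb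
    have hdim : Module.finrank ℂ (Fin m → ℂ) = 7 := by
      rw [hδ] at hdeg; norm_num at hdeg; rw [Module.finrank_fin_fun]; exact_mod_cast hdeg
    have hδ' : (-3 * (δ : ℂ)) = 3 := by rw [hδ]; norm_num
    refine fixed_neg σ φ.ker hodd hinj hdim (z := zC) (t := tC) (y := y) (c := cC) (k := kC) hz2 hzc ht2
      (hval _ _ fun x hx => (hvz x hx).trans hδ') (hval _ _ fun x hx => (hvt x hx).trans hδ')
      (hval _ _ fun x hx => (hvtz x hx).trans hδ') (hval _ _ (hvy y (hyφ ▸ hy3) (hyφ ▸ hy1)))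
      (by rw [MonoidHom.mem_ker, map_pow, hyφ, hy3]) (mem_closure_lift φ hyφ rfl hgen) ?_ ?_ ?_
    · refine ⟨y * (kC * y * kC⁻¹), ?_, (inv_mul_cancel_left _ _).symm⟩
      rw [MonoidHom.mem_ker, map_mul, map_mul, map_mul, map_inv, hyφ, hky, mul_inv_cancel]
    · rcases hkt with h | h
      · refine ⟨tC⁻¹ * (kC * tC * kC⁻¹), ?_, Or.inl (mul_inv_cancel_left _ _).symm⟩
        rw [MonoidHom.mem_ker, map_mul, map_mul, map_mul, map_inv, map_inv, ← htb, h, inv_mul_cancel]
      · refine ⟨(tC * zC)⁻¹ * (kC * tC * kC⁻¹), ?_, Or.inr (mul_inv_cancel_left _ _).symm⟩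
        rw [MonoidHom.mem_ker, map_mul, map_mul, map_mul, map_inv, map_inv, map_mul, ← htb, ← hzb, h, inv_mul_cancel]
    · rcases hcm with h | h
      · refine ⟨tC * (y * tC * y⁻¹) * tC * (y * tC * y⁻¹)⁻¹, ?_, Or.inl (inv_mul_cancel_right _ _).symm⟩
        rw [MonoidHom.mem_ker]
        simp only [map_mul, map_inv, hyφ, ← htb]
        rw [h, mul_inv_cancel]
      · refine ⟨zC⁻¹ * (tC * (y * tC * y⁻¹) * tC * (y * tC * y⁻¹)⁻¹), ?_,
          Or.inr (by rw [mul_inv_cancel_left, inv_mul_cancel_right])⟩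
        rw [MonoidHom.mem_ker]
        simp only [map_mul, map_inv, hyφ, ← htb, ← hzb]
        rw [h, mul_inv_cancel_right, inv_mul_cancel]

end Cfsg.Agent.SDBudget.Three
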