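import Cfsg.Agent.Lib.SDBudget.Three
import Cfsg.Agent.Lib.LThreeRec.Three
import Cfsg.Agent.Lib.U3Recog.Main

/-!
# The case of three elements: recognition (owner: helper58)

* `equiv_line` : in the setting with `q = 3` the group `C` is isomorphic to `H`
* `three_linear` : `PSL₃(3)` or order 7920
* `three_unitary` : `PSU₃(3)`, given the order
-/

set_option autoImplicit false
set_option linter.unusedSectionVars false
set_option linter.style.haveILetI false

namespace Cfsg.Agent.SDBudget.Three

open Subgroup Cfsg Cfsg.Agent.SDKeystone.Budget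

universe u v w

variable {G : Type u} [Group G] [Fintype G] {H : Type v} [Group H] [Finite H] {X : Type w} [MulAction H X]
  {z t g : G} {C : Subgroup G} [Fintype C] {φ : C →* H} {Z : Subgroup H} {n o : ℕ} {δ : ℤ} {b : IrrCharacter G}

/-- For `q = 3` the group `C` is the group of the line. -/
theorem equiv_line (D : Setting X z t g C φ Z n 3 o δ b) (hC : C = centralizer ({z} : Set G)) :
    Nonempty (C ≃* H) :=
  ⟨MulEquiv.ofBijective φ ⟨(MonoidHom.ker_eq_bot_iff φ).1 (ker_eq_bot D fun _ h =>
    hC ▸ mem_centralizer_singleton_iff.2 h.eq.symm), D.surj⟩⟩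

/-- **Linear recognition at three.** -/
theorem three_linear [IsSimpleGroup G] (D : Setting X z t g C φ Z n 3 o δ b)
    (hC : C = centralizer ({z} : Set G)) {F : Type*} [Field F] [Fintype F] (h3 : Fintype.card F = 3)
    (e : H ≃* GL (Fin 2) F) :
    Nonempty (G ≃* Matrix.ProjectiveSpecialLinearGroup (Fin 3) F) ∨ Cfsg.IsM11 G := by
  obtain ⟨f⟩ := equiv_line D hC
  exact LThreeRec.three h3 ⊥ bot_le (by rw [card_bot]; exact odd_one) z D.z2
    ⟨(MulEquiv.subgroupCongr hC.symm).trans (f.trans (e.trans QuotientGroup.quotientBot.symm))⟩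

/-- **Unitary recognition at three.** -/
theorem three_unitary [IsSimpleGroup G] (D : Setting X z t g C φ Z n 3 o δ b)
    (hC : C = centralizer ({z} : Set G)) {F : Type*} [Field F] [Fintype F] (h9 : Fintype.card F = 3 ^ 2)
    (e : H ≃* Cfsg.GU 2 F 3) (hcard : Nat.card G = 6048) : Nonempty (G ≃* Cfsg.PSU 3 F 3) := by
  obtain ⟨f⟩ := equiv_line D hC
  exact U3Recog.iso_of_card (by decide) h9 ⊥ bot_le (by rw [card_bot]; exact odd_one) z D.z2
    ⟨(MulEquiv.subgroupCongr hC.symm).trans (f.trans (e.trans QuotientGroup.quotientBot.symm))⟩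
    (by rw [card_bot, mul_one, hcard]; norm_num)

end Cfsg.Agent.SDBudget.Three
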