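import Cfsg.Agent.EqLemmas
import Mathlib.LinearAlgebra.Trace
import Mathlib.RepresentationTheory.Character
import Mathlib.Analysis.Complex.Basic

/-!
# The fixed space of the core at three elements (owner: helper58)

A representation `σ` of a group `K` over an odd normal subgroup `O` with the trace values of the small
character on the cosets `z O`, `t O`, `z t O`, `z y O` is trivial on `O`.

* `fixed_pos` : degree 13, values `-3`
-/

set_option autoImplicit false
set_option linter.unusedSectionVars false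
set_option linter.style.haveILetI false

namespace Cfsg.Agent.SDBudget.Three

open Module

universe u w

variable {V : Type w} [AddCommGroup V] [Module ℂ V] [FiniteDimensional ℂ V]

local notation "tr" => LinearMap.trace ℂ V

/-- The trace of an idempotent is the dimension of its range. -/
theorem idem_trace {e : Module.End ℂ V} (he : e * e = e) : tr e = (finrank ℂ (LinearMap.range e) : ℂ) :=
  ((LinearMap.isProj_range_iff_isIdempotentElem e).2 he).trace

theorem idem_zero {e : Module.End ℂ V} (he : e * e = e) (h : tr e = 0) : e = 0 :=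
  (LinearMap.IsIdempotentElem.trace_eq_zero_iff he).1 h

/-- The halves of an idempotent under a commuting involution. -/
theorem half {e T : Module.End ℂ V} (he : e * e = e) (hT : T * T = 1) (hc : Commute T e) :
    ((1 / 2 : ℂ) • (e + T * e)) * ((1 / 2 : ℂ) • (e + T * e)) = (1 / 2 : ℂ) • (e + T * e) := by
  have h1 : (e + T * e) * (e + T * e) = (2 : ℂ) • (e + T * e) := by
    have hTe : e * (T * e) = T * e := by rw [← mul_assoc, ← hc.eq, mul_assoc, he]
    have hTT : T * e * (T * e) = e := by rw [mul_assoc, hTe, ← mul_assoc, hT, one_mul]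
    have hTe' : T * e * e = T * e := by rw [mul_assoc, he]
    rw [add_mul, mul_add, mul_add, he, hTe, hTe', hTT, two_smul]
    abel
  rw [smul_mul_assoc, mul_smul_comm, h1, smul_smul, smul_smul]
  norm_num

theorem half_nat {e T : Module.End ℂ V} (he : e * e = e) (hT : T * T = 1) (hc : Commute T e) :
    ∃ k : ℕ, tr e + tr (T * e) = 2 * (k : ℂ) ∧ (k = 0 → T * e = -e) := by
  refine ⟨finrank ℂ (LinearMap.range ((1 / 2 : ℂ) • (e + T * e))), ?_, fun hk => ?_⟩
  · have h := idem_trace (half he hT hc)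
    rw [map_smul, map_add, smul_eq_mul] at h
    rw [← h]; ring
  · have h := idem_zero (half he hT hc) (by rw [idem_trace (half he hT hc), hk]; simp)
    have h2 : e + T * e = 0 := by
      have := congrArg ((2 : ℂ) • ·) h
      simp only [smul_smul, smul_zero] at this
      norm_num at this
      exact this
    exact eq_neg_of_add_eq_zero_right h2

theorem half_nat' {e T : Module.End ℂ V} (he : e * e = e) (hT : T * T = 1) (hc : Commute T e) :
    ∃ k : ℕ, tr e - tr (T * e) = 2 * (k : ℂ) ∧ (k = 0 → T * e = e) := by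
  obtain ⟨k, hk, h0⟩ := half_nat he (T := -T) (by rw [neg_mul_neg, hT]) hc.neg_left
  refine ⟨k, by rw [← hk, neg_mul, map_neg]; ring, fun h => ?_⟩
  have := h0 h
  rw [neg_mul, neg_inj] at this
  exact this

/-- Two large subspaces of a third meet. -/
theorem exists_common {e₁ e₂ f : Module.End ℂ V} (h₁ : e₁ * e₁ = e₁) (h₂ : e₂ * e₂ = e₂) (hf : f * f = f)
    (g₁ : f * e₁ = e₁) (g₂ : f * e₂ = e₂) {a b c : ℕ} (t₁ : tr e₁ = a) (t₂ : tr e₂ = b) (t₃ : tr f = c)
    (habc : c < a + b) : ∃ v : V, v ≠ 0 ∧ e₁ v = v ∧ e₂ v = v ∧ f v = v := by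
  have d₁ : finrank ℂ (LinearMap.range e₁) = a := Nat.cast_injective (R := ℂ) ((idem_trace h₁).symm.trans t₁)
  have d₂ : finrank ℂ (LinearMap.range e₂) = b := Nat.cast_injective (R := ℂ) ((idem_trace h₂).symm.trans t₂)
  have d₃ : finrank ℂ (LinearMap.range f) = c := Nat.cast_injective (R := ℂ) ((idem_trace hf).symm.trans t₃)
  have hle : ∀ e : Module.End ℂ V, f * e = e → LinearMap.range e ≤ LinearMap.range f := by
    rintro e he _ ⟨v, rfl⟩
    exact ⟨e v, by rw [← Module.End.mul_apply, he]⟩
  have hfix : ∀ e : Module.End ℂ V, e * e = e → ∀ v ∈ LinearMap.range e, e v = v := by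
    rintro e he _ ⟨v, rfl⟩
    rw [← Module.End.mul_apply, he]
  have hsum := Submodule.finrank_sup_add_finrank_inf_eq (LinearMap.range e₁) (LinearMap.range e₂)
  have hsup := Submodule.finrank_mono (sup_le (hle _ g₁) (hle _ g₂))
  have hpos : LinearMap.range e₁ ⊓ LinearMap.range e₂ ≠ ⊥ := fun h => by
    rw [h, finrank_bot] at hsum
    omega
  obtain ⟨v, hv, hv0⟩ := Submodule.exists_mem_ne_zero_of_ne_bot hpos
  exact ⟨v, hv0, hfix _ h₁ v hv.1, hfix _ h₂ v hv.2, hfix _ hf v (hle _ g₁ hv.1)⟩

variable {K : Type u} [Group K] (σ : Representation ℂ K V) (O : Subgroup K) [Fintype O]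

/-- The projection on the fixed space. -/
noncomputable def proj : Module.End ℂ V := (Fintype.card O : ℂ)⁻¹ • ∑ o : O, σ o

theorem mul_proj {o : K} (ho : o ∈ O) : σ o * proj σ O = proj σ O := by
  rw [proj, mul_smul_comm, Finset.mul_sum]
  congr 1
  refine Fintype.sum_equiv (Equiv.mulLeft ⟨o, ho⟩) _ _ fun x => ?_
  rw [← map_mul]; rfl

theorem proj_idem : proj σ O * proj σ O = proj σ O := by
  nth_rw 1 [proj]
  rw [smul_mul_assoc, Finset.sum_mul, Finset.sum_congr rfl fun (o : O) _ => mul_proj σ O o.2,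
    Finset.sum_const, Finset.card_univ, ← Nat.cast_smul_eq_nsmul ℂ, smul_smul,
    inv_mul_cancel₀ (Nat.cast_ne_zero.2 Fintype.card_ne_zero), one_smul]

theorem comm_proj [hO : O.Normal] (k : K) : Commute (σ k) (proj σ O) := by
  show σ k * proj σ O = proj σ O * σ k
  rw [proj, mul_smul_comm, smul_mul_assoc, Finset.mul_sum, Finset.sum_mul]
  congr 1
  refine Fintype.sum_equiv
    { toFun := fun o : O => (⟨k * (o : K) * k⁻¹, hO.conj_mem _ o.2 k⟩ : O)
      invFun := fun o : O => (⟨k⁻¹ * (o : K) * k⁻¹⁻¹, hO.conj_mem _ o.2 k⁻¹⟩ : O)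
      left_inv := fun o => Subtype.ext (by group)
      right_inv := fun o => Subtype.ext (by group) } _ _ fun o => ?_
  show σ k * σ o = σ (k * o * k⁻¹) * σ k
  rw [← map_mul, ← map_mul, inv_mul_cancel_right]

theorem trace_proj (k : K) {c : ℂ} (h : ∀ o ∈ O, σ.character (k * o) = c) : tr (σ k * proj σ O) = c := by
  rw [proj, mul_smul_comm, Finset.mul_sum, map_smul, map_sum,
    Finset.sum_congr rfl fun (o : O) _ => show tr (σ k * σ o) = c by rw [← map_mul]; exact h o o.2,
    Finset.sum_const, Finset.card_univ, nsmul_eq_mul, smul_eq_mul, ← mul_assoc,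
    inv_mul_cancel₀ (Nat.cast_ne_zero.2 Fintype.card_ne_zero), one_mul]

theorem eq_one_of_proj (h : proj σ O = 1) {o : K} (ho : o ∈ O) : σ o = 1 := by
  have := mul_proj σ O ho
  rwa [h, mul_one] at this

/-- `e = (p + z p) / 2`. -/
noncomputable def evenPart (z : K) : Module.End ℂ V :=
  (1 / 2 : ℂ) • (proj σ O + σ z * proj σ O)

/-- `f = (p - z p) / 2`. -/
noncomputable def oddPart (z : K) : Module.End ℂ V :=
  (1 / 2 : ℂ) • (proj σ O + -σ z * proj σ O)

section parts

variable [O.Normal] {z : K} (hz : z * z = 1) (hzc : ∀ k : K, Commute z k)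
include hz

theorem sq_one : σ z * σ z = 1 := by rw [← map_mul, hz, map_one]

theorem even_idem : evenPart σ O z * evenPart σ O z = evenPart σ O z :=
  half (proj_idem σ O) (sq_one σ hz) (comm_proj σ O z)

theorem odd_idem : oddPart σ O z * oddPart σ O z = oddPart σ O z :=
  half (proj_idem σ O) (by rw [neg_mul_neg, sq_one σ hz]) (comm_proj σ O z).neg_left

include hzc

theorem comm_even (k : K) : Commute (σ k) (evenPart σ O z) :=
  ((comm_proj σ O k).add_right (((hzc k).symm.map σ).mul_right (comm_proj σ O k))).smul_right _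

theorem comm_odd (k : K) : Commute (σ k) (oddPart σ O z) :=
  ((comm_proj σ O k).add_right ((((hzc k).symm.map σ).neg_right).mul_right (comm_proj σ O k))).smul_right _

omit hzc in
theorem z_odd : σ z * oddPart σ O z = -oddPart σ O z := by
  rw [oddPart, mul_smul_comm, mul_add, ← smul_neg, neg_add, ← mul_assoc, mul_neg, sq_one σ hz,
    neg_mul, one_mul, neg_mul, neg_neg, add_comm]

omit hzc in
theorem z_even : σ z * evenPart σ O z = evenPart σ O z := by
  rw [evenPart, mul_smul_comm, mul_add, ← mul_assoc, sq_one σ hz, one_mul, add_comm]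

omit hz hzc in
theorem trace_even (k : K) {c d : ℂ} (h1 : ∀ o ∈ O, σ.character (k * o) = c)
    (h2 : ∀ o ∈ O, σ.character (k * z * o) = d) : tr (σ k * evenPart σ O z) = (c + d) / 2 := by
  rw [evenPart, mul_smul_comm, map_smul, mul_add, map_add, ← mul_assoc, ← map_mul, trace_proj σ O k h1,
    trace_proj σ O _ h2, smul_eq_mul]
  ring

omit hz hzc in
theorem trace_odd (k : K) {c d : ℂ} (h1 : ∀ o ∈ O, σ.character (k * o) = c)
    (h2 : ∀ o ∈ O, σ.character (k * z * o) = d) : tr (σ k * oddPart σ O z) = (c - d) / 2 := by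
  rw [oddPart, mul_smul_comm, map_smul, mul_add, map_add, ← mul_assoc, mul_neg, ← map_mul, neg_mul, map_neg,
    trace_proj σ O k h1, trace_proj σ O _ h2, smul_eq_mul]
  ring

omit hz hzc in
/-- An element congruent to a product of two conjugates of `t` fixes what `t` moves to its negative or fixes. -/
theorem prod_fix {e : Module.End ℂ V} (he : ∀ k : K, Commute (σ k) e) (hOe : ∀ o ∈ O, σ o * e = e) {t y : K}
    (hy : ∃ c d o : K, o ∈ O ∧ y = c * t * c⁻¹ * (d * t * d⁻¹) * o) (ht : σ t * e = e ∨ σ t * e = -e) :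
    σ y * e = e := by
  obtain ⟨c, d, o, ho, rfl⟩ := hy
  have hconj : ∀ c : K, σ (c * t * c⁻¹) * e = σ c * (σ t * e) * σ c⁻¹ := fun c => by
    rw [map_mul, map_mul, mul_assoc _ (σ c⁻¹) e, (he c⁻¹).eq]; simp only [mul_assoc]
  have hcc : ∀ c : K, σ c * e * σ c⁻¹ = e := fun c => by
    rw [(he c).eq, mul_assoc, ← map_mul, mul_inv_cancel, map_one, mul_one]
  rw [map_mul, mul_assoc, hOe o ho, map_mul, mul_assoc, hconj d]
  rcases ht with h | h
  · rw [h, hcc, hconj, h, hcc]
  · rw [h, mul_neg, neg_mul, hcc, mul_neg, hconj, h, mul_neg, neg_mul, hcc, neg_neg]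

omit hzc in
theorem O_even (o : K) (ho : o ∈ O) : σ o * evenPart σ O z = evenPart σ O z := by
  rw [evenPart, mul_smul_comm, mul_add, mul_proj σ O ho, (comm_proj σ O z).eq, ← mul_assoc, mul_proj σ O ho]

omit hzc in
theorem O_odd (o : K) (ho : o ∈ O) : σ o * oddPart σ O z = oddPart σ O z := by
  rw [oddPart, mul_smul_comm, mul_add, mul_proj σ O ho, neg_mul, mul_neg, (comm_proj σ O z).eq, ← mul_assoc,
    mul_proj σ O ho]

end parts

/-- **Degree 13.** -/
theorem fixed_pos [O.Normal] (hdim : finrank ℂ V = 13) {z t y : K} (hz : z * z = 1)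
    (hzc : ∀ k : K, Commute z k) (ht : t * t = 1) (hvz : ∀ o ∈ O, σ.character (z * o) = -3)
    (hvt : ∀ o ∈ O, σ.character (t * o) = -3) (hvzt : ∀ o ∈ O, σ.character (t * z * o) = -3)
    (hvy : ∀ o ∈ O, σ.character (y * z * o) = 0) (hvy2 : ∀ o ∈ O, σ.character (y ^ 2 * z * o) = 0)
    (hy3 : y ^ 3 ∈ O) (hyt : ∃ c d o : K, o ∈ O ∧ y = c * t * c⁻¹ * (d * t * d⁻¹) * o)
    (hgen : ∃ c : K, z ∈ Subgroup.closure ({y, c * y * c⁻¹} ∪ (O : Set K))) :
    ∀ o ∈ O, σ o = 1 := by
  obtain ⟨d, hd⟩ : ∃ d : ℕ, tr (proj σ O) = d := ⟨_, idem_trace (proj_idem σ O)⟩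
  have hd13 : d ≤ 13 := by
    rw [← hdim, show d = finrank ℂ (LinearMap.range (proj σ O)) from
      Nat.cast_injective (R := ℂ) (hd.symm.trans (idem_trace (proj_idem σ O)))]
    exact Submodule.finrank_le _
  set e := evenPart σ O z with he
  set f := oddPart σ O z with hf
  have hei := even_idem σ O hz
  have hfi := odd_idem σ O hz
  have te : tr e = ((d : ℂ) - 3) / 2 := by
    rw [he, evenPart, map_smul, map_add, hd, trace_proj σ O z hvz, smul_eq_mul]; ring
  have tf : tr f = ((d : ℂ) + 3) / 2 := by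
    rw [hf, oddPart, map_smul, map_add, hd, neg_mul, map_neg, trace_proj σ O z hvz, smul_eq_mul]; ring
  obtain ⟨k₁, hk₁, hk₁0⟩ := half_nat hei (sq_one σ ht) (comm_even σ O hz hzc t)
  rw [te, trace_even σ O t hvt hvzt] at hk₁
  have hkd : d = 9 + 4 * k₁ := by
    have : (d : ℂ) = ((9 + 4 * k₁ : ℕ) : ℂ) := by push_cast; linear_combination 2 * hk₁
    exact_mod_cast this
  rcases (by omega : k₁ = 0 ∨ k₁ = 1) with rfl | rfl
  · exfalso
    have htm := hk₁0 rfl
    have hye : σ y * e = e := prod_fix σ O (comm_even σ O hz hzc) (O_even σ O hz) hyt (Or.inr htm)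
    have hy2e : σ (y ^ 2) * e = e := by rw [pow_two, map_mul, mul_assoc, hye, hye]
    have htr : ∀ w : K, σ w * e = e → (∀ o ∈ O, σ.character (w * z * o) = 0) → tr (σ w * f) = 3 := by
      intro w hw hv
      have hwd : Commute (σ w) (σ z) := (hzc w).symm.map σ
      have h1 : tr (σ w * proj σ O) = 6 := by
        have h2 : tr (σ w * e) = tr e := by rw [hw]
        rw [te, he, evenPart, mul_smul_comm, map_smul, mul_add, map_add, ← mul_assoc, ← map_mul,
          trace_proj σ O _ hv, smul_eq_mul, hkd] at h2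
        push_cast at h2
        linear_combination 2 * h2
      rw [hf, oddPart, mul_smul_comm, map_smul, mul_add, map_add, ← mul_assoc, mul_neg, ← map_mul, neg_mul,
        map_neg, trace_proj σ O _ hv, h1, smul_eq_mul]
      norm_num
    have hY : ∀ k : K, Commute (σ k) f := comm_odd σ O hz hzc
    set ey : Module.End ℂ V := (1 / 3 : ℂ) • (f + σ y * f + σ (y ^ 2) * f) with hey
    have hY3 : σ y * (σ (y ^ 2) * f) = f := by
      rw [← mul_assoc, ← map_mul, ← pow_succ', O_odd σ O hz _ hy3]
    have hYe : σ y * ey = ey := by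
      rw [hey, mul_smul_comm, mul_add, mul_add, hY3, ← mul_assoc, ← map_mul, ← pow_two]
      congr 1
      abel
    have hfe : f * ey = ey := by
      rw [hey, mul_smul_comm, mul_add, mul_add, hfi, ← mul_assoc, ← (hY y).eq, mul_assoc, hfi, ← mul_assoc,
        ← (hY (y ^ 2)).eq, mul_assoc, hfi]
    have heyi : ey * ey = ey := by
      nth_rw 1 [hey]
      rw [smul_mul_assoc, add_mul, add_mul, hfe, mul_assoc, hfe, hYe, mul_assoc, hfe, pow_two, map_mul,
        mul_assoc, hYe, hYe, show ey + ey + ey = (3 : ℂ) • ey by module, smul_smul]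
      norm_num
    have tey : tr ey = ((4 : ℕ) : ℂ) := by
      rw [hey, map_smul, map_add, map_add, tf, htr y hye hvy, htr (y ^ 2) hy2e hvy2, hkd, smul_eq_mul]
      norm_num
    obtain ⟨c, hc⟩ := hgen
    set ey' := σ c * ey * σ c⁻¹ with hey'
    have hcc : σ c⁻¹ * σ c = 1 := by rw [← map_mul, inv_mul_cancel, map_one]
    have hey'i : ey' * ey' = ey' := by
      rw [hey']
      calc σ c * ey * σ c⁻¹ * (σ c * ey * σ c⁻¹) = σ c * (ey * (σ c⁻¹ * σ c) * ey) * σ c⁻¹ := by noncomm_ring
        _ = σ c * ey * σ c⁻¹ := by rw [hcc, mul_one, heyi]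
    have hfe' : f * ey' = ey' := by
      rw [hey', ← mul_assoc, ← mul_assoc, ← (hY c).eq, mul_assoc (σ c), hfe]
    have tey' : tr ey' = ((4 : ℕ) : ℂ) := by
      rw [hey', LinearMap.trace_mul_comm, ← mul_assoc, hcc, one_mul, tey]
    have tf' : tr f = ((6 : ℕ) : ℂ) := by rw [tf, hkd]; norm_num
    obtain ⟨v, hv0, hv1, hv2, hvf⟩ := exists_common heyi hey'i hfi hfe hfe' tey tey' tf' (by norm_num)
    let S : Subgroup K :=
      { carrier := {k | σ k v = v}
        one_mem' := by
          show σ 1 v = v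
          rw [map_one, Module.End.one_apply]
        mul_mem' := fun {a b} (ha : σ a v = v) (hb : σ b v = v) => by
          show σ (a * b) v = v
          rw [map_mul, Module.End.mul_apply, hb, ha]
        inv_mem' := fun {a} (ha : σ a v = v) => by
          show σ a⁻¹ v = v
          conv_lhs => rw [← ha, ← Module.End.mul_apply, ← map_mul, inv_mul_cancel, map_one, Module.End.one_apply] }
    have hzS : z ∈ S := by
      refine (Subgroup.closure_le S).2 ?_ hc
      rintro k ((rfl | rfl) | hk)
      · show σ k v = v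
        conv_lhs => rw [← hv1, ← Module.End.mul_apply, hYe]
        exact hv1
      · show σ (c * y * c⁻¹) v = v
        conv_lhs => rw [← hv2, ← Module.End.mul_apply]
        have : σ (c * y * c⁻¹) * ey' = ey' := by
          rw [hey', map_mul, map_mul]
          calc σ c * σ y * σ c⁻¹ * (σ c * ey * σ c⁻¹) = σ c * (σ y * (σ c⁻¹ * σ c) * ey) * σ c⁻¹ := by
                noncomm_ring
            _ = σ c * ey * σ c⁻¹ := by rw [hcc, mul_one, hYe]
        rw [this]; exact hv2
      · show σ k v = v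
        conv_lhs => rw [← hvf, ← Module.End.mul_apply, O_odd σ O hz k hk]
        exact hvf
    have hneg : σ z v = -v := by
      conv_lhs => rw [← hvf, ← Module.End.mul_apply, z_odd σ O hz]
      rw [LinearMap.neg_apply, hvf]
    have hzv : σ z v = v := hzS
    rw [hzv] at hneg
    have h2 : (2 : ℂ) • v = 0 := by rw [two_smul]; nth_rw 2 [hneg]; exact add_neg_cancel v
    exact hv0 ((smul_eq_zero.1 h2).resolve_left two_ne_zero)
  · intro o ho
    refine eq_one_of_proj σ O ?_ ho
    have hid : (1 - proj σ O) * (1 - proj σ O) = 1 - proj σ O := by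
      rw [sub_mul, mul_sub, mul_sub, proj_idem]; simp
    have := idem_zero hid (by rw [map_sub, LinearMap.trace_one, hd, hdim, hkd]; norm_num)
    exact (sub_eq_zero.1 this).symm

end Cfsg.Agent.SDBudget.Three
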